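import Cfsg.Agent.StdL2.SFive.Four

/-!
# S1773, `q = 4`, `N(A)/C(A) = S₅`: `C_T(A)` has order 2
-/

set_option autoImplicit false
set_option linter.unusedSectionVars false
set_option linter.style.haveILetI false

open Subgroup

namespace Cfsg.Agent.StdL2.SFive

open Cfsg.Agent.StdL2.FieldStart

namespace CaseA

variable {G : Type*} [Group G] [Finite G] {t : G} {V R T : Subgroup G}

theorem isSyl (F : Fld t V R T) : IsSyl (centralizer ({t} : Set G)) T :=
  ⟨F.T2, fun x hx => mem_centralizer_singleton_iff.2 (F.Tt x hx),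
    fun P hP hTP hPt => F.Tmax P hP hTP (fun x hx => mem_centralizer_singleton_iff.1 (hPt hx))⟩

theorem two_pow (F : Fld t V R T) {x : G} (hx : x ∈ T) : ∃ k, x ^ 2 ^ k = 1 := by
  obtain ⟨k, hk⟩ := F.T2 ⟨x, hx⟩
  exact ⟨k, by simpa using congrArg Subtype.val hk⟩

/-- two elements of `T` moving `V` differ by an element centralising `V` -/
theorem inv_mul_cent (F : Fld t V R T) (V4 : Nat.card V = 4) {x y : G} (hx : x ∈ T) (hy : y ∈ T)
    (hxm : ∃ v ∈ V, x * v ≠ v * x) (hym : ∃ v ∈ V, y * v ≠ v * y) :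
    ∀ v ∈ V, (x⁻¹ * y) * v = v * (x⁻¹ * y) :=
  F.uniq x hx y hy (move4_two V4 F.vsq (two_pow F hx) (F.Vn x hx))
    (move4_two V4 F.vsq (two_pow F hy) (F.Vn y hy)) hxm hym

/-- a non-trivial element of `R` has a power which is a square root of `t`, unless it is `t`. -/
theorem exists_root (F : Fld t V R T) {r : G} (hr : r ∈ R) (hr1 : r ≠ 1) (hrt : r ≠ t) :
    ∃ n : ℕ, r ^ n * r ^ n = t := by
  classical
  obtain ⟨k, hk⟩ := two_pow F (F.RT hr)
  have hex : ∃ k, r ^ 2 ^ k = 1 := ⟨k, hk⟩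
  have hspec := Nat.find_spec hex
  have h1 : 2 ≤ Nat.find hex := by
    by_contra hcon
    have h2 : r * r = 1 := by
      rcases Nat.eq_zero_or_pos (Nat.find hex) with h3 | h3
      · rw [h3, pow_zero, pow_one] at hspec
        rw [hspec, one_mul]
      · have h4 : Nat.find hex = 1 := by omega
        rw [h4, pow_one, pow_two] at hspec
        exact hspec
    rcases F.eq_of_sq hr h2 with h3 | h3
    · exact hr1 h3
    · exact hrt h3
  obtain ⟨j, hj⟩ : ∃ j, Nat.find hex = j + 2 := ⟨Nat.find hex - 2, by omega⟩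
  refine ⟨2 ^ j, ?_⟩
  have h2 : r ^ 2 ^ j * r ^ 2 ^ j = r ^ 2 ^ (j + 1) := by
    rw [← pow_add, pow_succ, mul_two]
  have h3 : r ^ 2 ^ (j + 1) ≠ 1 := Nat.find_min hex (by omega)
  have h4 : r ^ 2 ^ (j + 1) * r ^ 2 ^ (j + 1) = 1 := by
    rw [← pow_add, ← mul_two, ← pow_succ]
    rw [hj] at hspec
    exact hspec
  rw [h2]
  exact (F.eq_of_sq (R.pow_mem hr _) h4).resolve_left h3

/-- Step 1: the normaliser of `T` centralises `t` -/
theorem norm_T (F : Fld t V R T) (V4 : Nat.card V = 4)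
    (Rn : ∀ x ∈ T, ∀ r ∈ R, x * r * x⁻¹ ∈ R) (hR : ∃ r ∈ R, r ≠ 1 ∧ r ≠ t) {n : G}
    (hn : n ∈ normalizer (T : Set G)) : n * t * n⁻¹ = t := by
  by_contra hne
  have hnT : ∀ {x : G}, x ∈ T → n * x * n⁻¹ ∈ T := fun hx => Fld.norm_conj hn hx
  have hnT' : ∀ {x : G}, x ∈ T → n⁻¹ * x * n ∈ T := fun hx => Fld.norm_conj' hn hx
  -- `R ∩ Rⁿ = 1`
  have hdisj : ∀ z ∈ R, n⁻¹ * z * n ∈ R → z = 1 := by
    intro z hz hz'
    by_contra hz1
    have h1 : ∃ m : ℕ, z ^ m = t := by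
      by_cases hzt : z = t
      · exact ⟨1, by rw [pow_one, hzt]⟩
      · obtain ⟨m, hm⟩ := exists_root F hz hz1 hzt
        exact ⟨m + m, by rw [pow_add, hm]⟩
    obtain ⟨m, hm⟩ := h1
    have h2 : n⁻¹ * t * n ∈ R := by
      have h3 := R.pow_mem hz' m
      have h4 : (n⁻¹ * z * n) ^ m = n⁻¹ * z ^ m * n := by
        have := conj_pow (i := m) (a := n⁻¹) (b := z)
        rwa [inv_inv] at this
      rwa [h4, hm] at h3
    have h5 : (n⁻¹ * t * n) * (n⁻¹ * t * n) = 1 := by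
      calc (n⁻¹ * t * n) * (n⁻¹ * t * n) = n⁻¹ * (t * t) * n := by group
        _ = 1 := by rw [F.t2]; group
    rcases F.eq_of_sq h2 h5 with h6 | h6
    · apply F.t1
      have : t = n * (n⁻¹ * t * n) * n⁻¹ := by group
      rw [this, h6]; group
    · apply hne
      have : n * t * n⁻¹ = n * (n⁻¹ * t * n) * n⁻¹ := by rw [h6]
      rw [this]; group
  obtain ⟨r, hr, hr1, hrt⟩ := hR
  set a := n * r * n⁻¹ with ha
  have haT : a ∈ T := hnT (F.RT hr)
  -- conjugates of `R`-elements under `n` are normalised by `T`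
  have hconj : ∀ s ∈ T, n⁻¹ * (s * a⁻¹ * s⁻¹) * n ∈ R := by
    intro s hs
    have h1 := Rn _ (hnT' hs) _ (R.inv_mem hr)
    have h2 : n⁻¹ * s * n * r⁻¹ * (n⁻¹ * s * n)⁻¹ = n⁻¹ * (s * a⁻¹ * s⁻¹) * n := by
      rw [ha]; group
    rwa [h2] at h1
  have hcomm : ∀ s ∈ R, a * s = s * a := by
    intro s hs
    have h1 : a * s * a⁻¹ * s⁻¹ ∈ R := R.mul_mem (Rn a haT s hs) (R.inv_mem hs)
    have h2 : n⁻¹ * (a * s * a⁻¹ * s⁻¹) * n ∈ R := by
      have h3 := R.mul_mem (show n⁻¹ * a * n ∈ R by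
        have : n⁻¹ * a * n = r := by rw [ha]; group
        rw [this]; exact hr) (hconj s (F.RT hs))
      have h4 : n⁻¹ * a * n * (n⁻¹ * (s * a⁻¹ * s⁻¹) * n) = n⁻¹ * (a * s * a⁻¹ * s⁻¹) * n := by
        group
      rwa [h4] at h3
    have h5 := hdisj _ h1 h2
    calc a * s = (a * s * a⁻¹ * s⁻¹) * (s * a) := by group
      _ = s * a := by rw [h5, one_mul]
  -- `a` moves `V`
  have ham : ∃ v ∈ V, a * v ≠ v * a := by
    by_contra hcon
    push Not at hcon
    obtain ⟨r', hr', v', hv', hav⟩ := F.cent a haT hcon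
    have h1 : a * a = r' * r' := by
      rw [hav]
      calc r' * v' * (r' * v') = r' * (v' * r') * v' := by group
        _ = r' * (r' * v') * v' := by rw [F.rv r' hr' v' hv']
        _ = (r' * r') * (v' * v') := by group
        _ = r' * r' := by rw [F.vsq v' hv', mul_one]
    have h2 : a * a = 1 := by
      apply hdisj
      · rw [h1]; exact R.mul_mem hr' hr'
      · have : n⁻¹ * (a * a) * n = r * r := by rw [ha]; group
        rw [this]; exact R.mul_mem hr hr
    have h3 : r * r = 1 := by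
      have : r * r = n⁻¹ * (a * a) * n := by rw [ha]; group
      rw [this, h2]; group
    rcases F.eq_of_sq hr h3 with h | h
    · exact hr1 h
    · exact hrt h
  -- `T` centralises `R`
  have hRab : ∀ r ∈ R, ∀ s ∈ R, r * s = s * r := by
    intro r hr s hs
    haveI := F.Rcyc
    have h1 := (IsCyclic.isMulCommutative (α := R)).is_comm.comm ⟨r, hr⟩ ⟨s, hs⟩
    exact congrArg Subtype.val h1
  have hcent : ∀ x ∈ T, (∀ v ∈ V, x * v = v * x) → ∀ s ∈ R, x * s = s * x := by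
    intro x hx hxV s hs
    obtain ⟨r', hr', v', hv', rfl⟩ := F.cent x hx hxV
    calc r' * v' * s = r' * (v' * s) := by group
      _ = r' * (s * v') := by rw [F.rv s hs v' hv']
      _ = (r' * s) * v' := by group
      _ = s * (r' * v') := by rw [hRab r' hr' s hs]; group
  have hall : ∀ x ∈ T, ∀ s ∈ R, x * s = s * x := by
    intro x hx s hs
    by_cases hxV : ∀ v ∈ V, x * v = v * x
    · exact hcent x hx hxV s hs
    · push Not at hxV
      have h1 := inv_mul_cent F V4 haT hx ham hxV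
      have h2 := hcent _ (T.mul_mem (T.inv_mem haT) hx) h1 s hs
      calc x * s = a * ((a⁻¹ * x) * s) := by group
        _ = (a * s) * (a⁻¹ * x) := by rw [h2]; group
        _ = s * x := by rw [hcomm s hs]; group
  -- so `a` is central in `T`
  obtain ⟨v, hv, hav⟩ := ham
  apply hav
  have h1 := hall _ (hnT' (F.VT hv)) r hr
  calc a * v = n * (r * (n⁻¹ * v * n)) * n⁻¹ := by rw [ha]; group
    _ = n * ((n⁻¹ * v * n) * r) * n⁻¹ := by rw [h1]
    _ = v * a := by rw [ha]; group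

/-- Step 2: `T` is a Sylow 2-subgroup of `G` -/
theorem isSyl_top (F : Fld t V R T) (V4 : Nat.card V = 4)
    (Rn : ∀ x ∈ T, ∀ r ∈ R, x * r * x⁻¹ ∈ R) (hR : ∃ r ∈ R, r ≠ 1 ∧ r ≠ t) : IsSyl ⊤ T := by
  haveI : Fact (Nat.Prime 2) := ⟨Nat.prime_two⟩
  refine ⟨F.T2, le_top, fun P hP hTP _ => ?_⟩
  by_contra hcon
  have hlt : T < P := lt_of_le_of_ne hTP (fun e => hcon (e ▸ le_refl _))
  obtain ⟨n, hnP, hnT, hnN⟩ := exists_normalizer_gt hP hlt
  have e := norm_T F V4 Rn hR hnN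
  rw [mul_inv_eq_iff_eq_mul] at e
  apply hnT
  have h1 : IsPGroup 2 (T ⊔ zpowers n : Subgroup G) :=
    hP.to_le (by rw [sup_le_iff, zpowers_le]; exact ⟨hTP, hnP⟩)
  have h2 : (T ⊔ zpowers n : Subgroup G) ≤ centralizer {t} := by
    rw [sup_le_iff, zpowers_le]
    exact ⟨fun x hx => mem_centralizer_singleton_iff.2 (F.Tt x hx),
      mem_centralizer_singleton_iff.2 e⟩
  exact F.Tmax _ h1 le_sup_left (fun x hx => mem_centralizer_singleton_iff.1 (h2 hx))
    ((le_sup_right : zpowers n ≤ T ⊔ zpowers n) (mem_zpowers n))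

/-- central conjugates of `t` in `T` -/
theorem central_conj (F : Fld t V R T) (V4 : Nat.card V = 4)
    (Rn : ∀ x ∈ T, ∀ r ∈ R, x * r * x⁻¹ ∈ R) (hR : ∃ r ∈ R, r ≠ 1 ∧ r ≠ t) {h : G}
    (hz : ∀ x ∈ T, x * (h * t * h⁻¹) = h * t * h⁻¹ * x) : h * t * h⁻¹ = t := by
  haveI : Fact (Nat.Prime 2) := ⟨Nat.prime_two⟩
  set z := h * t * h⁻¹ with hzdef
  have hS := isSyl_top F V4 Rn hR
  have hTz : T ≤ centralizer ({z} : Set G) := fun x hx => mem_centralizer_singleton_iff.2 (hz x hx)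
  have hSz : IsSyl (centralizer ({z} : Set G)) T :=
    ⟨F.T2, hTz, fun P hP hTP _ => hS.2.2 P hP hTP le_top⟩
  have h2 : IsPGroup 2 (T.map (MulAut.conj h).toMonoidHom) := F.T2.map _
  have h3 : T.map (MulAut.conj h).toMonoidHom ≤ centralizer ({z} : Set G) := by
    rintro _ ⟨x, hx, rfl⟩
    rw [mem_centralizer_singleton_iff]
    change h * x * h⁻¹ * z = z * (h * x * h⁻¹)
    rw [hzdef]
    calc h * x * h⁻¹ * (h * t * h⁻¹) = h * (x * t) * h⁻¹ := by group
      _ = h * (t * x) * h⁻¹ := by rw [F.Tt x hx]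
      _ = h * t * h⁻¹ * (h * x * h⁻¹) := by group
  obtain ⟨c, hc, hcT⟩ := hSz.conj h2 h3
  have h4 : c * h ∈ normalizer (T : Set G) := by
    apply Fld.conj_mem_norm
    intro x hx
    have h5 := hcT (h * x * h⁻¹) ⟨x, hx, rfl⟩
    have e : c * (h * x * h⁻¹) * c⁻¹ = c * h * x * (c * h)⁻¹ := by group
    rwa [e] at h5
  have h5 := norm_T F V4 Rn hR h4
  have h6 := mem_centralizer_singleton_iff.1 hc
  calc z = (c * z) * c⁻¹ := by rw [h6, mul_inv_cancel_right]
    _ = c * h * t * (c * h)⁻¹ := by rw [hzdef]; group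
    _ = t := h5

/-- Step 3: conjugates of `t` in `C_T(V)` -/
theorem conj_cent (F : Fld t V R T) (H : Fld.Tr F) (V4 : Nat.card V = 4)
    (Rn : ∀ x ∈ T, ∀ r ∈ R, x * r * x⁻¹ ∈ R) (hR : ∃ r ∈ R, r ≠ 1 ∧ r ≠ t)
    (hw : ∃ w ∈ T, ∃ v ∈ V, w * v ≠ v * w) {g : G} (hg : g * t * g⁻¹ ∈ T)
    (hgV : ∀ v ∈ V, (g * t * g⁻¹) * v = v * (g * t * g⁻¹)) : g * t * g⁻¹ = t := by
  obtain ⟨w, hwT, hwm⟩ := hw
  obtain ⟨v0, hv0, hv01, hwv0, -, -⟩ := move4 V4 F.vsq (two_pow F hwT) (F.Vn w hwT) hwm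
  -- `v0` is central in `T`
  have hz0 : ∀ x ∈ T, x * v0 = v0 * x := by
    intro x hx
    by_cases hxV : ∀ v ∈ V, x * v = v * x
    · exact hxV v0 hv0
    · push Not at hxV
      have h1 := inv_mul_cent F V4 hwT hx hwm hxV v0 hv0
      calc x * v0 = w * ((w⁻¹ * x) * v0) := by group
        _ = (w * v0) * (w⁻¹ * x) := by rw [h1]; group
        _ = v0 * x := by rw [hwv0]; group
  have h2 : (g * t * g⁻¹) * (g * t * g⁻¹) = 1 := by
    calc (g * t * g⁻¹) * (g * t * g⁻¹) = g * (t * t) * g⁻¹ := by group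
      _ = 1 := by rw [F.t2]; group
  have hne1 : g * t * g⁻¹ ≠ 1 := Fld.conj_ne_one F.t1
  by_contra hne
  have h3 := F.mem_E_of_sq hg h2 hgV
  rcases F.mem_E.1 h3 with h4 | h4
  · obtain ⟨d, hdt, hd, -⟩ := H.tr _ h4 hne1 v0 hv0 hv01
    have h5 : (d * g) * t * (d * g)⁻¹ = v0 := by rw [← hd]; group
    have h6 := central_conj F V4 Rn hR (h := d * g) (fun x hx => by rw [h5]; exact hz0 x hx)
    rw [h5] at h6
    exact F.tV (h6 ▸ hv0)
  · have h7 : t * (g * t * g⁻¹) ≠ 1 := by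
      intro e
      apply hne
      have := eq_inv_of_mul_eq_one_right e
      rwa [F.tinv] at this
    obtain ⟨d, hdt, hd, -⟩ := H.tr _ h4 h7 v0 hv0 hv01
    have h5 : (d * g) * t * (d * g)⁻¹ = t * v0 := by
      rw [← hd]
      calc d * g * t * (d * g)⁻¹ = d * (t * (t * (g * t * g⁻¹))) * d⁻¹ := by
            rw [← F.eq_tmul]; group
        _ = (d * t) * (t * (g * t * g⁻¹)) * d⁻¹ := by group
        _ = t * (d * (t * (g * t * g⁻¹)) * d⁻¹) := by rw [hdt]; group
    have h6 := central_conj F V4 Rn hR (h := d * g) (fun x hx => by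
      rw [h5]
      calc x * (t * v0) = (x * t) * v0 := by group
        _ = t * (x * v0) := by rw [F.Tt x hx]; group
        _ = t * v0 * x := by rw [hz0 x hx]; group)
    rw [h5, mul_eq_left] at h6
    exact hv01 h6

/-- **Case A is impossible**: `R` has order 2. -/
theorem main (F : Fld t V R T) (H : Fld.Tr F) (V4 : Nat.card V = 4)
    (Rn : ∀ x ∈ T, ∀ r ∈ R, x * r * x⁻¹ ∈ R)
    (hw : ∃ w ∈ T, ∃ v ∈ V, w * v ≠ v * w)
    (hZ : ∃ g : G, g * t * g⁻¹ ≠ t ∧ (g * t * g⁻¹) * t = t * (g * t * g⁻¹)) :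
    ∀ r ∈ R, r = 1 ∨ r = t := by
  classical
  haveI : Fact (Nat.Prime 2) := ⟨Nat.prime_two⟩
  by_contra hcon
  have hR : ∃ r ∈ R, r ≠ 1 ∧ r ≠ t := by
    push Not at hcon
    exact hcon
  have step3 := fun {g : G} => conj_cent F H V4 Rn hR hw (g := g)
  -- the pair `(t, x)`
  obtain ⟨g0, hg0, hg0t⟩ := hZ
  set x0 := g0 * t * g0⁻¹ with hx0
  have hz2 : ∀ z : G, z * z = 1 → IsPGroup 2 (zpowers z) := by
    intro z hz x
    obtain ⟨m, hm⟩ := mem_zpowers_iff.1 x.2
    refine ⟨1, Subtype.ext ?_⟩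
    show (x : G) ^ (2 ^ 1) = 1
    rw [← hm, pow_one, pow_two, ← (Commute.refl z).mul_zpow m, hz, one_zpow]
  have hx02 : x0 * x0 = 1 := by
    calc x0 * x0 = g0 * (t * t) * g0⁻¹ := by rw [hx0]; group
      _ = 1 := by rw [F.t2]; group
  have hP0 : IsPGroup 2 (zpowers t ⊔ zpowers x0 : Subgroup G) := by
    apply isPGroup_sup (hz2 t F.t2) (hz2 x0 hx02)
    rw [zpowers_le]
    apply Fld.conj_mem_norm
    intro y hy
    obtain ⟨m, rfl⟩ := mem_zpowers_iff.1 hy
    have h1 : Commute x0 t := hg0t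
    have h2 : x0 * t ^ m = t ^ m * x0 := (h1.zpow_right m)
    rw [h2, mul_inv_cancel_right]
    exact hy
  have hP0D : (zpowers t ⊔ zpowers x0 : Subgroup G) ≤
      centralizer ({t} : Set G) ⊓ centralizer ({x0} : Set G) := by
    rw [sup_le_iff, zpowers_le, zpowers_le]
    exact ⟨mem_inf.2 ⟨mem_centralizer_singleton_iff.2 rfl, mem_centralizer_singleton_iff.2 hg0t.symm⟩,
      mem_inf.2 ⟨mem_centralizer_singleton_iff.2 hg0t, mem_centralizer_singleton_iff.2 rfl⟩⟩
  obtain ⟨X0, hX0, hPX0⟩ := exists_isSyl _ _ hP0 hP0D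
  obtain ⟨c, hc, hcT⟩ := (isSyl F).conj hX0.1 (le_trans hX0.2.1 inf_le_left)
  have hct : c * t = t * c := mem_centralizer_singleton_iff.1 hc
  have hx0X : x0 ∈ X0 := hPX0 (mem_sup_right (mem_zpowers x0))
  set x := c * x0 * c⁻¹ with hxdef
  have hxT : x ∈ T := hcT x0 hx0X
  have hxg : (c * g0) * t * (c * g0)⁻¹ = x := by rw [hxdef, hx0]; group
  have hxt : x ≠ t := by
    intro h
    apply hg0
    calc x0 = c⁻¹ * x * c := by rw [hxdef]; group
      _ = c⁻¹ * (t * c) := by rw [h]; group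
      _ = t := by rw [← hct]; group
  have hx2 : x * x = 1 := by
    calc x * x = c * (x0 * x0) * c⁻¹ := by rw [hxdef]; group
      _ = 1 := by rw [hx02]; group
  have hxi : x⁻¹ = x := inv_eq_of_mul_eq_one_left hx2
  -- `x` moves `V`
  have hxm : ∃ v ∈ V, x * v ≠ v * x := by
    by_contra hcon
    push Not at hcon
    apply hxt
    rw [← hxg]
    apply step3
    · rw [hxg]; exact hxT
    · rw [hxg]; exact hcon
  set X := T ⊓ centralizer ({x} : Set G) with hXdef
  have hX2 : IsPGroup 2 X := F.T2.to_le inf_le_left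
  have mX : ∀ {z : G}, z ∈ X ↔ z ∈ T ∧ z * x = x * z := by
    intro z
    rw [hXdef, mem_inf, mem_centralizer_singleton_iff]
  have hmax : ∀ P : Subgroup G, IsPGroup 2 P → P ≤ centralizer ({t} : Set G) →
      P ≤ centralizer ({x} : Set G) → Nat.card P ≤ Nat.card X := by
    intro P hP hPt hPx
    have h1 : IsPGroup 2 (P.map (MulAut.conj c⁻¹).toMonoidHom) := hP.map _
    have h2 : P.map (MulAut.conj c⁻¹).toMonoidHom ≤
        centralizer ({t} : Set G) ⊓ centralizer ({x0} : Set G) := by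
      rintro _ ⟨z, hz, rfl⟩
      have h3 := mem_centralizer_singleton_iff.1 (hPt hz)
      have h4 := mem_centralizer_singleton_iff.1 (hPx hz)
      refine mem_inf.2 ⟨mem_centralizer_singleton_iff.2 ?_, mem_centralizer_singleton_iff.2 ?_⟩
      · change c⁻¹ * z * c⁻¹⁻¹ * t = t * (c⁻¹ * z * c⁻¹⁻¹)
        have h5 : c⁻¹ * t = t * c⁻¹ := by
          calc c⁻¹ * t = c⁻¹ * (t * c) * c⁻¹ := by group
            _ = t * c⁻¹ := by rw [← hct]; group
        calc c⁻¹ * z * c⁻¹⁻¹ * t = c⁻¹ * z * (c * t) := by group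
          _ = c⁻¹ * (z * t) * c := by rw [hct]; group
          _ = (c⁻¹ * t) * z * c := by rw [h3]; group
          _ = t * (c⁻¹ * z * c⁻¹⁻¹) := by rw [h5]; group
      · change c⁻¹ * z * c⁻¹⁻¹ * x0 = x0 * (c⁻¹ * z * c⁻¹⁻¹)
        have h5 : x0 = c⁻¹ * x * c := by rw [hxdef]; group
        rw [h5]
        calc c⁻¹ * z * c⁻¹⁻¹ * (c⁻¹ * x * c) = c⁻¹ * (z * x) * c := by group
          _ = c⁻¹ * (x * z) * c := by rw [h4]
          _ = c⁻¹ * x * c * (c⁻¹ * z * c⁻¹⁻¹) := by group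
    have h3 := hX0.card_le h1 h2
    have h4 : Nat.card (P.map (MulAut.conj c⁻¹).toMonoidHom) = Nat.card P :=
      Nat.card_congr (P.equivMapOfInjective _ (MulAut.conj c⁻¹).injective).symm.toEquiv
    rw [h4] at h3
    refine le_trans h3 ?_
    refine Nat.card_le_card_of_injective
      (fun z : X0 => (⟨c * z * c⁻¹, mX.2 ⟨hcT z z.2, ?_⟩⟩ : X)) ?_
    · have h5 := mem_centralizer_singleton_iff.1 (mem_inf.1 (hX0.2.1 z.2)).2
      rw [hxdef]
      calc c * (z : G) * c⁻¹ * (c * x0 * c⁻¹) = c * ((z : G) * x0) * c⁻¹ := by group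
        _ = c * (x0 * (z : G)) * c⁻¹ := by rw [h5]
        _ = c * x0 * c⁻¹ * (c * (z : G) * c⁻¹) := by group
    · intro z z' hzz
      have : c * (z : G) * c⁻¹ = c * (z' : G) * c⁻¹ := congrArg (fun y : X => (y : G)) hzz
      exact Subtype.ext (mul_left_cancel (mul_right_cancel this))
  -- `X` is not Sylow in `C(x)`
  have hXx : X ≤ centralizer ({x} : Set G) := inf_le_right
  obtain ⟨T2, hT2, hXT2⟩ := exists_isSyl (centralizer ({x} : Set G)) X hX2 hXx
  have hcardT : Nat.card T ≤ Nat.card T2 := by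
    have h1 : IsPGroup 2 (T.map (MulAut.conj (c * g0)).toMonoidHom) := F.T2.map _
    have h2 : T.map (MulAut.conj (c * g0)).toMonoidHom ≤ centralizer ({x} : Set G) := by
      rintro _ ⟨z, hz, rfl⟩
      rw [mem_centralizer_singleton_iff, ← hxg]
      change (c * g0) * z * (c * g0)⁻¹ * ((c * g0) * t * (c * g0)⁻¹) =
        (c * g0) * t * (c * g0)⁻¹ * ((c * g0) * z * (c * g0)⁻¹)
      calc (c * g0) * z * (c * g0)⁻¹ * ((c * g0) * t * (c * g0)⁻¹)
          = (c * g0) * (z * t) * (c * g0)⁻¹ := by group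
        _ = (c * g0) * (t * z) * (c * g0)⁻¹ := by rw [F.Tt z hz]
        _ = (c * g0) * t * (c * g0)⁻¹ * ((c * g0) * z * (c * g0)⁻¹) := by group
    have h3 := hT2.card_le h1 h2
    have h4 : Nat.card (T.map (MulAut.conj (c * g0)).toMonoidHom) = Nat.card T :=
      Nat.card_congr (T.equivMapOfInjective _ (MulAut.conj (c * g0)).injective).symm.toEquiv
    rwa [h4] at h3
  have hXT : Nat.card X < Nat.card T := by
    have h1 : X < T := by
      refine lt_of_le_of_ne inf_le_left (fun e => ?_)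
      obtain ⟨v, hv, hxv⟩ := hxm
      have h2 : v ∈ X := by rw [e]; exact F.VT hv
      exact hxv (mX.1 h2).2.symm
    by_contra hcon
    push Not at hcon
    exact h1.ne (Subgroup.eq_of_le_of_card_ge h1.le hcon)
  have hlt : X < T2 := lt_of_le_of_ne hXT2 (fun e => by rw [e] at hXT; omega)
  obtain ⟨y, hyT2, hyX, hyN⟩ := exists_normalizer_gt hT2.1 hlt
  have hyx : y * x = x * y := mem_centralizer_singleton_iff.1 (hT2.2.1 hyT2)
  have htX : t ∈ X := mX.2 ⟨F.tT, (F.Tt x hxT).symm⟩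
  have hxX : x ∈ X := mX.2 ⟨hxT, rfl⟩
  have hyX' : ∀ {z : G}, z ∈ X → y * z * y⁻¹ ∈ X := fun hz => Fld.norm_conj hyN hz
  have hyt : y * t * y⁻¹ ≠ t := by
    intro e
    rw [mul_inv_eq_iff_eq_mul] at e
    have h1 : IsPGroup 2 (X ⊔ zpowers y : Subgroup G) :=
      hT2.1.to_le (by rw [sup_le_iff, zpowers_le]; exact ⟨hXT2, hyT2⟩)
    have h2 : (X ⊔ zpowers y : Subgroup G) ≤ centralizer ({t} : Set G) := by
      rw [sup_le_iff, zpowers_le]
      exact ⟨fun z hz => mem_centralizer_singleton_iff.2 (F.Tt z (mX.1 hz).1),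
        mem_centralizer_singleton_iff.2 e⟩
    have h3 : (X ⊔ zpowers y : Subgroup G) ≤ centralizer ({x} : Set G) := by
      rw [sup_le_iff, zpowers_le]
      exact ⟨hXx, mem_centralizer_singleton_iff.2 hyx⟩
    have h4 := hmax _ h1 h2 h3
    have h5 : X = X ⊔ zpowers y := Subgroup.eq_of_le_of_card_ge le_sup_left h4
    apply hyX
    rw [h5]
    exact mem_sup_right (mem_zpowers y)
  -- elements of `X`
  obtain ⟨v0, hv0, hv01, hxv0, hfix, hmove⟩ := move4 V4 F.vsq (two_pow F hxT) (F.Vn x hxT) hxm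
  have hXV : ∀ z ∈ X, (∀ v ∈ V, z * v = v * z) → ∃ r ∈ R, x * r = r * x ∧
      ∃ u, (u = 1 ∨ u = v0) ∧ z = r * u := by
    intro z hz hzV
    obtain ⟨r, hr, u, hu, rfl⟩ := F.cent z (mX.1 hz).1 hzV
    have h1 : x * (r * u) * x⁻¹ = r * u := by
      rw [← (mX.1 hz).2, mul_inv_cancel_right]
    have h2 : r⁻¹ * (x * r * x⁻¹) = u * (x * u * x⁻¹)⁻¹ := by
      have h3 : (x * r * x⁻¹) * (x * u * x⁻¹) = r * u := by rw [← h1]; group
      calc r⁻¹ * (x * r * x⁻¹) = r⁻¹ * ((x * r * x⁻¹) * (x * u * x⁻¹)) * (x * u * x⁻¹)⁻¹ := by group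
        _ = u * (x * u * x⁻¹)⁻¹ := by rw [h3]; group
    have h3 : r⁻¹ * (x * r * x⁻¹) = 1 := by
      apply F.disj
      · exact R.mul_mem (R.inv_mem hr) (Rn x hxT r hr)
      · rw [h2]; exact V.mul_mem hu (V.inv_mem (F.Vn x hxT u hu))
    have h4 : x * r = r * x := by
      have := eq_of_inv_mul_eq_one h3
      exact (mul_inv_eq_iff_eq_mul.1 this.symm)
    have h5 : x * u = u * x := by
      rw [h3] at h2
      have := eq_of_mul_inv_eq_one h2.symm
      exact (mul_inv_eq_iff_eq_mul.1 this.symm)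
    exact ⟨r, hr, h4, u, hfix u hu h5, rfl⟩
  have hXall : ∀ z ∈ X, ∃ e, (e = 1 ∨ e = x) ∧ ∃ r ∈ R, x * r = r * x ∧
      ∃ u, (u = 1 ∨ u = v0) ∧ z = e * (r * u) := by
    intro z hz
    by_cases hzV : ∀ v ∈ V, z * v = v * z
    · obtain ⟨r, hr, hxr, u, hu, hzr⟩ := hXV z hz hzV
      exact ⟨1, Or.inl rfl, r, hr, hxr, u, hu, by rw [hzr, one_mul]⟩
    · push Not at hzV
      have h1 := inv_mul_cent F V4 hxT (mX.1 hz).1 hxm hzV
      obtain ⟨r, hr, hxr, u, hu, hzr⟩ := hXV _ (X.mul_mem (X.inv_mem hxX) hz) h1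
      exact ⟨x, Or.inr rfl, r, hr, hxr, u, hu, by rw [← hzr]; group⟩
  have huV : ∀ u, (u = 1 ∨ u = v0) → u ∈ V ∧ x * u = u * x := by
    rintro u (rfl | rfl)
    · exact ⟨V.one_mem, by rw [mul_one, one_mul]⟩
    · exact ⟨hv0, hxv0⟩
  obtain ⟨r0, hr0, hr01, hr0t⟩ := hR
  obtain ⟨n0, hn0⟩ := exists_root F hr0 hr01 hr0t
  set s := r0 ^ n0 with hs
  have hsR : s ∈ R := R.pow_mem hr0 _
  by_cases hcomm : ∃ r1 ∈ R, r1 ≠ 1 ∧ r1 ≠ t ∧ x * r1 = r1 * x
  · -- `t` is a square in `X`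
    obtain ⟨r1, hr1, hr11, hr1t, hxr1⟩ := hcomm
    obtain ⟨n1, hn1⟩ := exists_root F hr1 hr11 hr1t
    have h1 : r1 ^ n1 ∈ X := mX.2 ⟨F.RT (R.pow_mem hr1 _), by
      have h2 : Commute x r1 := hxr1
      exact (h2.pow_right n1).symm⟩
    have h2 := hyX' h1
    obtain ⟨e, he, r, hr, hxr, u, hu, hz⟩ := hXall _ h2
    obtain ⟨huV1, hxu⟩ := huV u hu
    have h3 : y * t * y⁻¹ = (y * r1 ^ n1 * y⁻¹) * (y * r1 ^ n1 * y⁻¹) := by
      rw [← hn1]; group
    have hru : (r * u) * (r * u) = r * r := by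
      calc r * u * (r * u) = r * (u * r) * u := by group
        _ = r * (r * u) * u := by rw [F.rv r hr u huV1]
        _ = (r * r) * (u * u) := by group
        _ = r * r := by rw [F.vsq u huV1, mul_one]
    have h4 : y * t * y⁻¹ = r * r := by
      rw [h3, hz]
      rcases he with rfl | rfl
      · rw [one_mul, hru]
      · calc x * (r * u) * (x * (r * u)) = x * r * (u * x) * (r * u) := by group
          _ = x * r * (x * u) * (r * u) := by rw [hxu]
          _ = (x * r) * x * u * (r * u) := by group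
          _ = (r * x) * x * u * (r * u) := by rw [hxr]
          _ = r * (x * x) * u * (r * u) := by group
          _ = (r * u) * (r * u) := by rw [hx2]; group
          _ = r * r := hru
    have h5 : (y * t * y⁻¹) * (y * t * y⁻¹) = 1 := by
      calc (y * t * y⁻¹) * (y * t * y⁻¹) = y * (t * t) * y⁻¹ := by group
        _ = 1 := by rw [F.t2]; group
    rcases F.eq_of_sq (show y * t * y⁻¹ ∈ R by rw [h4]; exact R.mul_mem hr hr) h5 with h6 | h6
    · exact Fld.conj_ne_one F.t1 h6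
    · exact hyt h6
  · push Not at hcomm
    have hcomm' : ∀ r ∈ R, x * r = r * x → r = 1 ∨ r = t := by
      intro r hr hxr
      by_contra hcon
      push Not at hcon
      exact hcomm r hr hcon.1 hcon.2 hxr
    have htx : x * t = t * x := F.Tt x hxT
    have htv0 : t * v0 = v0 * t := F.tv hv0
    -- `x ~ t x`
    have hs1 : s ≠ 1 := by
      intro h
      rw [h, one_mul] at hn0
      exact F.t1 hn0.symm
    have hst : s ≠ t := by
      intro h
      rw [h, F.t2] at hn0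
      exact F.t1 hn0.symm
    have hsx : x * s * x⁻¹ = s * t := by
      have h1 : x * s * x⁻¹ ∈ R := Rn x hxT s hsR
      have hcs : s * (x * s * x⁻¹) = (x * s * x⁻¹) * s := by
        haveI := F.Rcyc
        exact congrArg Subtype.val
          ((IsCyclic.isMulCommutative (α := R)).is_comm.comm ⟨s, hsR⟩ ⟨_, h1⟩)
      have h2 : (s⁻¹ * (x * s * x⁻¹)) * (s⁻¹ * (x * s * x⁻¹)) = 1 := by
        have h3 : (x * s * x⁻¹) * s⁻¹ = s⁻¹ * (x * s * x⁻¹) := by
          calc (x * s * x⁻¹) * s⁻¹ = s⁻¹ * (s * (x * s * x⁻¹)) * s⁻¹ := by group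
            _ = s⁻¹ * (x * s * x⁻¹) := by rw [hcs]; group
        calc (s⁻¹ * (x * s * x⁻¹)) * (s⁻¹ * (x * s * x⁻¹))
            = s⁻¹ * ((x * s * x⁻¹) * s⁻¹) * (x * s * x⁻¹) := by group
          _ = s⁻¹ * s⁻¹ * ((x * s * x⁻¹) * (x * s * x⁻¹)) := by rw [h3]; group
          _ = (s * s)⁻¹ * (x * (s * s) * x⁻¹) := by group
          _ = t⁻¹ * (x * t * x⁻¹) := by rw [hn0]
          _ = 1 := by rw [htx]; group
      rcases F.eq_of_sq (R.mul_mem (R.inv_mem hsR) h1) h2 with h3 | h3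
      · exfalso
        have h4 := (eq_of_inv_mul_eq_one h3).symm
        rcases hcomm' s hsR (mul_inv_eq_iff_eq_mul.1 h4) with h5 | h5
        · exact hs1 h5
        · exact hst h5
      · rw [← h3]; group
    have hxs : x * s = s * t * x := mul_inv_eq_iff_eq_mul.1 hsx
    have hc1 : s⁻¹ * x * s = t * x := by
      calc s⁻¹ * x * s = s⁻¹ * (x * s) := by group
        _ = t * x := by rw [hxs]; group
    obtain ⟨v1, hv1, hxv1⟩ := hxm
    have hc2 : v1⁻¹ * x * v1 = v0 * x := by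
      have h1 := mul_inv_eq_iff_eq_mul.1 (hmove v1 hv1 hxv1)
      calc v1⁻¹ * x * v1 = v1⁻¹ * (x * v1) := by group
        _ = v0 * x := by rw [h1]; group
    have hc3 : v1⁻¹ * (t * x) * v1 = t * (v0 * x) := by
      have h2 : v1⁻¹ * t = t * v1⁻¹ := by rw [F.vinv hv1]; exact (F.tv hv1).symm
      calc v1⁻¹ * (t * x) * v1 = (v1⁻¹ * t) * x * v1 := by group
        _ = t * (v1⁻¹ * x * v1) := by rw [h2]; group
        _ = t * (v0 * x) := by rw [hc2]
    have hK : ∀ z : G, (∃ k : G, k * t * k⁻¹ = z) → ∀ g : G, ∃ k : G, k * t * k⁻¹ = g * z * g⁻¹ := by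
      rintro z ⟨k, rfl⟩ g
      exact ⟨g * k, by group⟩
    have hkx : ∃ k : G, k * t * k⁻¹ = x := ⟨c * g0, hxg⟩
    have hktx : ∃ k : G, k * t * k⁻¹ = t * x := by
      obtain ⟨k, hk⟩ := hK x hkx s⁻¹
      exact ⟨k, by rw [hk, inv_inv, hc1]⟩
    have hkvx : ∃ k : G, k * t * k⁻¹ = v0 * x := by
      obtain ⟨k, hk⟩ := hK x hkx v1⁻¹
      exact ⟨k, by rw [hk, inv_inv, hc2]⟩
    have hktvx : ∃ k : G, k * t * k⁻¹ = t * (v0 * x) := by
      obtain ⟨k, hk⟩ := hK _ hktx v1⁻¹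
      exact ⟨k, by rw [hk, inv_inv, hc3]⟩
    have hnv0 : ∀ z, z = v0 ∨ z = t * v0 → ¬ ∃ k : G, k * t * k⁻¹ = z := by
      rintro z hz ⟨k, hk⟩
      have hzT : z ∈ T := by
        rcases hz with h | h
        · rw [h]; exact F.VT hv0
        · rw [h]; exact T.mul_mem F.tT (F.VT hv0)
      have hzV : ∀ v ∈ V, z * v = v * z := by
        intro v hv
        rcases hz with h | h
        · rw [h]; exact F.vcomm hv0 hv
        · rw [h]
          calc t * v0 * v = t * (v0 * v) := by group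
            _ = t * v * v0 := by rw [F.vcomm hv0 hv]; group
            _ = v * (t * v0) := by rw [F.tv hv]; group
      have h1 : k * t * k⁻¹ = t := step3 (by rw [hk]; exact hzT) (by rw [hk]; exact hzV)
      rw [hk] at h1
      rcases hz with h | h
      · rw [h] at h1
        exact F.tV (h1 ▸ hv0)
      · rw [h, mul_eq_left] at h1
        exact hv01 h1
    -- images of `v0` and `t v0` under `y`
    have hmain : ∀ z, z = v0 ∨ z = t * v0 → y * z * y⁻¹ = v0 ∨ y * z * y⁻¹ = t * v0 := by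
      intro z hz
      have hzX : z ∈ X := by
        rcases hz with h | h
        · rw [h]; exact mX.2 ⟨F.VT hv0, hxv0.symm⟩
        · rw [h]
          exact X.mul_mem htX (mX.2 ⟨F.VT hv0, hxv0.symm⟩)
      have hnot : ¬ ∃ k : G, k * t * k⁻¹ = y * z * y⁻¹ := by
        rintro ⟨k, hk⟩
        exact hnv0 z hz ⟨y⁻¹ * k, by
          calc y⁻¹ * k * t * (y⁻¹ * k)⁻¹ = y⁻¹ * (k * t * k⁻¹) * y := by group
            _ = z := by rw [hk]; group⟩
      have hz1 : z ≠ 1 := by
        rcases hz with h | h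
        · rw [h]; exact hv01
        · rw [h]
          intro h1
          have := eq_inv_of_mul_eq_one_left h1
          rw [F.vinv hv0] at this
          exact F.tV (this ▸ hv0)
      obtain ⟨e, he, r, hr, hxr, u, hu, hz'⟩ := hXall _ (hyX' hzX)
      rw [hz'] at hnot ⊢
      rcases he with rfl | rfl
      · rw [one_mul] at hnot hz' ⊢
        rcases hcomm' r hr hxr with rfl | rfl
        · rw [one_mul] at hnot hz' ⊢
          rcases hu with rfl | rfl
          · exact absurd hz' (Fld.conj_ne_one hz1)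
          · exact Or.inl rfl
        · rcases hu with rfl | rfl
          · exfalso
            apply hnot
            exact ⟨1, by group⟩
          · exact Or.inr rfl
      · exfalso
        apply hnot
        rcases hcomm' r hr hxr with hrr | hrr
        · rw [hrr, one_mul]
          rcases hu with hu | hu
          · rw [hu, mul_one]; exact hkx
          · rw [hu, hxv0]; exact hkvx
        · rw [hrr]
          rcases hu with hu | hu
          · rw [hu, mul_one, htx]; exact hktx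
          · obtain ⟨k, hk⟩ := hktvx
            refine ⟨k, ?_⟩
            rw [hk, hu]
            calc t * (v0 * x) = t * (x * v0) := by rw [hxv0]
              _ = (t * x) * v0 := by group
              _ = x * (t * v0) := by rw [← htx]; group
    have ha := hmain v0 (Or.inl rfl)
    have hb := hmain (t * v0) (Or.inr rfl)
    apply hyt
    have hprod : y * t * y⁻¹ = (y * (t * v0) * y⁻¹) * (y * v0 * y⁻¹) := by
      calc y * t * y⁻¹ = y * (t * (v0 * v0)) * y⁻¹ := by rw [F.vsq v0 hv0, mul_one]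
        _ = (y * (t * v0) * y⁻¹) * (y * v0 * y⁻¹) := by group
    have hne : y * (t * v0) * y⁻¹ ≠ y * v0 * y⁻¹ := by
      intro h
      have h1 := mul_left_cancel (mul_right_cancel h)
      rw [mul_eq_right] at h1
      exact F.t1 h1
    rw [hprod]
    rcases ha with ha | ha <;> rcases hb with hb | hb
    · exact absurd (by rw [ha, hb]) hne
    · rw [ha, hb, mul_assoc, F.vsq v0 hv0, mul_one]
    · rw [ha, hb]
      calc v0 * (t * v0) = (v0 * t) * v0 := by group
        _ = t * (v0 * v0) := by rw [← htv0]; group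
        _ = t := by rw [F.vsq v0 hv0, mul_one]
    · exact absurd (by rw [ha, hb]) hne

end CaseA

end Cfsg.Agent.StdL2.SFive
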