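import Cfsg.Agent.StdL2.SFive.GrowC
import Cfsg.Agent.StdL2.SFive.CaseA
import Cfsg.Agent.StdL2.FrameConf

/-!
# S1773, `q = 4`, `N(A)/C(A) = S₅`: the local structures from `Base`
-/

set_option autoImplicit false
set_option linter.unusedSectionVars false
set_option linter.style.haveILetI false
set_option Elab.async false

open Subgroup

namespace Cfsg.Agent.StdL2.SFive

open Cfsg.Agent.StdL2.FieldStart

section base

open Cfsg.Agent.StdL2 Cfsg.Agent.StdL2.Frame Cfsg.Agent.StdL2.Field Cfsg.Agent.StdL2.FrameFT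
open Cfsg.Agent.Lib.SL2Mat Cfsg.Agent.Lib.AutSL2
open Cfsg.Agent.StdL2.Setup

local notation "SL2" => Matrix.SpecialLinearGroup (Fin 2)

variable {F : Type*} [Field F] [Finite F] [CharP F 2] {G : Type*} [Group G] [Finite G]
  {A T : Subgroup G} {t : G} {π : SL2 F →* G}

theorem dg_pow (s : F) (hs : s ≠ 0) (n : ℕ) : (dg s hs) ^ n = dg (s ^ n) (pow_ne_zero n hs) := by
  induction n with
  | zero =>
    refine ext_ent ?_ ?_ ?_ ?_ <;> simp
  | succ n ih =>
    rw [pow_succ, ih]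
    refine ext_ent ?_ ?_ ?_ ?_ <;> simp only [ent_mul, dg_00, dg_01, dg_10, dg_11] <;>
      field_simp <;> ring

theorem thr_of_base (B : Base A t T π) (h4 : Nat.card F = 4) : Thr t (VV π) := by
  classical
  haveI := Fintype.ofFinite F
  have h4' : Fintype.card F = 4 := by rw [← Nat.card_eq_fintype_card]; exact h4
  obtain ⟨s, hs⟩ : ∃ s : F, s ≠ 0 ∧ s ≠ 1 := by
    by_contra hcon
    push Not at hcon
    have h1 : (Finset.univ : Finset F) ⊆ {0, 1} := by
      intro x _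
      by_cases hx : x = 0
      · simp [hx]
      · simp [hcon x hx]
    have h2 := Finset.card_le_card h1
    rw [Finset.card_univ, h4'] at h2
    have h3 : ({0, 1} : Finset F).card ≤ 2 := Finset.card_le_two
    omega
  have hs3 : s ^ 3 = 1 := by
    have := FiniteField.pow_card_sub_one_eq_one s hs.1
    rwa [h4'] at this
  have hs2 : s ^ 2 ≠ 1 := by
    intro h
    apply hs.2
    have h1 : s ^ 3 = s ^ 2 * s := by ring
    rw [hs3, h, one_mul] at h1
    exact h1.symm
  refine ⟨π (dg s hs.1), mem_centralizer_iff.1 B.tA _ (B.P.mem _), ?_, ?_, 1, ?_⟩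
  · intro v hv
    obtain ⟨b, rfl⟩ := mem_VV.1 hv
    rw [dg_conj]
    exact up_mem_VV _
  · refine ⟨π (up 1), up_mem_VV 1, ?_⟩
    rw [dg_conj]
    intro h
    apply hs2
    have := up_inj (B.P.inj h)
    rwa [mul_one] at this
  · rw [pow_one, ← map_pow, dg_pow]
    have : dg (s ^ 3) (pow_ne_zero 3 hs.1) = 1 := by
      refine ext_ent ?_ ?_ ?_ ?_ <;> simp [hs3]
    rw [this, map_one]

theorem loc_of_base (B : Base A t T π) (h4 : Nat.card F = 4)
    (hR : ∀ x ∈ T, x ∈ centralizer (A : Set G) → x = 1 ∨ x = t) : Loc t (VV π) := by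
  refine ⟨B.t2, fun h => B.tn (VV_le B.P h), by rw [card_VV B.P, h4], VV_sq,
    fun v hv => (B.tV hv).symm, ?_⟩
  rintro y hyt hyV ⟨k, hk⟩
  have hyN : y ∈ normalizer (A : Set G) := B.cle (mem_centralizer_singleton_iff.2 hyt)
  obtain ⟨-, v, hv, hz⟩ := cent_VV B.P hyN hyV
  set z := v⁻¹ * y with hzdef
  have hv2 : v * v = 1 := VV_sq v hv
  have hvy : v * y = y * v := (hyV v hv).symm
  have hvt : v * t = t * v := (B.tV hv).symm
  have hzt : z * t = t * z := by
    rw [hzdef, inv_eq_of_mul_eq_one_left hv2]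
    calc v * y * t = v * (y * t) := by group
      _ = (v * t) * y := by rw [hyt]; group
      _ = t * (v * y) := by rw [hvt]; group
  have hz2 : z ^ 2 ^ (k + 1) = 1 := by
    have h1 : Commute v⁻¹ y := (show Commute v y from hvy).inv_left
    rw [hzdef, h1.mul_pow]
    have h2 : v⁻¹ ^ 2 ^ (k + 1) = 1 := by
      rw [pow_succ, mul_comm, pow_mul, inv_pow, pow_two, hv2, inv_one, one_pow]
    have h3 : y ^ 2 ^ (k + 1) = 1 := by
      rw [pow_succ, pow_mul, hk, one_pow]
    rw [h2, h3, one_mul]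
  have hzp : IsPGroup 2 (zpowers z) := by
    intro x
    obtain ⟨m, hm⟩ := mem_zpowers_iff.1 x.2
    refine ⟨k + 1, Subtype.ext ?_⟩
    show (x : G) ^ (2 ^ (k + 1)) = 1
    rw [← hm, ← zpow_natCast, ← zpow_mul, mul_comm, zpow_mul, zpow_natCast, hz2, one_zpow]
  have hsyl := CaseA.isSyl B.fld
  obtain ⟨c, hc, hcT⟩ := hsyl.conj hzp (by
    rw [zpowers_le]; exact mem_centralizer_singleton_iff.2 hzt)
  have h1 := hcT z (mem_zpowers z)
  have hcN : c ∈ normalizer (A : Set G) := B.cle hc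
  have h2 : c * z * c⁻¹ ∈ centralizer (A : Set G) := by
    rw [mem_centralizer_iff] at hz ⊢
    intro a ha
    have h3 : c⁻¹ * a * c ∈ A := Fld.norm_conj' hcN ha
    have h4 := hz _ h3
    calc a * (c * z * c⁻¹) = c * ((c⁻¹ * a * c) * z) * c⁻¹ := by group
      _ = c * (z * (c⁻¹ * a * c)) * c⁻¹ := by rw [h4]
      _ = c * z * c⁻¹ * a := by group
  have hct := mem_centralizer_singleton_iff.1 hc
  have hy : y = v * z := by rw [hzdef]; group
  rcases hR _ h1 h2 with h3 | h3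
  · left
    have h4 : z = 1 := by
      have : z = c⁻¹ * (c * z * c⁻¹) * c := by group
      rw [this, h3]; group
    rw [hy, h4, mul_one]
    exact hv
  · right
    have h4 : z = t := by
      have : z = c⁻¹ * (c * z * c⁻¹) * c := by group
      rw [this, h3, mul_assoc, ← hct, inv_mul_cancel_left]
    rw [hy, h4, hvt, ← mul_assoc, B.t2, one_mul]
    exact hv

/-- `C_T(A) = ⟨t⟩` when `|F| = 4` -/
theorem card_two_of_base (B : Base A t T π) (h4 : Nat.card F = 4)
    (hw : ∃ w ∈ T, ∃ v ∈ VV π, w * v ≠ v * w)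
    (hZ : ∃ g : G, g * t * g⁻¹ ≠ t ∧ (g * t * g⁻¹) * t = t * (g * t * g⁻¹)) :
    ∀ x ∈ T, x ∈ centralizer (A : Set G) → x = 1 ∨ x = t := by
  have V4 : Nat.card (VV π) = 4 := by rw [card_VV B.P, h4]
  intro x hx hxA
  refine CaseA.main B.fld B.tr V4 ?_ hw hZ x ⟨hx, hxA⟩
  intro y hy r hr
  obtain ⟨hrT, hrA⟩ := mem_inf.1 hr
  refine mem_inf.2 ⟨T.mul_mem (T.mul_mem hy hrT) (T.inv_mem hy), ?_⟩
  have hyN := B.nT hy
  rw [mem_centralizer_iff] at hrA ⊢
  intro a ha
  have h3 : y⁻¹ * a * y ∈ A := Fld.norm_conj' hyN ha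
  have h4 := hrA _ h3
  calc a * (y * r * y⁻¹) = y * ((y⁻¹ * a * y) * r) * y⁻¹ := by group
    _ = y * (r * (y⁻¹ * a * y)) * y⁻¹ := by rw [h4]
    _ = y * r * y⁻¹ * a := by group

theorem isSyl_VV (B : Base A t T π) : IsSyl A (VV π) := by
  refine ⟨B.T2.to_le B.VT, VV_le B.P, fun Q hQ hVQ hQA => le_VV B.P hQ hQA hVQ⟩

/-- `Loc` from the reduced configuration: `q = 4`, the case of `S₅`. -/
theorem exists_loc {G : Type*} [Group G] [Finite G] {L A T : Subgroup G} {t : G} {π : SL2 F →* G}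
    (C : Conf L A t) (B : Base A t T π)
    (h4 : Nat.card F = 4) (hw : ∃ w ∈ T, ∃ v ∈ VV π, w * v ≠ v * w) :
    Loc t (VV π) :=
  loc_of_base B h4 (card_two_of_base B h4 hw (exists_comm_conj C (even_L C B.P)))

end base

end Cfsg.Agent.StdL2.SFive
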