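import Cfsg.Agent.StdL2.SFive.SF
import Cfsg.Agent.StdL2.SFive.Start

/-!
# S1773, `q = 4`, `N(A)/C(A) = S₅`: the structure `SF` from the reduced configuration
-/

set_option autoImplicit false
set_option linter.unusedSectionVars false
set_option Elab.async false

open Subgroup

namespace Cfsg.Agent.StdL2.SFive

open Cfsg.Agent.StdL2.FieldStart
open Cfsg.Agent.StdL2 Cfsg.Agent.StdL2.Frame Cfsg.Agent.StdL2.Field Cfsg.Agent.StdL2.FrameFT
open Cfsg.Agent.StdL2.Setup

local notation "SL2" => Matrix.SpecialLinearGroup (Fin 2)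

universe u

/-- **`SF` from the reduced configuration.** -/
theorem sf {F : Type*} [Field F] [Finite F] [CharP F 2] {G : Type u} [Group G] [Finite G]
    {L A T : Subgroup G} {t : G} {π : SL2 F →* G} (C : Conf L A t) (B : Base A t T π)
    (h4 : Nat.card F = 4) (hw : ∃ w ∈ T, ∃ v ∈ VV π, w * v ≠ v * w) : SF A t (VV π) T where
  loc := exists_loc C B h4 hw
  thr := thr_of_base B h4
  Syl := CaseA.isSyl B.fld
  VS := B.VT
  SV := B.Vn
  out := hw
  An := fun c hc a ha =>
    Fld.norm_conj (B.cle (mem_centralizer_singleton_iff.2 hc)) ha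
  AV := isSyl_VV B
  hZ := exists_comm_conj C (even_L C B.P)

end Cfsg.Agent.StdL2.SFive
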