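import Mathlib
import Cfsg.Agent.ClassicalGeometry.PSUAutMain
import Cfsg.Agent.Schreier.PSU
import Cfsg.Agent.S0278

/-!
# `A₅` normal in the centraliser of an involutory automorphism of `PSU₃(q)`, `q` odd: `q = 5`
-/

set_option autoImplicit false

namespace Cfsg.Agent.StdL2.SFive.IdUThree

open Cfsg Cfsg.Agent.LieClassical.HermBasic Cfsg.Agent.LieClassical.HermSiegel
  Cfsg.Agent.LieClassical.SUBasic Matrix
open Cfsg.Agent.ClassicalGeometry.PSUAutBasic (pr pr_surjective pr_eq_iff exists_center_mul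
  mem_center_of_act)
open Cfsg.Agent.ClassicalGeometry.PSUAutCount (gm semiConj toAut herm_gm act_semiConj herm_semi
  gm_inv_mulVec gm_mulVec_inv guConj act_guConj eq_of_toAut_eq)

variable {F : Type*} [Field F] [Fintype F] {q : ℕ}

/-! ### Central elements and lifts -/

theorem cent_scalar (hF : Fintype.card F = q ^ 2) {z : SU 3 F q}
    (hz : z ∈ Subgroup.center (SU 3 F q)) :
    ∃ c : F, c ^ 3 = 1 ∧ c * c ^ q = 1 ∧ ∀ v, act z v = c • v := by
  obtain ⟨c, hcn, hcq, rfl⟩ := (mem_center_SU_iff hF le_rfl z).1 hz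
  exact ⟨c, hcn, by rw [← pow_succ']; exact hcq,
    fun v => Cfsg.Agent.ClassicalGeometry.PSUAutBasic.act_suScalar hcn hcq v⟩

theorem cent_cube (hF : Fintype.card F = q ^ 2) {z : SU 3 F q}
    (hz : z ∈ Subgroup.center (SU 3 F q)) : z * z * z = 1 := by
  obtain ⟨c, hc, -, h⟩ := cent_scalar hF hz
  apply ext_act
  intro v
  rw [act_mul, act_mul, h, h, h, act_one, smul_smul, smul_smul,
    show c * c * c = 1 by rw [← hc]; ring, one_smul]

omit [Fintype F] in
theorem cent_comm {z : SU 3 F q} (hz : z ∈ Subgroup.center (SU 3 F q)) (g : SU 3 F q) :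
    z * g = g * z := (Subgroup.mem_center_iff.1 hz g).symm

/-- Involutions of `PSU₃` lift. -/
theorem exists_lift_two (hF : Fintype.card F = q ^ 2) {x : PSU 3 F q} (hx : x * x = 1) :
    ∃ g : SU 3 F q, pr 3 F q g = x ∧ g * g = 1 := by
  obtain ⟨g, rfl⟩ := pr_surjective x
  rw [← map_mul] at hx
  have hz : g * g ∈ Subgroup.center (SU 3 F q) := (QuotientGroup.eq_one_iff _).1 hx
  have h3 := cent_cube hF hz
  have hc := cent_comm hz
  refine ⟨g * (g * g), ?_, ?_⟩
  · rw [map_mul, hx, mul_one]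
  · calc g * (g * g) * (g * (g * g)) = g * g * (g * g) * (g * g) := by group
      _ = 1 := h3

/-- Two intertwined involutions: the central factor is trivial. -/
theorem lift_comm (hF : Fintype.card F = q ^ 2) {a b g : SU 3 F q} (ha : a * a = 1)
    (hb : b * b = 1) (h : pr 3 F q g * pr 3 F q a = pr 3 F q b * pr 3 F q g) : g * a = b * g := by
  rw [← map_mul, ← map_mul] at h
  obtain ⟨z, hz, h1⟩ := exists_center_mul h
  have hc := cent_comm hz
  have hb' : b = g * a * g⁻¹ * z := by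
    have h2 : b = g * a * z * g⁻¹ := by rw [← h1]; group
    rw [h2, mul_assoc (g * a), hc]; group
  have h3 : z * z = 1 := by
    have h4 : b * b = g * (a * a) * g⁻¹ * (z * z) := by
      rw [hb']
      calc g * a * g⁻¹ * z * (g * a * g⁻¹ * z) = g * a * g⁻¹ * (z * (g * a * g⁻¹)) * z := by group
        _ = g * a * g⁻¹ * ((g * a * g⁻¹) * z) * z := by rw [hc]
        _ = g * (a * a) * g⁻¹ * (z * z) := by group
    rw [hb, ha, mul_one, mul_inv_cancel, one_mul] at h4
    exact h4.symm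
  have h5 := cent_cube hF hz
  rw [h3, one_mul] at h5
  rw [h1, h5, mul_one]

theorem lift_unique (hF : Fintype.card F = q ^ 2) {a b : SU 3 F q} (ha : a * a = 1)
    (hb : b * b = 1) (h : pr 3 F q a = pr 3 F q b) : a = b := by
  have := lift_comm hF (g := 1) ha hb (by rw [map_one, one_mul, mul_one, h])
  rwa [one_mul, mul_one] at this

/-- Equal images: a scalar. -/
theorem scalar_of_pr_eq (hF : Fintype.card F = q ^ 2) {g g' : SU 3 F q}
    (h : pr 3 F q g = pr 3 F q g') :
    ∃ c : F, c ^ 3 = 1 ∧ c * c ^ q = 1 ∧ ∀ v, act g' v = c • act g v := by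
  obtain ⟨z, hz, rfl⟩ := exists_center_mul h
  obtain ⟨c, h3, hq, hc⟩ := cent_scalar hF hz
  exact ⟨c, h3, hq, fun v => by rw [act_mul, hc, act_smul]⟩

/-! ### The four group and the element of order three in `A₅` -/

theorem afive : ∃ v1 v2 d : alternatingGroup (Fin 5), v1 * v1 = 1 ∧ v2 * v2 = 1 ∧
    v1 * v2 = v2 * v1 ∧ v1 ≠ 1 ∧ v2 ≠ 1 ∧ v1 ≠ v2 ∧ d * v1 = v2 * d ∧ d * v2 = v1 * v2 * d ∧
    ∀ b, b * v1 = v1 * b → b = 1 ∨ b = v1 ∨ b = v2 ∨ b = v1 * v2 := by
  refine ⟨⟨Equiv.swap 0 1 * Equiv.swap 2 3, Equiv.Perm.mem_alternatingGroup.2 (by decide)⟩, 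
    ⟨Equiv.swap 0 2 * Equiv.swap 1 3, Equiv.Perm.mem_alternatingGroup.2 (by decide)⟩,
    ⟨Equiv.swap 1 3 * Equiv.swap 1 2, Equiv.Perm.mem_alternatingGroup.2 (by decide)⟩, ?_⟩
  decide +kernel


/-! ### The semilinear map -/

/-- The semi-isometry `y ↦ D (ρ ∘ y)`. -/
def TT (D : GU 3 F q) (ρ : F ≃+* F) (y : Fin 3 → F) : Fin 3 → F := gm D *ᵥ fun i => ρ (y i)

omit [Fintype F] in
theorem TT_add (D : GU 3 F q) (ρ : F ≃+* F) (y z : Fin 3 → F) :
    TT D ρ (y + z) = TT D ρ y + TT D ρ z := by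
  rw [TT, TT, TT, ← mulVec_add]
  congr 1
  funext i
  exact map_add ρ _ _

omit [Fintype F] in
theorem TT_smul (D : GU 3 F q) (ρ : F ≃+* F) (c : F) (y : Fin 3 → F) :
    TT D ρ (c • y) = ρ c • TT D ρ y := by
  rw [TT, TT, ← mulVec_smul]
  congr 1
  funext i
  exact map_mul ρ _ _

omit [Fintype F] in
theorem TT_surj (D : GU 3 F q) (ρ : F ≃+* F) (z : Fin 3 → F) : ∃ y, TT D ρ y = z := by
  refine ⟨fun i => ρ.symm ((gm D⁻¹ *ᵥ z) i), ?_⟩
  rw [TT]
  simp only [RingEquiv.apply_symm_apply]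
  exact gm_mulVec_inv D z

omit [Fintype F] in
theorem act_TT (D : GU 3 F q) (ρ : F ≃+* F) (g : SU 3 F q) (y : Fin 3 → F) :
    act (semiConj D ρ g) (TT D ρ y) = TT D ρ (act g y) := act_semiConj D ρ g y

/-! ### The frame -/

/-- Data: two commuting involutions of `SU₃` and an element permuting them cyclically. -/
structure Fr (A1 A2 d : SU 3 F q) : Prop where
  s1 : A1 * A1 = 1
  s2 : A2 * A2 = 1
  c12 : A1 * A2 = A2 * A1
  ne : A1 * A2 ≠ 1
  d1 : d * A1 = A2 * d
  d2 : d * A2 = A1 * A2 * d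

namespace Fr

variable {A1 A2 d : SU 3 F q} (H : Fr A1 A2 d)
include H

omit [Fintype F] in
theorem d3 : d * (A1 * A2) = A1 * d := by
  rw [← mul_assoc, H.d1, mul_assoc, H.d2, ← mul_assoc, ← mul_assoc, ← H.c12, mul_assoc A1, H.s2,
    mul_one]

omit [Fintype F] in
/-- An eigenvector. -/
theorem exists_vec (h2 : (2 : F) ≠ 0) :
    ∃ x : Fin 3 → F, x ≠ 0 ∧ act A1 x = x ∧ act A2 x = -x := by
  by_contra hcon
  push Not at hcon
  have key : ∀ y : Fin 3 → F, y + act A1 y - act A2 y - act A1 (act A2 y) = 0 := by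
    intro y
    by_contra h0
    have e1 : act A1 (y + act A1 y - act A2 y - act A1 (act A2 y)) =
        y + act A1 y - act A2 y - act A1 (act A2 y) := by
      rw [act_sub, act_sub, act_add, ← act_mul A1 A1, ← act_mul A1 A1, H.s1, act_one, act_one]
      abel
    have e2 : act A2 (y + act A1 y - act A2 y - act A1 (act A2 y)) =
        -(y + act A1 y - act A2 y - act A1 (act A2 y)) := by
      rw [act_sub, act_sub, act_add, ← act_mul A2 A2, ← act_mul A2 A1, ← act_mul A2 A1, ← H.c12,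
        H.s2, act_one, act_mul, act_mul, ← act_mul A2 A2, H.s2, act_one]
      abel
    exact hcon _ h0 e1 e2
  apply H.ne
  apply ext_act
  intro y'
  obtain ⟨y, rfl⟩ : ∃ y, act d y = y' := ⟨act d⁻¹ y', act_act_inv d y'⟩
  have k1 := congrArg (act d) (key y)
  have k2 := key (act d y)
  rw [act_zero, act_sub, act_sub, act_add, ← act_mul d A1, ← act_mul d A2, ← act_mul A1 A2,
    ← act_mul d (A1 * A2), H.d1, H.d2, H.d3, act_mul, act_mul, act_mul, act_mul] at k1
  rw [act_one, act_mul]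
  have k3 : (2 : F) • (act d y - act A1 (act A2 (act d y))) = 0 := by
    rw [two_smul]
    calc _ = (act d y + act A2 (act d y) - act A1 (act A2 (act d y)) - act A1 (act d y)) +
        (act d y + act A1 (act d y) - act A2 (act d y) - act A1 (act A2 (act d y))) := by abel
      _ = 0 := by rw [k1, k2, add_zero]
  have k4 := (smul_eq_zero.1 k3).resolve_left h2
  exact (sub_eq_zero.1 k4).symm

end Fr

/-- The frame vectors. -/
structure Vec (A1 A2 d : SU 3 F q) (x1 x2 x3 : Fin 3 → F) : Prop where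
  e2 : act d x1 = x2
  e3 : act d x2 = x3
  n1 : x1 ≠ 0
  n2 : x2 ≠ 0
  n3 : x3 ≠ 0
  a11 : act A1 x1 = x1
  a12 : act A1 x2 = -x2
  a13 : act A1 x3 = -x3
  a21 : act A2 x1 = -x1
  a22 : act A2 x2 = x2
  a23 : act A2 x3 = -x3

omit [Fintype F] in
theorem Fr.exists_frame {A1 A2 d : SU 3 F q} (H : Fr A1 A2 d) (h2 : (2 : F) ≠ 0) :
    ∃ x1 x2 x3, Vec A1 A2 d x1 x2 x3 := by
  obtain ⟨x, hx, h11, h21⟩ := H.exists_vec h2
  have h31 : act (A1 * A2) x = -x := by rw [act_mul, h21, act_neg, h11]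
  have h22 : act A2 (act d x) = act d x := by rw [← act_mul, ← H.d1, act_mul, h11]
  have h12 : act A1 (act d x) = -act d x := by rw [← act_mul, ← H.d3, act_mul, h31, act_neg]
  have h32 : act (A1 * A2) (act d x) = -act d x := by rw [act_mul, h22, h12]
  refine ⟨x, act d x, act d (act d x), rfl, rfl, hx, ?_, ?_, h11, h12, ?_, h21, h22, ?_⟩
  · rwa [Ne, act_eq_zero]
  · rwa [Ne, act_eq_zero, act_eq_zero]
  · rw [← act_mul A1 d, ← H.d3, act_mul, h32, act_neg]
  · rw [← act_mul A2 d, ← H.d1, act_mul, h12, act_neg]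

namespace Vec

variable {A1 A2 d : SU 3 F q} {x1 x2 x3 : Fin 3 → F} (V : Vec A1 A2 d x1 x2 x3)
include V

omit [Fintype F] in
theorem indep (h2 : (2 : F) ≠ 0) {a b c : F} (h : a • x1 + b • x2 + c • x3 = 0) :
    a = 0 ∧ b = 0 ∧ c = 0 := by
  have h1 := congrArg (act A1) h
  rw [act_add, act_add, act_smul, act_smul, act_smul, V.a11, V.a12, V.a13, act_zero] at h1
  have h3 := congrArg (act A2) h
  rw [act_add, act_add, act_smul, act_smul, act_smul, V.a21, V.a22, V.a23, act_zero] at h3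
  have ka : (2 * a) • x1 = 0 := by
    calc (2 * a) • x1 = (a • x1 + b • x2 + c • x3) + (a • x1 + b • -x2 + c • -x3) := by
          rw [two_mul, add_smul, smul_neg, smul_neg]; abel
      _ = 0 := by rw [h, h1, add_zero]
  have kb : (2 * b) • x2 = 0 := by
    calc (2 * b) • x2 = (a • x1 + b • x2 + c • x3) + (a • -x1 + b • x2 + c • -x3) := by
          rw [two_mul, add_smul, smul_neg, smul_neg]; abel
      _ = 0 := by rw [h, h3, add_zero]
  have ha : a = 0 := by
    have := (smul_eq_zero.1 ka).resolve_right V.n1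
    exact (mul_eq_zero.1 this).resolve_left h2
  have hb : b = 0 := by
    have := (smul_eq_zero.1 kb).resolve_right V.n2
    exact (mul_eq_zero.1 this).resolve_left h2
  refine ⟨ha, hb, ?_⟩
  rw [ha, hb, zero_smul, zero_smul, zero_add, zero_add] at h
  exact (smul_eq_zero.1 h).resolve_right V.n3

omit [Fintype F] in
theorem span (h2 : (2 : F) ≠ 0) (y : Fin 3 → F) : ∃ a b c : F, y = a • x1 + b • x2 + c • x3 := by
  have hli : LinearIndependent F ![x1, x2, x3] := by
    rw [Fintype.linearIndependent_iff]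
    intro g hg
    rw [Fin.sum_univ_three] at hg
    obtain ⟨h0, h1, h3⟩ := V.indep h2 (a := g 0) (b := g 1) (c := g 2) hg
    intro i
    fin_cases i
    · exact h0
    · exact h1
    · exact h3
  have htop := hli.span_eq_top_of_card_eq_finrank (by simp)
  have hy : y ∈ Submodule.span F (Set.range ![x1, x2, x3]) := by rw [htop]; trivial
  rw [Submodule.mem_span_range_iff_exists_fun] at hy
  obtain ⟨c, hc⟩ := hy
  rw [Fin.sum_univ_three] at hc
  exact ⟨c 0, c 1, c 2, hc.symm⟩

end Vec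

namespace Vec

variable {A1 A2 d : SU 3 F q} {x1 x2 x3 : Fin 3 → F} (V : Vec A1 A2 d x1 x2 x3)
include V

omit [Fintype F] V in
theorem anti {u v : Fin 3 → F} (h2 : (2 : F) ≠ 0) (h : hermForm 3 F q u v = -hermForm 3 F q u v) :
    hermForm 3 F q u v = 0 := by
  have : (2 : F) * hermForm 3 F q u v = 0 := by linear_combination h
  exact (mul_eq_zero.1 this).resolve_left h2

theorem o12 (hF : Fintype.card F = q ^ 2) (h2 : (2 : F) ≠ 0) : hermForm 3 F q x1 x2 = 0 := by
  apply anti h2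
  conv_lhs => rw [← herm_act A1, V.a11, V.a12, herm_neg_right hF]

theorem o13 (hF : Fintype.card F = q ^ 2) (h2 : (2 : F) ≠ 0) : hermForm 3 F q x1 x3 = 0 := by
  apply anti h2
  conv_lhs => rw [← herm_act A1, V.a11, V.a13, herm_neg_right hF]

theorem o23 (hF : Fintype.card F = q ^ 2) (h2 : (2 : F) ≠ 0) : hermForm 3 F q x2 x3 = 0 := by
  apply anti h2
  conv_lhs => rw [← herm_act A2, V.a22, V.a23, herm_neg_right hF]

omit [Fintype F] in
theorem h22 : hermForm 3 F q x2 x2 = hermForm 3 F q x1 x1 := by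
  rw [← V.e2, herm_act]

omit [Fintype F] in
theorem h33 : hermForm 3 F q x3 x3 = hermForm 3 F q x1 x1 := by
  rw [← V.e3, herm_act, V.h22]

theorem h11_ne (hF : Fintype.card F = q ^ 2) (h2 : (2 : F) ≠ 0) : hermForm 3 F q x1 x1 ≠ 0 := by
  intro h0
  apply V.n1
  obtain ⟨u, hu⟩ | h := Classical.em (∃ u, hermForm 3 F q x1 u ≠ 0)
  · exfalso
    apply hu
    obtain ⟨a, b, c, rfl⟩ := V.span h2 u
    rw [herm_add_right hF, herm_add_right hF, herm_smul_right, herm_smul_right, herm_smul_right, h0,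
      V.o12 hF h2, V.o13 hF h2]
    ring
  · by_contra hx
    obtain ⟨w, hw⟩ := exists_herm_ne_zero hF hx
    apply h
    exact ⟨w, hw⟩

end Vec

/-- The adapted orthonormal frame: `B` in `GU₃` with columns `λ x₁, λ c x₂, λ x₃`. -/
theorem Vec.exists_basis {A1 A2 d : SU 3 F q} {x1 x2 x3 : Fin 3 → F} (V : Vec A1 A2 d x1 x2 x3)
    (hF : Fintype.card F = q ^ 2) (h2 : (2 : F) ≠ 0) {c : F} (hc : c * c ^ q = 1) :
    ∃ (l : F) (B : GU 3 F q), l ≠ 0 ∧ ∀ y : Fin 3 → F,
      gm B *ᵥ y = y 0 • l • x1 + y 1 • (l * c) • x2 + y 2 • l • x3 := by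
  have hh := V.h11_ne hF h2
  obtain ⟨l, hl⟩ := exists_norm_eq hF (c := (hermForm 3 F q x1 x1)⁻¹) (by
    rw [inv_pow, herm_self_pow hF])
  have hl' : l * l ^ q * hermForm 3 F q x1 x1 = 1 := by rw [hl, inv_mul_cancel₀ hh]
  have hl0 : l ≠ 0 := by
    rintro rfl
    rw [zero_mul, zero_mul] at hl'
    exact zero_ne_one hl'
  have o12 := V.o12 hF h2
  have o13 := V.o13 hF h2
  have o23 := V.o23 hF h2
  have o21 := herm_eq_zero_swap hF o12
  have o31 := herm_eq_zero_swap hF o13
  have o32 := herm_eq_zero_swap hF o23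
  obtain ⟨g, hg, hgx⟩ := Cfsg.Agent.ClassicalGeometry.HermOrtho.exists_GU_of_orthonormal hF
    (b := ![l • x1, (l * c) • x2, l • x3]) (by
      intro i j
      fin_cases i <;> fin_cases j <;>
        simp [herm_smul_left, herm_smul_right, o12, o13, o23, o21, o31, o32, V.h22, V.h33]
      · linear_combination hl'
      · rw [mul_pow]
        linear_combination (c * c ^ q) * hl' + hc
      · linear_combination hl')
  refine ⟨l, ⟨g, hg⟩, hl0, fun y => ?_⟩
  have := hgx y
  rw [Fin.sum_univ_three] at this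
  exact this


/-- The matrix `diag(1, [[a, -b], [b, a]])`. -/
def rot (a b : F) : Matrix (Fin 3) (Fin 3) F := !![1, 0, 0; 0, a, -b; 0, b, a]

omit [Fintype F] in
theorem det_rot {a b : F} (h : a * a + b * b = 1) : (rot a b).det = 1 := by
  rw [rot, det_fin_three]
  simp
  linear_combination h

omit [Fintype F] in
theorem rot_mulVec (a b : F) (y : Fin 3 → F) :
    rot a b *ᵥ y = ![y 0, a * y 1 - b * y 2, b * y 1 + a * y 2] := by
  funext i
  fin_cases i <;> simp [rot, mulVec, dotProduct, Fin.sum_univ_three]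
  ring

theorem herm_rot (hF : Fintype.card F = q ^ 2) {a b : F} (h : a * a + b * b = 1) (ha : a ^ q = a)
    (hb : b ^ q = b) (u v : Fin 3 → F) :
    hermForm 3 F q (rot a b *ᵥ u) (rot a b *ᵥ v) = hermForm 3 F q u v := by
  rw [rot_mulVec, rot_mulVec, herm_def, herm_def, Fin.sum_univ_three, Fin.sum_univ_three]
  simp only [cons_val_zero, cons_val_one, cons_val, sub_pow_q hF, add_pow_q hF, mul_pow, ha, hb]
  linear_combination (u 1 * v 1 ^ q + u 2 * v 2 ^ q) * h

/-- The element of `SU₃`. -/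
def srot (hF : Fintype.card F = q ^ 2) {a b : F} (h : a * a + b * b = 1) (ha : a ^ q = a)
    (hb : b ^ q = b) : SU 3 F q := mkSU (rot a b) (det_rot h) (herm_rot hF h ha hb)

theorem act_srot (hF : Fintype.card F = q ^ 2) {a b : F} (h : a * a + b * b = 1) (ha : a ^ q = a)
    (hb : b ^ q = b) (y : Fin 3 → F) :
    act (srot hF h ha hb) y = ![y 0, a * y 1 - b * y 2, b * y 1 + a * y 2] := by
  rw [act_def, srot, mat_mkSU, rot_mulVec]

theorem ringAut_involution_unique {σ τ : F ≃+* F}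
    (hσ : σ * σ = 1) (hτ : τ * τ = 1) (hσ1 : σ ≠ 1) (hτ1 : τ ≠ 1) : σ = τ := by
  classical
  have : IsCyclic (F ≃+* F) := Cfsg.Agent.LieRecognition.FieldSemilinear.isCyclic_ringAut F
  have : Finite (F ≃+* F) :=
    Finite.of_injective (fun σ : F ≃+* F => (σ : F → F)) DFunLike.coe_injective
  let _ := Fintype.ofFinite (F ≃+* F)
  by_contra hne
  have h1 := IsCyclic.card_pow_eq_one_le (α := F ≃+* F) (n := 2) (by norm_num)
  have h3 : ({1, σ, τ} : Finset (F ≃+* F)) ⊆ Finset.univ.filter (fun a => a ^ 2 = 1) := by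
    intro x hx
    simp only [Finset.mem_insert, Finset.mem_singleton] at hx
    rw [Finset.mem_filter]
    refine ⟨Finset.mem_univ _, ?_⟩
    rcases hx with rfl | rfl | rfl
    · exact one_pow _
    · rw [sq, hσ]
    · rw [sq, hτ]
  have h4 := Finset.card_le_card h3
  have h5 : ({1, σ, τ} : Finset (F ≃+* F)).card = 3 := by
    rw [Finset.card_insert_of_notMem, Finset.card_insert_of_notMem, Finset.card_singleton]
    · rw [Finset.mem_singleton]; exact hne
    · simp only [Finset.mem_insert, Finset.mem_singleton, not_or]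
      exact ⟨hσ1.symm, hτ1.symm⟩
  omega

/-- An involutory field automorphism is `x ↦ x ^ q`. -/
theorem invol_eq_pow (hF : Fintype.card F = q ^ 2) {ρ : F ≃+* F} (h1 : ∀ x, ρ (ρ x) = x)
    (h : ∃ x, ρ x ≠ x) (x : F) : ρ x = x ^ q := by
  obtain ⟨y, hy⟩ := h
  obtain ⟨z, hz⟩ := exists_not_fixed hF
  have e : ρ = conj hF := by
    apply ringAut_involution_unique
    · ext x
      exact h1 x
    · ext x
      exact pow_q_pow_q hF x
    · intro h0
      exact hy (by rw [h0]; rfl)
    · intro h0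
      apply hz
      have := congrArg (fun σ : F ≃+* F => σ z) h0
      exact this
  rw [e]
  rfl

/-- `toAut D ρ` squared. -/
theorem TT_TT (hF : Fintype.card F = q ^ 2) {D : GU 3 F q} {ρ : F ≃+* F}
    (h : toAut D ρ * toAut D ρ = 1) : (∀ x, ρ (ρ x) = x) ∧
    ∃ c : F, c ≠ 0 ∧ ∀ y, TT D ρ (TT D ρ y) = c • y := by
  have e1 : toAut D ρ * toAut D ρ =
      toAut (D * Cfsg.Agent.Schreier.PSU.mapGU ρ D) (ρ * ρ) := by
    rw [Cfsg.Agent.Schreier.PSU.toAut_eq, Cfsg.Agent.Schreier.PSU.toAut_eq, map_mul, map_mul,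
      ← Cfsg.Agent.Schreier.PSU.conj_field]
    group
  have e2 : toAut (1 : GU 3 F q) (1 : F ≃+* F) = 1 := by
    rw [Cfsg.Agent.Schreier.PSU.toAut_eq, map_one, map_one, one_mul]
  rw [e1, ← e2] at h
  obtain ⟨h1, c, hc, hD⟩ := eq_of_toAut_eq hF le_rfl h.symm
  have hρ : ∀ x, ρ (ρ x) = x := fun x => congrArg (fun σ : F ≃+* F => σ x) h1
  refine ⟨hρ, c, ?_, fun y => ?_⟩
  · rintro rfl
    rw [zero_mul] at hc
    exact zero_ne_one hc
  · have h3 : TT D ρ (TT D ρ y) =
        gm (D * Cfsg.Agent.Schreier.PSU.mapGU ρ D) *ᵥ (fun i => ρ (ρ (y i))) := by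
      rw [Cfsg.Agent.ClassicalGeometry.PSUAutCount.gm_mul, ← mulVec_mulVec,
        Cfsg.Agent.Schreier.PSU.gm_mapGU]
      rfl
    rw [h3, hD]
    simp only [hρ]
    rw [Cfsg.Agent.ClassicalGeometry.PSUAutCount.gm_one, smul_mulVec, one_mulVec]

theorem two_ne (hF : Fintype.card F = q ^ 2) (hq : Odd q) : (2 : F) ≠ 0 := by
  intro h0
  obtain ⟨p, k, hp, hk, hpk⟩ : ∃ p k : ℕ, p.Prime ∧ CharP F p ∧ Fintype.card F = p ^ k := by
    obtain ⟨p, hp⟩ := CharP.exists F
    obtain ⟨n, hp', hn⟩ := FiniteField.card F p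
    exact ⟨p, n, hp', hp, hn⟩
  have h3 : p = 2 := by
    have h4 : ((2 : ℕ) : F) = 0 := by exact_mod_cast h0
    rw [CharP.cast_eq_zero_iff F p] at h4
    exact (Nat.prime_dvd_prime_iff_eq hp Nat.prime_two).1 h4
  subst h3
  have h5 : Odd (Fintype.card F) := by rw [hF]; exact hq.pow
  rw [hpk] at h5
  have h6 : k = 0 := by
    by_contra hk0
    exact (Nat.not_even_iff_odd.2 h5) ((Nat.even_pow' hk0).2 even_two)
  rw [h6, pow_zero] at hpk
  have h7 := Fintype.one_lt_card (α := F)
  omega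

/-- The key step. -/
theorem key (hF : Fintype.card F = q ^ 2) (hq : Odd q)
    (α : MulAut (PSU 3 F q)) (hα : α * α = 1) (hα1 : α ≠ 1)
    (f : alternatingGroup (Fin 5) →* PSU 3 F q) (hf : Function.Injective f)
    (fix : ∀ a, α (f a) = f a) (nrm : ∀ x, α x = x → ∀ a, ∃ b, x * f a * x⁻¹ = f b)
    {a b : F} (hab : a * a + b * b = 1) (ha : a ^ q = a) (hb : b ^ q = b) : a = 0 ∨ b = 0 := by
  have h2 := two_ne hF hq
  have hq2 : ¬ ((3 : ℕ) = 3 ∧ q = 2) := by
    rintro ⟨-, rfl⟩
    exact absurd hq (by decide)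
  obtain ⟨D, ρ, rfl⟩ := Cfsg.Agent.ClassicalGeometry.PSUAutMain.exists_toAut hF le_rfl hq2 α
  obtain ⟨hρ2, k, hk0, hTT⟩ := TT_TT hF hα
  -- the lifts
  obtain ⟨v1, v2, t, hv1, hv2, hv12, hn1, hn2, hne, ht1, ht2, hcen⟩ := afive
  obtain ⟨A1, hA1, hA1s⟩ := exists_lift_two hF (x := f v1) (by rw [← map_mul, hv1, map_one])
  obtain ⟨A2, hA2, hA2s⟩ := exists_lift_two hF (x := f v2) (by rw [← map_mul, hv2, map_one])
  obtain ⟨d, hd⟩ := pr_surjective (f t)
  have c12 : A1 * A2 = A2 * A1 := lift_comm hF hA2s hA2s (by rw [hA1, hA2, ← map_mul, ← map_mul, hv12])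
  have h3s : (A1 * A2) * (A1 * A2) = 1 := by
    calc A1 * A2 * (A1 * A2) = A1 * (A2 * A1) * A2 := by group
      _ = (A1 * A1) * (A2 * A2) := by rw [← c12]; group
      _ = 1 := by rw [hA1s, hA2s, one_mul]
  have Hf : Fr A1 A2 d := by
    refine ⟨hA1s, hA2s, c12, ?_, ?_, ?_⟩
    · intro h0
      apply hne
      apply hf
      rw [← hA1, ← hA2]
      congr 1
      calc A1 = A1 * (A2 * A2) := by rw [hA2s, mul_one]
        _ = A1 * A2 * A2 := by group
        _ = A2 := by rw [h0, one_mul]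
    · exact lift_comm hF hA1s hA2s (by rw [hA1, hA2, hd, ← map_mul, ← map_mul, ht1])
    · exact lift_comm hF hA2s h3s (by rw [map_mul, hA1, hA2, hd, ← map_mul, ← map_mul, ← map_mul, ht2])
  obtain ⟨x1, x2, x3, V⟩ := Hf.exists_frame h2
  -- the action of `T`
  have hT1 : ∀ y, act A1 (TT D ρ y) = TT D ρ (act A1 y) := by
    intro y
    have e : semiConj D ρ A1 = A1 := lift_unique hF (by rw [← map_mul, hA1s, map_one]) hA1s (by
      have := fix v1
      rw [← hA1] at this
      exact this)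
    rw [← act_TT, e]
  have hT2 : ∀ y, act A2 (TT D ρ y) = TT D ρ (act A2 y) := by
    intro y
    have e : semiConj D ρ A2 = A2 := lift_unique hF (by rw [← map_mul, hA2s, map_one]) hA2s (by
      have := fix v2
      rw [← hA2] at this
      exact this)
    rw [← act_TT, e]
  obtain ⟨c, hc3, hcq, hc⟩ := scalar_of_pr_eq hF (g := d) (g' := semiConj D ρ d) (by
    have := fix t
    rw [← hd] at this
    exact this.symm)
  have hTd : ∀ y, TT D ρ (act d y) = c • act d (TT D ρ y) := by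
    intro y
    rw [← act_TT, hc]
  obtain ⟨s, hs⟩ : ∃ s : F, TT D ρ x1 = s • x1 := by
    obtain ⟨a', b', c', h⟩ := V.span h2 (TT D ρ x1)
    have h1 := hT1 x1
    rw [V.a11, h, act_add, act_add, act_smul, act_smul, act_smul, V.a11, V.a12, V.a13] at h1
    have h3 : (0 : F) • x1 + (2 * b') • x2 + (2 * c') • x3 = 0 := by
      rw [smul_neg, smul_neg] at h1
      have h5 := sub_eq_zero.2 h1
      have h4 : (0 : F) • x1 + (2 * b') • x2 + (2 * c') • x3 =
          -(a' • x1 + -(b' • x2) + -(c' • x3) - (a' • x1 + b' • x2 + c' • x3)) := by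
        rw [two_mul, two_mul, add_smul, add_smul, zero_smul]; abel
      rw [h4, h5, neg_zero]
    obtain ⟨-, hb', hc'⟩ := V.indep h2 h3
    refine ⟨a', ?_⟩
    rw [h, (mul_eq_zero.1 hb').resolve_left h2, (mul_eq_zero.1 hc').resolve_left h2, zero_smul,
      zero_smul, add_zero, add_zero]
  have hs2 : TT D ρ x2 = (c * s) • x2 := by
    rw [← V.e2, hTd, hs, act_smul, smul_smul]
  have hs3 : TT D ρ x3 = (c * (c * s)) • x3 := by
    rw [← V.e3, hTd, hs2, act_smul, smul_smul]
  -- `ρ ≠ 1`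
  have hρ1 : ∃ x, ρ x ≠ x := by
    by_contra hcon
    push Not at hcon
    have hs0 : s ≠ 0 := by
      rintro rfl
      have e := hTT x1
      rw [hs, zero_smul, show (0 : Fin 3 → F) = (0 : F) • 0 by rw [zero_smul], TT_smul, map_zero,
        zero_smul] at e
      exact (smul_ne_zero hk0 V.n1) e.symm
    have e1 : k = s * s := by
      have e := hTT x1
      rw [hs, TT_smul, hs, smul_smul, hcon] at e
      exact (smul_left_injective F V.n1 e).symm
    have e2 : k = c * s * (c * s) := by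
      have e := hTT x2
      rw [hs2, TT_smul, hs2, smul_smul, hcon] at e
      exact (smul_left_injective F V.n2 e).symm
    have e3 : c * c = 1 := by
      have e4 : (c * c - 1) * (s * s) = 0 := by linear_combination e1 - e2
      exact sub_eq_zero.1 ((mul_eq_zero.1 e4).resolve_right (mul_ne_zero hs0 hs0))
    have e4 : c = 1 := by
      have e5 : c ^ 3 = c * c * c := by ring
      rw [hc3, e3, one_mul] at e5
      exact e5.symm
    have e5 : ∀ y, TT D ρ y = s • y := by
      intro y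
      obtain ⟨a', b', c', rfl⟩ := V.span h2 y
      rw [TT_add, TT_add, TT_smul, TT_smul, TT_smul, hs, hs2, hs3, e4, one_mul, one_mul, hcon, hcon,
        hcon, smul_comm a', smul_comm b', smul_comm c', ← smul_add, ← smul_add]
    apply hα1
    ext x
    obtain ⟨g, rfl⟩ := pr_surjective x
    have e6 : semiConj D ρ g = g := by
      apply ext_act
      intro y
      have e7 := act_TT D ρ g y
      rw [e5, e5, act_smul] at e7
      exact smul_right_injective _ hs0 e7
    have e8 : toAut D ρ (pr 3 F q g) = pr 3 F q (semiConj D ρ g) := rfl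
    rw [e8, e6]
    rfl
  have hρ := invol_eq_pow hF hρ2 hρ1
  obtain ⟨l, B, hl, hB⟩ := V.exists_basis hF h2 hcq
  set g : SU 3 F q := guConj B (srot hF hab ha hb) with hg
  have hgB : ∀ y, act g (gm B *ᵥ y) = gm B *ᵥ ![y 0, a * y 1 - b * y 2, b * y 1 + a * y 2] := by
    intro y
    rw [hg, act_guConj, gm_inv_mulVec, act_srot]
  have hρa : ρ a = a := by rw [hρ, ha]
  have hρb : ρ b = b := by rw [hρ, hb]
  have hρc : ρ c * c = 1 := by rw [hρ, mul_comm]; exact hcq
  have hc0 : c ≠ 0 := by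
    rintro rfl
    rw [zero_mul] at hcq
    exact zero_ne_one hcq
  have hρc2 : ρ c = c * c := by linear_combination (c * c) * hρc - ρ c * hc3
  -- `T` in the basis
  have hTB : ∀ y, TT D ρ (gm B *ᵥ y) = gm B *ᵥ ![ρ (y 0) * (ρ l * s * l⁻¹),
      ρ (y 1) * (ρ l * s * (c * c) * l⁻¹), ρ (y 2) * (ρ l * s * (c * c) * l⁻¹)] := by
    intro y
    rw [hB, hB, TT_add, TT_add, TT_smul, TT_smul, TT_smul, TT_smul, TT_smul, TT_smul, hs, hs2, hs3,
      smul_smul, smul_smul, smul_smul, smul_smul, smul_smul, smul_smul, smul_smul, smul_smul,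
      smul_smul, map_mul]
    simp only [cons_val_zero, cons_val_one, cons_val]
    congr 1
    · congr 1
      · congr 1; field_simp
      · congr 1; rw [hρc2]; field_simp
    · congr 1; field_simp
  have hA1B : ∀ y, act A1 (gm B *ᵥ y) = gm B *ᵥ ![y 0, -y 1, -y 2] := by
    intro y
    rw [hB, hB, act_add, act_add, act_smul, act_smul, act_smul, act_smul, act_smul, act_smul, V.a11,
      V.a12, V.a13]
    simp only [cons_val_zero, cons_val_one, cons_val, smul_neg, neg_smul]
  have hA2B : ∀ y, act A2 (gm B *ᵥ y) = gm B *ᵥ ![-y 0, y 1, -y 2] := by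
    intro y
    rw [hB, hB, act_add, act_add, act_smul, act_smul, act_smul, act_smul, act_smul, act_smul, V.a21,
      V.a22, V.a23]
    simp only [cons_val_zero, cons_val_one, cons_val, smul_neg, neg_smul]
  have hBinj : ∀ y z, gm B *ᵥ y = gm B *ᵥ z → y = z := by
    intro y z h
    rw [← gm_inv_mulVec B y, h, gm_inv_mulVec]
  have hgfix : semiConj D ρ g = g := by
    apply ext_act
    intro z
    obtain ⟨y', rfl⟩ := TT_surj D ρ z
    rw [act_TT, ← gm_mulVec_inv B y']
    generalize gm B⁻¹ *ᵥ y' = y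
    rw [hgB, hTB, hTB, hgB]
    congr 1
    simp only [cons_val_zero, cons_val_one, cons_val, map_add, map_sub, map_mul, hρa, hρb]
    funext i
    fin_cases i
    · simp
    · simp
      ring
    · simp
      ring
  have hfix : toAut D ρ (pr 3 F q g) = pr 3 F q g := by
    have e : toAut D ρ (pr 3 F q g) = pr 3 F q (semiConj D ρ g) := rfl
    rw [e, hgfix]
  have hgA1 : g * A1 = A1 * g := by
    apply ext_act
    intro z
    rw [act_mul, act_mul, ← gm_mulVec_inv B z]
    generalize gm B⁻¹ *ᵥ z = y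
    rw [hgB, hA1B, hA1B, hgB]
    congr 1
    funext i
    fin_cases i
    · simp
    · simp
      ring
    · simp
      ring
  have hgf1 : pr 3 F q g * f v1 = f v1 * pr 3 F q g := by
    rw [← hA1, ← map_mul, hgA1, map_mul]
  obtain ⟨w, hw⟩ := nrm _ hfix v2
  have hw' : pr 3 F q g * f v2 = f w * pr 3 F q g := by
    rw [← hw]; group
  have hwc : w * v1 = v1 * w := by
    apply hf
    rw [map_mul, map_mul, ← hw]
    calc pr 3 F q g * f v2 * (pr 3 F q g)⁻¹ * f v1
        = pr 3 F q g * f v2 * (pr 3 F q g)⁻¹ * (f v1 * pr 3 F q g) * (pr 3 F q g)⁻¹ := by group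
      _ = pr 3 F q g * (f v2 * f v1) * (pr 3 F q g)⁻¹ := by rw [← hgf1]; group
      _ = pr 3 F q g * (f v1 * f v2) * (pr 3 F q g)⁻¹ := by
          rw [← map_mul f v2, ← hv12, map_mul]
      _ = (pr 3 F q g * f v1) * f v2 * (pr 3 F q g)⁻¹ := by group
      _ = f v1 * (pr 3 F q g * f v2 * (pr 3 F q g)⁻¹) := by rw [hgf1]; group
  rcases hcen w hwc with rfl | rfl | rfl | rfl
  · exfalso
    rw [map_one] at hw
    apply hn2
    apply hf
    rw [map_one]
    have e : pr 3 F q g * f v2 = pr 3 F q g := mul_inv_eq_one.1 hw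
    exact mul_eq_left.1 e
  · exfalso
    apply hne
    apply hf
    have e : pr 3 F q g * f v2 = pr 3 F q g * f w := by rw [hw', hgf1]
    exact (mul_left_cancel e).symm
  · right
    have e := lift_comm hF (g := g) hA2s hA2s (by rw [hA2, hw'])
    have e2 : act (g * A2) (gm B *ᵥ ![0, 1, 0]) = act (A2 * g) (gm B *ᵥ ![0, 1, 0]) := by rw [e]
    rw [act_mul, act_mul, hA2B, hgB, hgB, hA2B] at e2
    have e3 := congrFun (hBinj _ _ e2) 2
    simp at e3
    have e4 : (2 : F) * b = 0 := by linear_combination e3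
    exact (mul_eq_zero.1 e4).resolve_left h2
  · left
    have e := lift_comm hF (g := g) hA2s h3s (by rw [hA2, map_mul, hA1, hA2, hw', map_mul])
    have e2 : act (g * A2) (gm B *ᵥ ![0, 1, 0]) = act (A1 * A2 * g) (gm B *ᵥ ![0, 1, 0]) := by rw [e]
    rw [act_mul, act_mul, act_mul, hA2B, hgB, hgB, hA2B, hA1B] at e2
    have e3 := congrFun (hBinj _ _ e2) 1
    simp at e3
    have e4 : (2 : F) * a = 0 := by linear_combination e3
    exact (mul_eq_zero.1 e4).resolve_left h2


/-- A point of the circle over the subfield of order `q`, off the axes. -/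
theorem exists_circle (hF : Fintype.card F = q ^ 2) (h2 : (2 : F) ≠ 0) (h6 : 6 ≤ q) :
    ∃ a b : F, a * a + b * b = 1 ∧ a ^ q = a ∧ b ^ q = b ∧ a ≠ 0 ∧ b ≠ 0 := by
  classical
  obtain ⟨t, ht, ht5⟩ : ∃ t : F, t ^ q = t ∧ t ^ 5 ≠ t := by
    by_contra hcon
    push Not at hcon
    have h1 := card_fixed hF
    set P : Polynomial F := Polynomial.X ^ 5 - Polynomial.X with hP
    have hdeg : P.natDegree = 5 := by
      rw [hP]
      compute_degree!
    have hP0 : P ≠ 0 := by
      intro h0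
      rw [h0, Polynomial.natDegree_zero] at hdeg
      omega
    have h3 : Nat.card {x : F // x ^ q = x} ≤ P.roots.toFinset.card := by
      rw [← Nat.card_eq_fintype_card (α := P.roots.toFinset) |>.trans (Fintype.card_coe _)]
      refine Nat.card_le_card_of_injective
        (fun x : {x : F // x ^ q = x} => (⟨x.1, ?_⟩ : P.roots.toFinset)) ?_
      · rw [Multiset.mem_toFinset, Polynomial.mem_roots hP0, Polynomial.IsRoot.def, hP]
        simp [hcon x.1 x.2]
      · intro x y h
        exact Subtype.ext (congrArg (fun z => z.1) h)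
    have h4 := Multiset.toFinset_card_le P.roots
    have h5 := P.card_roots'
    omega
  have k0 : t * (t * t - 1) * (t * t + 1) ≠ 0 := by
    intro h0
    apply ht5
    linear_combination h0
  have k1 : t ≠ 0 := by rintro rfl; exact k0 (by ring)
  have k2 : t * t - 1 ≠ 0 := by intro h0; exact k0 (by rw [h0]; ring)
  have k3 : t * t + 1 ≠ 0 := by intro h0; exact k0 (by rw [h0]; ring)
  have hc : conj hF t = t := ht
  refine ⟨(t * t - 1) / (t * t + 1), 2 * t / (t * t + 1), ?_, ?_, ?_, ?_, ?_⟩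
  · rw [div_mul_div_comm, div_mul_div_comm, ← add_div, div_eq_one_iff_eq (mul_ne_zero k3 k3)]
    ring
  · rw [← conj_apply hF, map_div₀, map_sub, map_add, map_mul, map_one, hc]
  · rw [← conj_apply hF, map_div₀, map_add, map_mul, map_mul, map_one, map_ofNat, hc]
  · exact div_ne_zero k2 k3
  · exact div_ne_zero (mul_ne_zero h2 k1) k3

/-- **`U₃(q)`, `q` odd, with an involutory automorphism in whose centraliser `A₅` is normal: `q = 5`.** -/
theorem card_eq (hF : Fintype.card F = q ^ 2) (hq : Odd q)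
    (α : MulAut (PSU 3 F q)) (hα : α * α = 1) (hα1 : α ≠ 1)
    (f : alternatingGroup (Fin 5) →* PSU 3 F q) (hf : Function.Injective f)
    (fix : ∀ a, α (f a) = f a) (nrm : ∀ x, α x = x → ∀ a, ∃ b, x * f a * x⁻¹ = f b) : q = 5 := by
  have h2 := two_ne hF hq
  have hq2 := two_le hF
  have h6 : q ≤ 5 := by
    by_contra hcon
    obtain ⟨a, b, hab, ha, hb, ha0, hb0⟩ := exists_circle hF h2 (by omega)
    rcases key hF hq α hα hα1 f hf fix nrm hab ha hb with h | h
    · exact ha0 h
    · exact hb0 h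
  have h3 : q ≠ 3 := by
    rintro rfl
    have hc : Nat.card (SU 3 F 3) = 6048 := by
      have h := Cfsg.Agent.S0278.result (F := F) (q := 3) hF 3 (by norm_num)
      have h2 : (∏ i ∈ Finset.range 3, (if Even i then 3 ^ (i + 1) + 1 else 3 ^ (i + 1) - 1)) =
        4 * 8 * 28 := by
        decide
      rw [h2] at h
      norm_num at h
      omega
    have hfin : Finite (SU 3 F 3) := Nat.finite_of_card_ne_zero (by rw [hc]; norm_num)
    have h4 : Nat.card (PSU 3 F 3) ∣ 6048 := by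
      rw [← hc]
      exact Subgroup.card_quotient_dvd_card _
    have h5 : Nat.card (alternatingGroup (Fin 5)) ∣ Nat.card (PSU 3 F 3) :=
      Subgroup.card_dvd_of_injective f hf
    have h6 : Nat.card (alternatingGroup (Fin 5)) = 60 := by
      rw [Nat.card_eq_fintype_card]
      decide
    have h7 := h5.trans h4
    rw [h6] at h7
    norm_num at h7
  rcases hq with ⟨m, rfl⟩
  omega

end Cfsg.Agent.StdL2.SFive.IdUThree
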