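import Mathlib
import Cfsg.Agent.StdL2.Frame
import Cfsg.Agent.StdL2.SFive.IdUThree
import Cfsg.Agent.S0493
import Cfsg.Agent.S0494

/-!
# S1773, `A ≅ A₅`: from the configuration to an involutory automorphism of `X ≅ L`
-/

set_option autoImplicit false

namespace Cfsg.Agent.StdL2.SFive.IdBridge

open Cfsg Subgroup Cfsg.Agent.StdL2.Setup Cfsg.Agent.StdL2.Frame

universe u

/-- A quasisimple group of order 60 is `A₅`. -/
theorem exists_alt {A : Type*} [Group A] [Finite A] (hA : IsQuasisimple A)
    (h60 : Nat.card A = 60) : Nonempty (A ≃* alternatingGroup (Fin 5)) := by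
  obtain ⟨hp, hs⟩ := hA
  have hp' : commutator A = ⊤ := hp.commutator_eq_top
  have hnc : ¬ IsCyclic (A ⧸ center A) := by
    intro hc
    have hcomm : ∀ x y : A ⧸ center A, x * y = y * x := by
      intro x y
      exact (IsCyclic.commGroup (α := A ⧸ center A)).mul_comm x y
    have h1 : commutator A ≤ center A := by
      rw [_root_.commutator_def, commutator_le]
      intro x _ y _
      rw [← QuotientGroup.eq_one_iff, commutatorElement_def]
      have := hcomm x y
      simp only [QuotientGroup.mk_mul, QuotientGroup.mk_inv]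
      rw [this]
      group
    rw [hp', top_le_iff] at h1
    have h2 : commutator A = ⊥ := by
      rw [_root_.commutator_def, commutator_eq_bot_iff_le_centralizer]
      intro x _
      rw [mem_centralizer_iff]
      intro y _
      have hx : x ∈ center A := by rw [h1]; trivial
      exact (mem_center_iff.1 hx y)
    rw [h2] at hp'
    have h3 : Nat.card A = 1 := by
      have h4 := card_top (G := A)
      rw [← hp', card_bot] at h4
      exact h4.symm
    omega
  have hle : Nat.card (A ⧸ center A) ≤ 100 := by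
    have := Nat.le_of_dvd (by omega) (card_quotient_dvd_card (center A))
    omega
  have hq : Nat.card (A ⧸ center A) = 60 := Cfsg.Agent.S0493.result hnc hle
  have hz : center A = ⊥ := by
    have h1 := card_eq_card_quotient_mul_card_subgroup (center A)
    rw [h60, hq] at h1
    exact card_eq_one.1 (by omega)
  obtain ⟨e⟩ := Cfsg.Agent.S0494.result hq
  exact ⟨(QuotientGroup.quotientBot.symm.trans
    (QuotientGroup.quotientMulEquivOfEq hz.symm)).trans e⟩

variable {G : Type u} [Group G] [Finite G] {L A : Subgroup G} {t : G}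

/-- **The bridge.** -/
theorem bridge (C : Conf L A t) (h60 : Nat.card A = 60) {X : Type*} [Group X] (e : ↥L ≃* X) :
    ∃ (α : MulAut X) (f : alternatingGroup (Fin 5) →* X), α * α = 1 ∧ α ≠ 1 ∧
      Function.Injective f ∧ (∀ a, α (f a) = f a) ∧
      ∀ x, α x = x → ∀ a, ∃ b, x * f a * x⁻¹ = f b := by
  obtain ⟨eA⟩ := exists_alt C.std.1 h60
  have := C.normal
  have htt := tt C
  have hL : ∀ y : ↥L, t * (y : G) * t⁻¹ ∈ L := fun y => C.normal.conj_mem _ y.2 t
  have hα : ∀ x : X, (MulAut.congr e (MulAut.conjNormal t)) x = e ⟨t * (e.symm x : G) * t⁻¹, hL _⟩ := by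
    intro x
    rfl
  refine ⟨MulAut.congr e (MulAut.conjNormal t),
    (e.toMonoidHom.comp (Subgroup.inclusion C.le)).comp eA.symm.toMonoidHom, ?_, ?_, ?_, ?_, ?_⟩
  · rw [← map_mul, ← map_mul, htt, map_one, map_one]
  · intro h
    have h1 : MulAut.conjNormal t = (1 : MulAut ↥L) := by
      apply (MulAut.congr e).injective
      rw [h, map_one]
    have h2 : t ∈ centralizer (L : Set G) := by
      rw [mem_centralizer_iff]
      intro y hy
      have h3 := congrArg (fun β : MulAut ↥L => ((β ⟨y, hy⟩ : ↥L) : G)) h1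
      have h4 : t * y * t⁻¹ = y := h3
      exact (mul_inv_eq_iff_eq_mul.1 h4).symm
    rw [C.cent, mem_bot] at h2
    exact t_ne_one C h2
  · exact (e.injective.comp (Subgroup.inclusion_injective C.le)).comp eA.symm.injective
  · intro a
    rw [hα]
    have h1 := mem_centralizer_iff.1 C.htA (eA.symm a : G) (eA.symm a).2
    show e ⟨t * ((e.symm (e (Subgroup.inclusion C.le (eA.symm a))) : ↥L) : G) * t⁻¹, _⟩ =
      e (Subgroup.inclusion C.le (eA.symm a))
    congr 1
    apply Subtype.ext
    show t * ((e.symm (e (Subgroup.inclusion C.le (eA.symm a))) : ↥L) : G) * t⁻¹ =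
      (eA.symm a : G)
    rw [MulEquiv.symm_apply_apply]
    show t * (eA.symm a : G) * t⁻¹ = (eA.symm a : G)
    rw [← h1, mul_inv_cancel_right]
  · intro x hx a
    rw [hα] at hx
    have h1 : t * (e.symm x : G) * t⁻¹ = (e.symm x : G) := by
      have h2 := congrArg e.symm hx
      rw [MulEquiv.symm_apply_apply] at h2
      exact congrArg Subtype.val h2
    have h2 : (e.symm x : G) ∈ centralizer ({t} : Set G) := by
      rw [mem_centralizer_singleton_iff]
      have h3 : t * (e.symm x : G) = (e.symm x : G) * t := by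
        rw [← mul_inv_eq_iff_eq_mul]; exact h1
      first
        | exact h3
        | exact h3.symm
    have h3 := (mem_normalizer_iff.1 (cent_le C h2) (eA.symm a : G)).1 (eA.symm a).2
    refine ⟨eA ⟨_, h3⟩, ?_⟩
    show x * e (Subgroup.inclusion C.le (eA.symm a)) * x⁻¹ =
      e (Subgroup.inclusion C.le (eA.symm (eA ⟨_, h3⟩)))
    apply e.symm.injective
    rw [map_mul, map_mul, map_inv, MulEquiv.symm_apply_apply, MulEquiv.symm_apply_apply,
      MulEquiv.symm_apply_apply]
    rfl

/-- **`U₃(q)`, `q` odd.** -/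
theorem ident_u3 (C : Conf L A t) (h60 : Nat.card A = 60) {F : Type} [Field F] [Fintype F] {q : ℕ}
    (hF : Fintype.card F = q ^ 2) (hq : Odd q) (e : ↥L ≃* Cfsg.PSU 3 F q) : q = 5 := by
  obtain ⟨α, f, h1, h2, h3, h4, h5⟩ := bridge C h60 e
  exact IdUThree.card_eq hF hq α h1 h2 f h3 h4 h5

end Cfsg.Agent.StdL2.SFive.IdBridge
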