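import Mathlib

/-!
# Elements of a finite field used in the identification of `L_3(5)` and `U_3(5)`
-/

set_option autoImplicit false

namespace Cfsg.Agent.StdL2.SFive.IdField

variable {F : Type*} [Field F]

/-- the norm onto the fixed field of an involution is surjective -/
theorem exists_norm [Finite F] {σ : F ≃+* F} (h2 : σ * σ = 1) (h1 : σ ≠ 1) {c : F} (hc : σ c = c) :
    ∃ e : F, e * σ e = c := by
  classical
  have : Finite (F ≃+* F) := Finite.of_injective (fun σ : F ≃+* F => (σ : F → F)) DFunLike.coe_injective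
  have : Fintype (Subgroup.zpowers σ) := Fintype.ofFinite _
  let K := FixedPoints.subfield (Subgroup.zpowers σ) F
  have hK : c ∈ K := by
    rintro ⟨τ, hτ⟩
    change τ c = c
    obtain ⟨k, rfl⟩ := Subgroup.mem_zpowers_iff.1 hτ
    have h1 : σ ∈ MulAction.stabilizer (F ≃+* F) c := hc
    exact (MulAction.stabilizer (F ≃+* F) c).zpow_mem h1 k
  obtain ⟨e, he⟩ := FiniteField.norm_surjective K F ⟨c, hK⟩
  refine ⟨e, ?_⟩
  have h3 := Algebra.norm_eq_prod_automorphisms K e
  rw [he] at h3
  have h4 : (algebraMap K F) ⟨c, hK⟩ = c := rfl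
  rw [h4] at h3
  rw [h3]
  have hord : orderOf σ = 2 := orderOf_eq_prime (by rw [pow_two, h2]) h1
  have hfo : IsOfFinOrder σ := isOfFinOrder_of_finite σ
  rw [← Equiv.prod_comp (FixedPoints.toAlgAutMulEquiv (Subgroup.zpowers σ) F).toEquiv,
    ← Equiv.prod_comp (finEquivZPowers hfo)]
  have h5 : ∀ k : Fin (orderOf σ), (FixedPoints.toAlgAutMulEquiv (Subgroup.zpowers σ) F).toEquiv
      (finEquivZPowers hfo k) e = (σ ^ (k : ℕ)) e := by
    intro k
    rw [finEquivZPowers_apply]
    rfl
  rw [Finset.prod_congr rfl (fun k _ => h5 k), Fin.prod_univ_eq_prod_range (fun k => (σ ^ k) e), hord,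
    Finset.prod_range_succ, Finset.prod_range_one, pow_zero, pow_one]
  rfl

/-- a rational point of the unit circle off the axes, over a subset `S` of `F` with more than five elements closed
under the field operations -/
theorem exists_circle (h2 : (2 : F) ≠ 0) {m : F} (h0 : m ≠ 0) (h4 : m ^ 4 ≠ 1) :
    (2 * m / (1 + m ^ 2)) ≠ 0 ∧ ((1 - m ^ 2) / (1 + m ^ 2)) ≠ 0 ∧
      ((1 - m ^ 2) / (1 + m ^ 2)) ^ 2 + (2 * m / (1 + m ^ 2)) ^ 2 = 1 := by
  have h5 : (1 + m ^ 2) * (1 - m ^ 2) ≠ 0 := by
    intro h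
    apply h4
    linear_combination -h
  have h6 := left_ne_zero_of_mul h5
  have h7 := right_ne_zero_of_mul h5
  refine ⟨div_ne_zero (mul_ne_zero h2 h0) h6, div_ne_zero h7 h6, ?_⟩
  field_simp
  ring

/-- a set of more than five elements has a member with `m ≠ 0`, `m ^ 4 ≠ 1` -/
theorem exists_param (S : Finset F) (hS : 6 ≤ S.card) : ∃ m ∈ S, m ≠ 0 ∧ m ^ 4 ≠ 1 := by
  classical
  by_contra hno
  push Not at hno
  obtain ⟨P, hP⟩ : ∃ P : Polynomial F, P = Polynomial.X ^ 5 - Polynomial.X := ⟨_, rfl⟩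
  have hdeg : P.natDegree = 5 := by
    rw [hP]; compute_degree!
  have hP0 : P ≠ 0 := by
    intro h
    rw [h] at hdeg
    simp at hdeg
  have hsub : S ⊆ P.roots.toFinset := by
    intro m hm
    rw [Multiset.mem_toFinset, Polynomial.mem_roots hP0, Polynomial.IsRoot.def, hP]
    simp only [Polynomial.eval_sub, Polynomial.eval_pow, Polynomial.eval_X]
    by_cases h0 : m = 0
    · rw [h0]; simp
    · have h4 := hno m hm h0
      linear_combination m * h4
  have h1 := Finset.card_le_card hsub
  have h2 := Multiset.toFinset_card_le P.roots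
  have h3 := Polynomial.card_roots' P
  omega

end Cfsg.Agent.StdL2.SFive.IdField
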