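import Mathlib

/-!
# Frames for a lifted alternating group of degree four in dimension three

Commuting involutions `X₁, X₂` of determinant one, permuted cyclically (with their product) by `Y` of determinant
one, become `diag(1,-1,-1)`, `diag(-1,1,-1)` and a permutation matrix in a suitable basis.
-/

set_option autoImplicit false

namespace Cfsg.Agent.StdL2.SFive.IdFrame

open Matrix

section lift

variable {H K : Type*} [Group H] [Group K]

/-- involutions are lifted uniquely through a central extension by a group of exponent three -/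
theorem lift_unique {π : H →* K} (hker : ∀ z, π z = 1 → z ^ 3 = 1 ∧ ∀ h, z * h = h * z) {a b : H}
    (h : π a = π b) (ha : a * a = 1) (hb : b * b = 1) : a = b := by
  have h1 : π (a * b⁻¹) = 1 := by rw [map_mul, map_inv, h, mul_inv_cancel]
  obtain ⟨h2, h3⟩ := hker _ h1
  obtain ⟨z, hz⟩ : ∃ z, z = a * b⁻¹ := ⟨_, rfl⟩
  rw [← hz] at h2 h3
  have h4 : a = z * b := by rw [hz, inv_mul_cancel_right]
  have h5 : z * z = 1 := by
    have h6 : z * z * (b * b) = 1 := by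
      calc z * z * (b * b) = z * (z * b) * b := by group
        _ = z * (b * z) * b := by rw [h3 b]
        _ = (z * b) * (z * b) := by group
        _ = 1 := by rw [← h4, ha]
    rw [hb, mul_one] at h6
    exact h6
  have h6 : z = 1 := by
    have h7 : z ^ 3 = z * z * z := by rw [pow_succ, pow_two]
    rw [h7, h5, one_mul] at h2
    exact h2
  rw [h4, h6, one_mul]

theorem lift_exists {π : H →* K} (hπ : Function.Surjective π)
    (hker : ∀ z, π z = 1 → z ^ 3 = 1 ∧ ∀ h, z * h = h * z) {x : K} (hx : x * x = 1) :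
    ∃ a, π a = x ∧ a * a = 1 := by
  obtain ⟨a, rfl⟩ := hπ x
  refine ⟨a ^ 3, ?_, ?_⟩
  · rw [map_pow, pow_succ, pow_two, hx, one_mul]
  · have h1 : π (a * a) = 1 := by rw [map_mul, hx]
    have h2 := (hker _ h1).1
    calc a ^ 3 * a ^ 3 = (a * a) ^ 3 := by
          rw [← pow_add, ← pow_two, ← pow_mul]
      _ = 1 := h2

/-- lifting of a group of type `A_4` -/
theorem lift_four {π : H →* K} (hπ : Function.Surjective π)
    (hker : ∀ z, π z = 1 → z ^ 3 = 1 ∧ ∀ h, z * h = h * z) {x₁ x₂ y : K} (h1 : x₁ * x₁ = 1) (h2 : x₂ * x₂ = 1)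
    (h12 : x₁ * x₂ = x₂ * x₁) (hy1 : y * x₁ = x₂ * y) (hy2 : y * x₂ = x₁ * x₂ * y) :
    ∃ X₁ X₂ Y : H, π X₁ = x₁ ∧ π X₂ = x₂ ∧ π Y = y ∧ X₁ * X₁ = 1 ∧ X₂ * X₂ = 1 ∧ X₁ * X₂ = X₂ * X₁ ∧
      Y * X₁ = X₂ * Y ∧ Y * X₂ = X₁ * X₂ * Y := by
  obtain ⟨X₁, e1, f1⟩ := lift_exists hπ hker h1
  obtain ⟨X₂, e2, f2⟩ := lift_exists hπ hker h2
  obtain ⟨Y, e3⟩ := hπ y
  have inv1 : X₁⁻¹ = X₁ := inv_eq_of_mul_eq_one_right f1
  have k12 : X₁ * X₂ * X₁⁻¹ = X₂ := by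
    apply lift_unique hker _ _ f2
    · rw [map_mul, map_mul, map_inv, e1, e2, h12, mul_inv_cancel_right]
    · calc X₁ * X₂ * X₁⁻¹ * (X₁ * X₂ * X₁⁻¹) = X₁ * (X₂ * X₂) * X₁⁻¹ := by group
        _ = 1 := by rw [f2, mul_one, mul_inv_cancel]
  have c12 : X₁ * X₂ = X₂ * X₁ := by
    calc X₁ * X₂ = (X₁ * X₂ * X₁⁻¹) * X₁ := by group
      _ = X₂ * X₁ := by rw [k12]
  refine ⟨X₁, X₂, Y, e1, e2, e3, f1, f2, c12, ?_, ?_⟩
  · have k : Y * X₁ * Y⁻¹ = X₂ := by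
      apply lift_unique hker _ _ f2
      · rw [map_mul, map_mul, map_inv, e1, e2, e3, hy1, mul_inv_cancel_right]
      · calc Y * X₁ * Y⁻¹ * (Y * X₁ * Y⁻¹) = Y * (X₁ * X₁) * Y⁻¹ := by group
          _ = 1 := by rw [f1, mul_one, mul_inv_cancel]
    calc Y * X₁ = (Y * X₁ * Y⁻¹) * Y := by group
      _ = X₂ * Y := by rw [k]
  · have k : Y * X₂ * Y⁻¹ = X₁ * X₂ := by
      apply lift_unique hker
      · rw [map_mul, map_mul, map_mul, map_inv, e1, e2, e3, hy2, mul_inv_cancel_right]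
      · calc Y * X₂ * Y⁻¹ * (Y * X₂ * Y⁻¹) = Y * (X₂ * X₂) * Y⁻¹ := by group
          _ = 1 := by rw [f2, mul_one, mul_inv_cancel]
      · calc X₁ * X₂ * (X₁ * X₂) = X₁ * (X₂ * X₁) * X₂ := by group
          _ = (X₁ * X₁) * (X₂ * X₂) := by rw [← c12]; group
          _ = 1 := by rw [f1, f2, one_mul]
    calc Y * X₂ = (Y * X₂ * Y⁻¹) * Y := by group
      _ = X₁ * X₂ * Y := by rw [k]

end lift

section frame

variable {F : Type*} [Field F]

/-- a frame -/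
theorem exists_frame (h2 : (2 : F) ≠ 0) {X₁ X₂ Y : Matrix (Fin 3) (Fin 3) F} (hX1 : X₁ * X₁ = 1)
    (hX2 : X₂ * X₂ = 1) (hc : X₁ * X₂ = X₂ * X₁) (hY1 : Y * X₁ = X₂ * Y) (hY2 : Y * X₂ = X₁ * X₂ * Y)
    (hdet : Y.det = 1) (hne : X₁ ≠ 1) :
    ∃ e₁ e₂ e₃ : Fin 3 → F, X₁ *ᵥ e₁ = e₁ ∧ X₁ *ᵥ e₂ = -e₂ ∧ X₁ *ᵥ e₃ = -e₃ ∧ X₂ *ᵥ e₁ = -e₁ ∧ X₂ *ᵥ e₂ = e₂ ∧
      X₂ *ᵥ e₃ = -e₃ ∧ Y *ᵥ e₁ = e₂ ∧ Y *ᵥ e₂ = e₃ ∧ Y *ᵥ e₃ = e₁ ∧ (Matrix.of ![e₁, e₂, e₃])ᵀ.det ≠ 0 := by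
  have hYu : IsUnit Y.det := by rw [hdet]; exact isUnit_one
  have cancel : ∀ A B : Matrix (Fin 3) (Fin 3) F, A * Y = B * Y → A = B := by
    intro A B h
    have := congrArg (fun M => M * Y⁻¹) h
    simpa [mul_assoc, Matrix.mul_nonsing_inv Y hYu] using this
  have hY12 : Y * (X₁ * X₂) = X₁ * Y := by
    calc Y * (X₁ * X₂) = (Y * X₁) * X₂ := by rw [mul_assoc]
      _ = X₂ * (Y * X₂) := by rw [hY1, mul_assoc]
      _ = (X₂ * X₁) * X₂ * Y := by rw [hY2]; simp only [mul_assoc]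
      _ = X₁ * (X₂ * X₂) * Y := by rw [← hc]; simp only [mul_assoc]
      _ = X₁ * Y := by rw [hX2, mul_one]
  -- the element `M` is not zero
  have hM : (1 + X₁) * (1 - X₂) ≠ 0 := by
    intro h0
    have a1 : (1 : Matrix (Fin 3) (Fin 3) F) + X₁ - X₂ - X₁ * X₂ = 0 := by
      rw [← h0]; noncomm_ring
    have a2 : (1 : Matrix (Fin 3) (Fin 3) F) + X₂ - X₁ * X₂ - X₁ = 0 := by
      apply cancel
      rw [zero_mul]
      have e := congrArg (fun M => Y * M) a1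
      simp only [mul_sub, mul_add, mul_one, mul_zero] at e
      rw [hY1, hY2, hY12] at e
      simp only [sub_mul, add_mul, one_mul]
      exact e
    have a3 : (1 : Matrix (Fin 3) (Fin 3) F) + X₁ * X₂ - X₁ - X₂ = 0 := by
      apply cancel
      rw [zero_mul]
      have e := congrArg (fun M => Y * M) a2
      simp only [mul_sub, mul_add, mul_one, mul_zero] at e
      rw [hY1, hY2, hY12] at e
      simp only [sub_mul, add_mul, one_mul]
      exact e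
    apply hne
    have a4 : (2 : F) • X₁ = (2 : F) • (1 : Matrix (Fin 3) (Fin 3) F) := by
      have e : ((1 : Matrix (Fin 3) (Fin 3) F) + X₂ - X₁ * X₂ - X₁) + (1 + X₁ * X₂ - X₁ - X₂) = 0 := by
        rw [a2, a3, add_zero]
      rw [two_smul, two_smul]
      have e' : (1 + 1 : Matrix (Fin 3) (Fin 3) F) - (X₁ + X₁) = 0 := by
        rw [← e]; abel
      exact (sub_eq_zero.1 e').symm
    have := congrArg (fun M => (2 : F)⁻¹ • M) a4
    simpa only [smul_smul, inv_mul_cancel₀ h2, one_smul] using this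
  obtain ⟨v, hv⟩ : ∃ v : Fin 3 → F, ((1 + X₁) * (1 - X₂)) *ᵥ v ≠ 0 := by
    by_contra hno
    push Not at hno
    apply hM
    ext i j
    have := congrFun (hno (Pi.single j 1)) i
    simpa using this
  obtain ⟨e₁, he1⟩ : ∃ e₁, e₁ = ((1 + X₁) * (1 - X₂)) *ᵥ v := ⟨_, rfl⟩
  rw [← he1] at hv
  have r11 : X₁ *ᵥ e₁ = e₁ := by
    rw [he1, mulVec_mulVec]
    congr 1
    calc X₁ * ((1 + X₁) * (1 - X₂)) = (X₁ + X₁ * X₁) * (1 - X₂) := by noncomm_ring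
      _ = (1 + X₁) * (1 - X₂) := by rw [hX1, add_comm]
  have r21 : X₂ *ᵥ e₁ = -e₁ := by
    rw [he1, mulVec_mulVec, ← neg_mulVec]
    congr 1
    calc X₂ * ((1 + X₁) * (1 - X₂)) = X₂ + X₂ * X₁ - X₂ * X₂ - (X₂ * X₁) * X₂ := by noncomm_ring
      _ = X₂ + X₁ * X₂ - 1 - X₁ * 1 := by rw [← hc, mul_assoc, hX2]
      _ = -((1 + X₁) * (1 - X₂)) := by noncomm_ring
  have y1 : ∀ w : Fin 3 → F, X₂ *ᵥ (Y *ᵥ w) = Y *ᵥ (X₁ *ᵥ w) := by
    intro w
    rw [mulVec_mulVec, mulVec_mulVec, hY1]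
  have y12 : ∀ w : Fin 3 → F, X₁ *ᵥ (Y *ᵥ w) = Y *ᵥ (X₁ *ᵥ (X₂ *ᵥ w)) := by
    intro w
    rw [mulVec_mulVec, mulVec_mulVec, mulVec_mulVec, ← hY12]
    simp only [mul_assoc]
  obtain ⟨e₂, he2⟩ : ∃ e₂, e₂ = Y *ᵥ e₁ := ⟨_, rfl⟩
  obtain ⟨e₃, he3⟩ : ∃ e₃, e₃ = Y *ᵥ e₂ := ⟨_, rfl⟩
  have r12 : X₁ *ᵥ e₂ = -e₂ := by
    rw [he2, y12, r21, mulVec_neg, r11, mulVec_neg]
  have r22 : X₂ *ᵥ e₂ = e₂ := by
    rw [he2, y1, r11]
  have r13 : X₁ *ᵥ e₃ = -e₃ := by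
    rw [he3, y12, r22, r12, mulVec_neg]
  have r23 : X₂ *ᵥ e₃ = -e₃ := by
    rw [he3, y1, r12, mulVec_neg]
  have inj : ∀ w : Fin 3 → F, Y *ᵥ w = 0 → w = 0 := by
    intro w hw
    have := congrArg (fun u => Y⁻¹ *ᵥ u) hw
    simpa [mulVec_mulVec, Matrix.nonsing_inv_mul Y hYu] using this
  have n2 : e₂ ≠ 0 := fun h => hv (inj _ (he2 ▸ h))
  have n3 : e₃ ≠ 0 := fun h => n2 (inj _ (he3 ▸ h))
  -- independence
  have ind : ∀ a b c : F, a • e₁ + b • e₂ + c • e₃ = 0 → a = 0 ∧ b = 0 ∧ c = 0 := by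
    intro a b c h
    have k1 : a • e₁ - b • e₂ - c • e₃ = 0 := by
      have := congrArg (fun u => X₁ *ᵥ u) h
      simp only [mulVec_add, mulVec_smul, r11, r12, r13, mulVec_zero, smul_neg] at this
      rw [← this]; abel
    have k2 : -(a • e₁) + b • e₂ - c • e₃ = 0 := by
      have := congrArg (fun u => X₂ *ᵥ u) h
      simp only [mulVec_add, mulVec_smul, r21, r22, r23, mulVec_zero, smul_neg] at this
      rw [← this]; abel
    have l1 : (2 * a) • e₁ = 0 := by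
      have e : (a • e₁ + b • e₂ + c • e₃) + (a • e₁ - b • e₂ - c • e₃) = 0 := by rw [h, k1, add_zero]
      rw [two_mul, add_smul]
      rw [← e]; abel
    have l2 : (2 * b) • e₂ = 0 := by
      have e : (a • e₁ + b • e₂ + c • e₃) + (-(a • e₁) + b • e₂ - c • e₃) = 0 := by rw [h, k2, add_zero]
      rw [two_mul, add_smul]
      rw [← e]; abel
    have m1 : a = 0 := by
      rcases smul_eq_zero.1 l1 with h' | h'
      · exact (mul_eq_zero.1 h').resolve_left h2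
      · exact absurd h' hv
    have m2 : b = 0 := by
      rcases smul_eq_zero.1 l2 with h' | h'
      · exact (mul_eq_zero.1 h').resolve_left h2
      · exact absurd h' n2
    refine ⟨m1, m2, ?_⟩
    rw [m1, m2, zero_smul, zero_smul, zero_add, zero_add] at h
    exact (smul_eq_zero.1 h).resolve_right n3
  -- the matrix of the frame
  obtain ⟨B, hB⟩ : ∃ B : Matrix (Fin 3) (Fin 3) F, B = (Matrix.of ![e₁, e₂, e₃])ᵀ := ⟨_, rfl⟩
  have hBv : ∀ w : Fin 3 → F, B *ᵥ w = w 0 • e₁ + w 1 • e₂ + w 2 • e₃ := by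
    intro w
    funext i
    rw [hB]
    simp only [mulVec, dotProduct, Fin.sum_univ_three, transpose_apply, of_apply, Pi.add_apply, Pi.smul_apply,
      smul_eq_mul]
    simp only [cons_val_zero, cons_val_one, cons_val]
    ring
  have hBdet : B.det ≠ 0 := by
    intro h0
    obtain ⟨w, hw, hw0⟩ := Matrix.exists_mulVec_eq_zero_iff.2 h0
    rw [hBv] at hw0
    obtain ⟨a, b, c⟩ := ind _ _ _ hw0
    apply hw
    funext i
    fin_cases i
    · exact a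
    · exact b
    · exact c
  have hBu : IsUnit B.det := isUnit_iff_ne_zero.2 hBdet
  -- the last vector
  obtain ⟨w, hw⟩ : ∃ w : Fin 3 → F, B *ᵥ w = Y *ᵥ e₃ :=
    ⟨B⁻¹ *ᵥ (Y *ᵥ e₃), by rw [mulVec_mulVec, Matrix.mul_nonsing_inv B hBu, one_mulVec]⟩
  have s1 : X₁ *ᵥ (Y *ᵥ e₃) = Y *ᵥ e₃ := by
    rw [y12, r23, mulVec_neg, r13, neg_neg]
  have s2 : X₂ *ᵥ (Y *ᵥ e₃) = -(Y *ᵥ e₃) := by
    rw [y1, r13, mulVec_neg]
  rw [← hw, hBv] at s1 s2
  have t1 : (0 : F) • e₁ + (2 * w 1) • e₂ + (2 * w 2) • e₃ = 0 := by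
    simp only [mulVec_add, mulVec_smul, r11, r12, r13, smul_neg] at s1
    have e := sub_eq_zero.2 s1.symm
    rw [← e, two_mul, two_mul, add_smul, add_smul, zero_smul]
    abel
  obtain ⟨-, t2, t3⟩ := ind _ _ _ t1
  have t2' : w 1 = 0 := (mul_eq_zero.1 t2).resolve_left h2
  have t3' : w 2 = 0 := (mul_eq_zero.1 t3).resolve_left h2
  have hYe3 : Y *ᵥ e₃ = w 0 • e₁ := by
    rw [← hw, hBv, t2', t3', zero_smul, zero_smul, add_zero, add_zero]
  have hmat : Y * B = B * !![0, 0, w 0; 1, 0, 0; 0, 1, 0] := by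
    apply Matrix.ext_of_mulVec_single
    intro i
    rw [← mulVec_mulVec, ← mulVec_mulVec, hBv, hBv]
    fin_cases i
    · simp [he2]
    · simp [he3]
    · simp [hYe3]
  have hw0 : w 0 = 1 := by
    have h := congrArg Matrix.det hmat
    rw [det_mul, det_mul, hdet, one_mul] at h
    have h' : (!![0, 0, w 0; 1, 0, 0; 0, 1, 0] : Matrix (Fin 3) (Fin 3) F).det = w 0 := by
      rw [det_fin_three]
      simp
    rw [h'] at h
    have h'' : B.det * 1 = B.det * w 0 := by rw [mul_one]; exact h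
    exact (mul_left_cancel₀ hBdet h'').symm
  refine ⟨e₁, e₂, e₃, r11, r12, r13, r21, r22, r23, he2.symm, he3.symm, ?_, ?_⟩
  · rw [hYe3, hw0, one_smul]
  · rw [← hB]; exact hBdet

end frame

end Cfsg.Agent.StdL2.SFive.IdFrame
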