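import Cfsg.Agent.StdAlt.Five.Act

/-!
# Two commuting elements normalising an alternating group of degree five

Let `f : A_5 → G` be injective, let `j` and `g` normalise its image and commute, and let `j * j` be the image of an
involution.  Then `g * j ^ (-i)` centralises the image of `f` for some `i`: the element `j` acts as a four-cycle, and
a four-cycle generates its own centraliser in the symmetric group of degree five.
-/

set_option autoImplicit false

namespace Cfsg.Agent.StdL2.SFive.IdKey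

open Equiv

/-- abbreviation -/
abbrev A5 := alternatingGroup (Fin 5)

theorem four_cent : ∀ σ : Perm (Fin 5), σ * σ ≠ 1 → σ * σ * (σ * σ) = 1 → ∀ τ : Perm (Fin 5), τ * σ = σ * τ →
    τ = 1 ∨ τ = σ ∨ τ = σ * σ ∨ τ = σ * σ * σ := by decide +kernel

theorem cent_alt : ∀ τ : Perm (Fin 5), (∀ a : A5, τ * a = a * τ) → τ = 1 := by decide +kernel

variable {G : Type*} [Group G]

/-- conjugation by `g` on the image of `f`, as a permutation of five points -/
theorem exists_sig {f : A5 →* G} (hf : Function.Injective f) {g : G} (hg : ∀ a, ∃ b, g * f a * g⁻¹ = f b) :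
    ∃ σ : Perm (Fin 5), ∀ a b : A5, (b : Perm (Fin 5)) = σ * a * σ⁻¹ → g * f a * g⁻¹ = f b := by
  choose c hc using hg
  let c' : A5 →* A5 :=
    { toFun := c
      map_one' := by
        apply hf
        rw [← hc, map_one, mul_one, mul_inv_cancel]
      map_mul' := fun a b => by
        apply hf
        rw [← hc, map_mul, map_mul, ← hc, ← hc]
        group }
  have hinj : Function.Injective c' := by
    intro a b hab
    have h : c a = c b := hab
    have h1 : g * f a * g⁻¹ = g * f b * g⁻¹ := by rw [hc, hc, h]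
    apply hf
    exact mul_left_cancel (mul_right_cancel h1)
  obtain ⟨σ, hσ⟩ := Cfsg.Agent.StdAlt.Five.exists_perm
    (MulEquiv.ofBijective c' (Finite.injective_iff_bijective.1 hinj))
  refine ⟨σ, fun a b hb => ?_⟩
  rw [hc]
  congr 1
  apply Subtype.ext
  rw [hb, ← hσ a]
  rfl

/-- the permutation conjugate of an even permutation -/
def cjA (σ : Perm (Fin 5)) (a : A5) : A5 :=
  ⟨σ * a * σ⁻¹, by
    have h : Perm.sign (a : Perm (Fin 5)) = 1 := Equiv.Perm.mem_alternatingGroup.1 a.2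
    rw [Equiv.Perm.mem_alternatingGroup, map_mul, map_mul, h, mul_one, map_inv, mul_inv_cancel]⟩

theorem exists_comm {f : A5 →* G} (hf : Function.Injective f) {j g : G} (hj : ∀ a, ∃ b, j * f a * j⁻¹ = f b)
    (hg : ∀ a, ∃ b, g * f a * g⁻¹ = f b) (hc : g * j = j * g) {s : A5} (hs : j * j = f s) (hs1 : s ≠ 1)
    (hs2 : s * s = 1) : ∃ i : Fin 4, ∀ a, g * (j ^ (i : ℕ))⁻¹ * f a = f a * (g * (j ^ (i : ℕ))⁻¹) := by
  obtain ⟨σ, hσ⟩ := exists_sig hf hj
  obtain ⟨τ, hτ⟩ := exists_sig hf hg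
  have h1 : ∀ a, j * f a * j⁻¹ = f (cjA σ a) := fun a => hσ a _ rfl
  have h2 : ∀ a, g * f a * g⁻¹ = f (cjA τ a) := fun a => hτ a _ rfl
  -- the square of `σ`
  have h3 : σ * σ = (s : Perm (Fin 5)) := by
    have h4 : ∀ a : A5, ((s : Perm (Fin 5))⁻¹ * (σ * σ)) * a = a * ((s : Perm (Fin 5))⁻¹ * (σ * σ)) := by
      intro a
      have h5 : cjA σ (cjA σ a) = s * a * s⁻¹ := by
        apply hf
        rw [← h1, ← h1, map_mul, map_mul, map_inv, ← hs]
        group
      have h6 : σ * (σ * (a : Perm (Fin 5)) * σ⁻¹) * σ⁻¹ = s * a * (s : Perm (Fin 5))⁻¹ :=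
        congrArg Subtype.val h5
      calc ((s : Perm (Fin 5))⁻¹ * (σ * σ)) * a
          = (s : Perm (Fin 5))⁻¹ * (σ * (σ * (a : Perm (Fin 5)) * σ⁻¹) * σ⁻¹) * (σ * σ) := by group
        _ = a * ((s : Perm (Fin 5))⁻¹ * (σ * σ)) := by rw [h6]; group
    have h7 := cent_alt _ h4
    exact (inv_mul_eq_one.1 h7).symm
  have h8 : τ * σ = σ * τ := by
    have h4 : ∀ a : A5, ((σ * τ)⁻¹ * (τ * σ)) * a = a * ((σ * τ)⁻¹ * (τ * σ)) := by
      intro a
      have h5 : cjA τ (cjA σ a) = cjA σ (cjA τ a) := by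
        apply hf
        rw [← h2, ← h1, ← h1, ← h2]
        calc g * (j * f a * j⁻¹) * g⁻¹ = (g * j) * f a * (g * j)⁻¹ := by group
          _ = (j * g) * f a * (j * g)⁻¹ := by rw [hc]
          _ = j * (g * f a * g⁻¹) * j⁻¹ := by group
      have h6 : τ * (σ * (a : Perm (Fin 5)) * σ⁻¹) * τ⁻¹ = σ * (τ * (a : Perm (Fin 5)) * τ⁻¹) * σ⁻¹ :=
        congrArg Subtype.val h5
      calc ((σ * τ)⁻¹ * (τ * σ)) * a
          = (σ * τ)⁻¹ * (τ * (σ * (a : Perm (Fin 5)) * σ⁻¹) * τ⁻¹) * (τ * σ) := by group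
        _ = a * ((σ * τ)⁻¹ * (τ * σ)) := by rw [h6]; group
    have h7 := cent_alt _ h4
    exact (inv_mul_eq_one.1 h7).symm
  have h9 : σ * σ ≠ 1 := by
    rw [h3]; exact fun h => hs1 (Subtype.ext h)
  have h10 : σ * σ * (σ * σ) = 1 := by
    rw [h3]; exact congrArg Subtype.val hs2
  have h11 : ∀ i : ℕ, ∀ a, j ^ i * f a * (j ^ i)⁻¹ = f (cjA (σ ^ i) a) := by
    intro i
    induction i with
    | zero =>
      intro a
      rw [pow_zero, one_mul, inv_one, mul_one]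
      refine congrArg f (Subtype.ext ?_)
      show (a : Perm (Fin 5)) = σ ^ 0 * a * (σ ^ 0)⁻¹
      rw [pow_zero, one_mul, inv_one, mul_one]
    | succ i ih =>
      intro a
      have e1 : j ^ (i + 1) * f a * (j ^ (i + 1))⁻¹ = j * (j ^ i * f a * (j ^ i)⁻¹) * j⁻¹ := by
        rw [pow_succ']; group
      rw [e1, ih, h1]
      refine congrArg f (Subtype.ext ?_)
      show σ * (σ ^ i * (a : Perm (Fin 5)) * (σ ^ i)⁻¹) * σ⁻¹ = σ ^ (i + 1) * a * (σ ^ (i + 1))⁻¹
      rw [pow_succ']; group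
  have h12 : ∃ i : Fin 4, τ = σ ^ (i : ℕ) := by
    rcases four_cent σ h9 h10 τ h8 with h | h | h | h
    · exact ⟨0, by rw [h]; rfl⟩
    · exact ⟨1, by rw [h]; exact (pow_one σ).symm⟩
    · exact ⟨2, by rw [h]; exact (pow_two σ).symm⟩
    · exact ⟨3, by rw [h]; exact (by rw [show ((3 : Fin 4) : ℕ) = 3 from rfl, pow_succ, pow_two])⟩
  obtain ⟨i, hi⟩ := h12
  refine ⟨i, fun a => ?_⟩
  have h13 : g * f a * g⁻¹ = j ^ (i : ℕ) * f a * (j ^ (i : ℕ))⁻¹ := by rw [h2, h11, hi]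
  have h14 : Commute g (j ^ (i : ℕ)) := Commute.pow_right hc _
  have h15 : f a = (j ^ (i : ℕ))⁻¹ * (g * f a * g⁻¹) * j ^ (i : ℕ) := by rw [h13]; group
  have h16 : g * (j ^ (i : ℕ))⁻¹ = (j ^ (i : ℕ))⁻¹ * g := (h14.inv_right).eq
  calc g * (j ^ (i : ℕ))⁻¹ * f a = (j ^ (i : ℕ))⁻¹ * g * f a := by rw [h16]
    _ = ((j ^ (i : ℕ))⁻¹ * (g * f a * g⁻¹) * j ^ (i : ℕ)) * ((j ^ (i : ℕ))⁻¹ * g) := by group
    _ = f a * (g * (j ^ (i : ℕ))⁻¹) := by rw [← h15, h16]

end Cfsg.Agent.StdL2.SFive.IdKey
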