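import Cfsg.Agent.ClassicalGeometry.AutPSL.Main
import Cfsg.Agent.StdL2.SFive.IdKey
import Cfsg.Agent.StdL2.SFive.IdFrame
import Cfsg.Agent.StdL2.SFive.IdField

/-!
# `L_3(q)`, `q` odd, with an involutory automorphism fixing an alternating group of degree five

Let `F` be a finite field of odd order and let `α` be an automorphism of `PSL_3(F)` of order two which fixes the
elements of the image of an injective `f : A_5 → PSL_3(F)`.  If the fixed points of `α` normalise the image, then
`|F| = 5`.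
-/

set_option autoImplicit false

namespace Cfsg.Agent.StdL2.SFive.IdPSL

open Matrix
open Cfsg.Agent.ClassicalGeometry.AutPSL.Root
open Cfsg.Agent.ClassicalGeometry.AutPSL.Auto
open Cfsg.Agent.ClassicalGeometry.AutPSL.Main
open Cfsg.Agent.StdL2.SFive.IdKey

local notation "SL3" => Matrix.SpecialLinearGroup (Fin 3)
local notation "PSL3" => Matrix.ProjectiveSpecialLinearGroup (Fin 3)

/-- an involution -/
def s1 : A5 := ⟨Equiv.swap 0 1 * Equiv.swap 2 3, Equiv.Perm.mem_alternatingGroup.2 (by decide)⟩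

/-- an involution -/
def s2 : A5 := ⟨Equiv.swap 0 2 * Equiv.swap 1 3, Equiv.Perm.mem_alternatingGroup.2 (by decide)⟩

/-- an element of order three -/
def dd : A5 := ⟨Equiv.swap 1 2 * Equiv.swap 2 3, Equiv.Perm.mem_alternatingGroup.2 (by decide)⟩

theorem s1_sq : s1 * s1 = 1 := by decide
theorem s2_sq : s2 * s2 = 1 := by decide
theorem s1_ne : s1 ≠ 1 := by decide
theorem s12 : s1 * s2 = s2 * s1 := by decide
theorem d1 : dd * s1 = s2 * dd := by decide
theorem d2 : dd * s2 = s1 * s2 * dd := by decide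

section

variable {F : Type*} [Field F]

/-- `diag(1,-1,-1)` -/
def V1 (F : Type*) [Field F] : SL3 F := ⟨!![1, 0, 0; 0, -1, 0; 0, 0, -1], by rw [det_fin_three]; simp⟩

/-- `diag(-1,1,-1)` -/
def V2 (F : Type*) [Field F] : SL3 F := ⟨!![-1, 0, 0; 0, 1, 0; 0, 0, -1], by rw [det_fin_three]; simp⟩

/-- the permutation matrix -/
def PP (F : Type*) [Field F] : SL3 F := ⟨!![0, 0, 1; 1, 0, 0; 0, 1, 0], by rw [det_fin_three]; simp⟩

/-- an element with square `V1` -/
def JJ (F : Type*) [Field F] : SL3 F := ⟨!![1, 0, 0; 0, 0, 1; 0, -1, 0], by rw [det_fin_three]; simp⟩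

theorem coe_V1 : (V1 F : Matrix (Fin 3) (Fin 3) F) = !![1, 0, 0; 0, -1, 0; 0, 0, -1] := rfl
theorem coe_V2 : (V2 F : Matrix (Fin 3) (Fin 3) F) = !![-1, 0, 0; 0, 1, 0; 0, 0, -1] := rfl
theorem coe_PP : (PP F : Matrix (Fin 3) (Fin 3) F) = !![0, 0, 1; 1, 0, 0; 0, 1, 0] := rfl
theorem coe_JJ : (JJ F : Matrix (Fin 3) (Fin 3) F) = !![1, 0, 0; 0, 0, 1; 0, -1, 0] := rfl

theorem ker_pr (z : SL3 F) (hz : pr z = 1) : z ^ 3 = 1 ∧ ∀ h, z * h = h * z := by
  have h1 := (pr_eq_one_iff z).1 hz
  refine ⟨?_, fun h => ((Subgroup.mem_center_iff.1 h1) h).symm⟩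
  obtain ⟨r, hr, hz⟩ := Matrix.SpecialLinearGroup.mem_center_iff.1 h1
  apply Subtype.ext
  rw [Matrix.SpecialLinearGroup.coe_pow, ← hz, ← map_pow, Matrix.SpecialLinearGroup.coe_one]
  rw [Fintype.card_fin] at hr
  rw [hr, map_one]

/-- standard position -/
theorem exists_std (h2 : (2 : F) ≠ 0) {f : A5 →* PSL3 F} (hf : Function.Injective f) :
    ∃ C : GL (Fin 3) F, f s1 = lift (cj C) (pr (V1 F)) ∧ f s2 = lift (cj C) (pr (V2 F)) ∧
      f dd = lift (cj C) (pr (PP F)) := by
  obtain ⟨X₁, X₂, Y, e1, e2, e3, r1, r2, r12, ry1, ry2⟩ := IdFrame.lift_four (pr_surjective) ker_pr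
    (x₁ := f s1) (x₂ := f s2) (y := f dd)
    (by rw [← map_mul, s1_sq, map_one]) (by rw [← map_mul, s2_sq, map_one]) (by rw [← map_mul, s12, map_mul])
    (by rw [← map_mul, d1, map_mul]) (by rw [← map_mul, d2, map_mul, map_mul])
  have hX1 : (X₁ : Matrix (Fin 3) (Fin 3) F) ≠ 1 := by
    intro h
    apply s1_ne
    apply hf
    rw [← e1, map_one]
    have : X₁ = 1 := Subtype.ext h
    rw [this, map_one]
  have cast := fun {A B : SL3 F} (h : A = B) => congrArg (Subtype.val) h
  obtain ⟨v1, v2, v3, a1, a2, a3, b1, b2, b3, c1, c2, c3, hdet⟩ := IdFrame.exists_frame h2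
    (X₁ := X₁.1) (X₂ := X₂.1) (Y := Y.1) (cast r1) (cast r2) (cast r12) (cast ry1) (cast ry2) Y.2 hX1
  obtain ⟨B, hB⟩ : ∃ B : Matrix (Fin 3) (Fin 3) F, B = (Matrix.of ![v1, v2, v3])ᵀ := ⟨_, rfl⟩
  have hBv : ∀ w : Fin 3 → F, B *ᵥ w = w 0 • v1 + w 1 • v2 + w 2 • v3 := by
    intro w
    funext i
    rw [hB]
    simp only [mulVec, dotProduct, Fin.sum_univ_three, transpose_apply, of_apply, Pi.add_apply, Pi.smul_apply,
      smul_eq_mul]
    simp only [cons_val_zero, cons_val_one, cons_val]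
    ring
  let C : GL (Fin 3) F := Matrix.GeneralLinearGroup.mkOfDetNeZero B (by rw [hB]; exact hdet)
  have hC : (C : Matrix (Fin 3) (Fin 3) F) = B := rfl
  have key : ∀ (X N : SL3 F), X.1 * B = B * N.1 → cj C N = X := by
    intro X N h
    apply Subtype.ext
    rw [coe_cj, hC, ← h, ← hC, mul_assoc, ← Units.val_mul, mul_inv_cancel, Units.val_one, mul_one]
  have k1 : X₁.1 * B = B * (V1 F).1 := by
    apply Matrix.ext_of_mulVec_single
    intro i
    rw [← mulVec_mulVec, ← mulVec_mulVec, hBv, hBv]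
    fin_cases i
    · simp [V1, a1]
    · simp [V1, a2]
    · simp [V1, a3]
  have k2 : X₂.1 * B = B * (V2 F).1 := by
    apply Matrix.ext_of_mulVec_single
    intro i
    rw [← mulVec_mulVec, ← mulVec_mulVec, hBv, hBv]
    fin_cases i
    · simp [V2, b1]
    · simp [V2, b2]
    · simp [V2, b3]
  have k3 : Y.1 * B = B * (PP F).1 := by
    apply Matrix.ext_of_mulVec_single
    intro i
    rw [← mulVec_mulVec, ← mulVec_mulVec, hBv, hBv]
    fin_cases i
    · simp [PP, c1]
    · simp [PP, c2]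
    · simp [PP, c3]
  refine ⟨C, ?_, ?_, ?_⟩
  · rw [lift_pr, key _ _ k1, e1]
  · rw [lift_pr, key _ _ k2, e2]
  · rw [lift_pr, key _ _ k3, e3]

/-! ### diagonal matrices -/

/-- `diag(1,r,r²)` -/
def dg (F : Type*) [Field F] : Fˣ →* GL (Fin 3) F where
  toFun r :=
    { val := diagonal ![1, (r : F), (r : F) ^ 2]
      inv := diagonal ![1, ((r⁻¹ : Fˣ) : F), ((r⁻¹ : Fˣ) : F) ^ 2]
      val_inv := by
        rw [diagonal_mul_diagonal, ← diagonal_one]
        congr 1
        funext i
        fin_cases i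
        · simp
        · simp
        · simp
      inv_val := by
        rw [diagonal_mul_diagonal, ← diagonal_one]
        congr 1
        funext i
        fin_cases i
        · simp
        · simp
        · simp }
  map_one' := by
    apply Units.ext
    show diagonal _ = (1 : Matrix (Fin 3) (Fin 3) F)
    rw [← diagonal_one]
    congr 1
    funext i
    fin_cases i
    · simp
    · simp
    · simp
  map_mul' r s := by
    apply Units.ext
    show diagonal _ = diagonal _ * diagonal _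
    rw [diagonal_mul_diagonal]
    congr 1
    funext i
    fin_cases i
    · simp
    · simp
    · simp [mul_pow]

theorem coe_dg (r : Fˣ) : (dg F r : Matrix (Fin 3) (Fin 3) F) = diagonal ![1, (r : F), (r : F) ^ 2] := rfl

theorem coe_dg_inv (r : Fˣ) : ((dg F r)⁻¹ : GL (Fin 3) F) = dg F r⁻¹ := (map_inv (dg F) r).symm

theorem fld_cj (σ : F ≃+* F) (r : Fˣ) :
    fld σ * cj (dg F r) = cj (dg F (Units.map (σ : F →* F) r)) * fld σ := by
  apply MulEquiv.ext
  intro g
  apply Subtype.ext
  ext i j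
  show σ ((cj (dg F r) g : SL3 F).1 i j) = (cj (dg F (Units.map (σ : F →* F) r)) (fld σ g)).1 i j
  rw [coe_cj, coe_cj, coe_dg_inv, coe_dg_inv, coe_dg, coe_dg, coe_dg, coe_dg]
  rw [Matrix.mul_diagonal, Matrix.diagonal_mul, Matrix.mul_diagonal, Matrix.diagonal_mul, map_mul, map_mul,
    coe_fld_apply]
  congr 1
  · congr 1
    fin_cases i
    · simp
    · simp
    · simp
  · fin_cases j
    · simp
    · simp
    · simp

theorem itr_cj (r : Fˣ) : (itr : MulAut (SL3 F)) * cj (dg F r) = cj (dg F r⁻¹) * itr := by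
  apply MulEquiv.ext
  intro g
  apply Subtype.ext
  show (itr (cj (dg F r) g)).1 = (cj (dg F r⁻¹) (itr g)).1
  rw [coe_itr, coe_cj, coe_itr, ← map_inv (cj (dg F r)), coe_cj, transpose_mul, transpose_mul, coe_dg_inv,
    coe_dg_inv, inv_inv, coe_dg, coe_dg, diagonal_transpose, diagonal_transpose, mul_assoc]

theorem itr_fld (σ : F ≃+* F) : (itr : MulAut (SL3 F)) * fld σ = fld σ * itr := by
  apply MulEquiv.ext
  intro g
  apply Subtype.ext
  ext i j
  show (itr (fld σ g)).1 i j = (fld σ (itr g)).1 i j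
  rw [coe_itr, transpose_apply, ← map_inv (fld σ), coe_fld_apply, coe_fld_apply, coe_itr, transpose_apply]

theorem cj_dg_V1 (r : Fˣ) : cj (dg F r) (V1 F) = V1 F := by
  apply Subtype.ext
  ext i j
  rw [coe_cj, coe_dg_inv, coe_dg, coe_dg, Matrix.mul_diagonal, Matrix.diagonal_mul]
  fin_cases i <;> fin_cases j <;> simp [V1]

theorem cj_dg_V2 (r : Fˣ) : cj (dg F r) (V2 F) = V2 F := by
  apply Subtype.ext
  ext i j
  rw [coe_cj, coe_dg_inv, coe_dg, coe_dg, Matrix.mul_diagonal, Matrix.diagonal_mul]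
  fin_cases i <;> fin_cases j <;> simp [V2]

theorem fld_V1 (σ : F ≃+* F) : fld σ (V1 F) = V1 F := by
  apply Subtype.ext
  ext i j
  rw [coe_fld_apply]
  fin_cases i <;> fin_cases j <;> simp [V1]

theorem fld_V2 (σ : F ≃+* F) : fld σ (V2 F) = V2 F := by
  apply Subtype.ext
  ext i j
  rw [coe_fld_apply]
  fin_cases i <;> fin_cases j <;> simp [V2]

theorem fld_PP (σ : F ≃+* F) : fld σ (PP F) = PP F := by
  apply Subtype.ext
  ext i j
  rw [coe_fld_apply]
  fin_cases i <;> fin_cases j <;> simp [PP]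

theorem fld_JJ (σ : F ≃+* F) : fld σ (JJ F) = JJ F := by
  apply Subtype.ext
  ext i j
  rw [coe_fld_apply]
  fin_cases i <;> fin_cases j <;> simp [JJ]

theorem itr_of {g h : SL3 F} (e : g.1ᵀ * h.1 = 1) : itr g = h := by
  have h1 : g.transpose * h = 1 := Subtype.ext e
  have h2 : (g⁻¹).transpose * g.transpose = 1 := by
    apply Subtype.ext
    show (g⁻¹ : SL3 F).1ᵀ * g.1ᵀ = 1
    rw [← transpose_mul, ← Matrix.SpecialLinearGroup.coe_mul, mul_inv_cancel,
      Matrix.SpecialLinearGroup.coe_one, transpose_one]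
  show (g⁻¹).transpose = h
  calc (g⁻¹).transpose = (g⁻¹).transpose * (g.transpose * h) := by rw [h1, mul_one]
    _ = h := by rw [← mul_assoc, h2, one_mul]

theorem itr_V1 : itr (V1 F) = V1 F := by
  apply itr_of
  ext i j
  fin_cases i <;> fin_cases j <;> simp [V1, Matrix.mul_apply, Fin.sum_univ_three]

theorem itr_V2 : itr (V2 F) = V2 F := by
  apply itr_of
  ext i j
  fin_cases i <;> fin_cases j <;> simp [V2, Matrix.mul_apply, Fin.sum_univ_three]

theorem itr_PP : itr (PP F) = PP F := by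
  apply itr_of
  ext i j
  fin_cases i <;> fin_cases j <;> simp [PP, Matrix.mul_apply, Fin.sum_univ_three]

theorem itr_JJ : itr (JJ F) = JJ F := by
  apply itr_of
  ext i j
  fin_cases i <;> fin_cases j <;> simp [JJ, Matrix.mul_apply, Fin.sum_univ_three]

theorem V1_sq : V1 F * V1 F = 1 := by
  apply Subtype.ext
  rw [Matrix.SpecialLinearGroup.coe_mul, Matrix.SpecialLinearGroup.coe_one]
  ext i j
  fin_cases i <;> fin_cases j <;> simp [V1, Matrix.mul_apply, Fin.sum_univ_three]

theorem V2_sq : V2 F * V2 F = 1 := by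
  apply Subtype.ext
  rw [Matrix.SpecialLinearGroup.coe_mul, Matrix.SpecialLinearGroup.coe_one]
  ext i j
  fin_cases i <;> fin_cases j <;> simp [V2, Matrix.mul_apply, Fin.sum_univ_three]

theorem JJ_sq : JJ F * JJ F = V1 F := by
  apply Subtype.ext
  rw [Matrix.SpecialLinearGroup.coe_mul]
  ext i j
  fin_cases i <;> fin_cases j <;> simp [JJ, V1, Matrix.mul_apply, Fin.sum_univ_three]

/-- the elements of `GL_3` centralising the frame -/
theorem exists_dg (h2 : (2 : F) ≠ 0) {A : GL (Fin 3) F} (h1 : pr (cj A (V1 F)) = pr (V1 F))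
    (h3 : pr (cj A (V2 F)) = pr (V2 F)) (h4 : pr (cj A (PP F)) = pr (PP F)) :
    ∃ r : Fˣ, r ^ 3 = 1 ∧ cj A = cj (dg F r) := by
  have e1 : cj A (V1 F) = V1 F := by
    apply IdFrame.lift_unique ker_pr h1 _ V1_sq
    rw [← map_mul, V1_sq, map_one]
  have e2 : cj A (V2 F) = V2 F := by
    apply IdFrame.lift_unique ker_pr h3 _ V2_sq
    rw [← map_mul, V2_sq, map_one]
  have key : ∀ N M : SL3 F, cj A N = M → A.1 * N.1 = M.1 * A.1 := by
    intro N M h
    rw [← h, coe_cj, mul_assoc, ← Units.val_mul, inv_mul_cancel, Units.val_one, mul_one]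
  have k1 := key _ _ e1
  have k2 := key _ _ e2
  have two : ∀ x : F, x = -x → x = 0 := by
    intro x hx
    have : (2 : F) * x = 0 := by linear_combination hx
    exact (mul_eq_zero.1 this).resolve_left h2
  have a01 : A.1 0 1 = 0 := by
    have := congrFun (congrFun k1 0) 1
    simp [V1, Matrix.mul_apply, Fin.sum_univ_three] at this
    exact two _ this.symm
  have a02 : A.1 0 2 = 0 := by
    have := congrFun (congrFun k1 0) 2
    simp [V1, Matrix.mul_apply, Fin.sum_univ_three] at this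
    exact two _ this.symm
  have a10 : A.1 1 0 = 0 := by
    have := congrFun (congrFun k1 1) 0
    simp [V1, Matrix.mul_apply, Fin.sum_univ_three] at this
    exact two _ this
  have a20 : A.1 2 0 = 0 := by
    have := congrFun (congrFun k1 2) 0
    simp [V1, Matrix.mul_apply, Fin.sum_univ_three] at this
    exact two _ this
  have a12 : A.1 1 2 = 0 := by
    have := congrFun (congrFun k2 1) 2
    simp [V2, Matrix.mul_apply, Fin.sum_univ_three] at this
    exact two _ this.symm
  have a21 : A.1 2 1 = 0 := by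
    have := congrFun (congrFun k2 2) 1
    simp [V2, Matrix.mul_apply, Fin.sum_univ_three] at this
    exact two _ this
  obtain ⟨c, hc⟩ := exists_smul_of_pr_eq h4.symm
  have k3 : A.1 * (PP F).1 = (c • (PP F).1) * A.1 := by
    rw [← hc, coe_cj, mul_assoc, ← Units.val_mul, inv_mul_cancel, Units.val_one, mul_one]
  have p02 : A.1 0 0 = c * A.1 2 2 := by
    have := congrFun (congrFun k3 0) 2
    simpa [PP, Matrix.mul_apply, Fin.sum_univ_three, a01, a02] using this
  have p10 : A.1 1 1 = c * A.1 0 0 := by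
    have := congrFun (congrFun k3 1) 0
    simpa [PP, Matrix.mul_apply, Fin.sum_univ_three, a01, a02] using this
  have p21 : A.1 2 2 = c * A.1 1 1 := by
    have := congrFun (congrFun k3 2) 1
    simpa [PP, Matrix.mul_apply, Fin.sum_univ_three, a01, a02] using this
  have hdet : A.1.det ≠ 0 := by
    have := A.isUnit
    exact ((Matrix.isUnit_iff_isUnit_det _).1 this).ne_zero
  rw [det_fin_three, a01, a02, a10, a20, a12, a21] at hdet
  have h00 : A.1 0 0 ≠ 0 := by
    intro h; apply hdet; rw [h]; ring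
  have hc3 : c ^ 3 = 1 := by
    have : A.1 0 0 * c ^ 3 = A.1 0 0 * 1 := by
      rw [mul_one]
      calc A.1 0 0 * c ^ 3 = c * (c * (c * A.1 0 0)) := by ring
        _ = A.1 0 0 := by rw [← p10, ← p21, ← p02]
    exact mul_left_cancel₀ h00 this
  have hc0 : c ≠ 0 := by
    intro h; rw [h] at hc3; simp at hc3
  refine ⟨Units.mk0 c hc0, Units.ext (by rw [Units.val_pow_eq_pow_val, Units.val_mk0, hc3, Units.val_one]), ?_⟩
  -- `A` is a scalar multiple of the diagonal matrix
  obtain ⟨Z, hZ⟩ : ∃ Z : GL (Fin 3) F, (Z : Matrix (Fin 3) (Fin 3) F) = scalar (Fin 3) (A.1 0 0) :=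
    ⟨Units.mk (scalar (Fin 3) (A.1 0 0)) (scalar (Fin 3) (A.1 0 0)⁻¹)
      (by rw [← map_mul, mul_inv_cancel₀ h00, map_one]) (by rw [← map_mul, inv_mul_cancel₀ h00, map_one]), rfl⟩
  have hA : A = Z * dg F (Units.mk0 c hc0) := by
    apply Units.ext
    rw [Units.val_mul, hZ]
    show A.1 = scalar (Fin 3) (A.1 0 0) * diagonal ![1, c, c ^ 2]
    ext i j
    rw [Matrix.mul_diagonal, scalar_apply]
    fin_cases i <;> fin_cases j <;> simp [a01, a02, a10, a12, a20, a21, p10, p21]
    · ring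
    · ring
  calc cj A = cj (Z * dg F (Units.mk0 c hc0)) := congrArg cj hA
    _ = cj (dg F (Units.mk0 c hc0)) := by rw [map_mul, cj_eq_one_of_scalar hZ.symm, one_mul]

theorem dg_eq_one {r : Fˣ} {c : F} (h : scalar (Fin 3) c = (dg F r : Matrix (Fin 3) (Fin 3) F)) : r = 1 := by
  have h0 := congrFun (congrFun h 0) 0
  have h1 := congrFun (congrFun h 1) 1
  rw [coe_dg, scalar_apply] at h0 h1
  rw [diagonal_apply_eq, diagonal_apply_eq] at h0 h1
  apply Units.ext
  rw [Units.val_one]
  simp only [cons_val_zero, cons_val_one] at h0 h1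
  rw [← h1, h0]

theorem map_map_units (σ : F ≃+* F) (h : σ * σ = 1) (r : Fˣ) :
    Units.map (σ : F →* F) (Units.map (σ : F →* F) r) = r := by
  apply Units.ext
  show (σ * σ) (r : F) = r
  rw [h]; rfl

/-- the automorphism in the frame -/
theorem exists_normal [Finite F] (h2 : (2 : F) ≠ 0) {f : A5 →* PSL3 F} (hf : Function.Injective f)
    {α : MulAut (PSL3 F)} (hα : α * α = 1) (fix : ∀ a, α (f a) = f a) :
    ∃ (C : GL (Fin 3) F) (σ : F ≃+* F), σ * σ = 1 ∧ f s1 = lift (cj C) (pr (V1 F)) ∧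
      f s2 = lift (cj C) (pr (V2 F)) ∧
      ((∀ M : SL3 F, α (lift (cj C) (pr M)) = lift (cj C) (pr (fld σ M))) ∨
        (∀ M : SL3 F, α (lift (cj C) (pr M)) = lift (cj C) (pr (fld σ (itr M))))) := by
  classical
  have _ : Fintype F := Fintype.ofFinite F
  obtain ⟨p, hp⟩ := CharP.exists F
  have hpp : Fact p.Prime := ⟨CharP.char_is_prime F p⟩
  obtain ⟨C, f1, f2, f3⟩ := exists_std h2 hf
  obtain ⟨β, hβ⟩ : ∃ β : MulAut (PSL3 F), β = (lift (cj C))⁻¹ * α * lift (cj C) := ⟨_, rfl⟩
  have hαβ : ∀ x, α (lift (cj C) x) = lift (cj C) (β x) := by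
    intro x
    have : α * lift (cj C) = lift (cj C) * β := by rw [hβ]; group
    exact congrArg (fun γ : MulAut (PSL3 F) => γ x) this
  have hββ : β * β = 1 := by
    rw [hβ]
    calc (lift (cj C))⁻¹ * α * lift (cj C) * ((lift (cj C))⁻¹ * α * lift (cj C))
        = (lift (cj C))⁻¹ * (α * α) * lift (cj C) := by group
      _ = 1 := by rw [hα, mul_one, inv_mul_cancel]
  have inj : Function.Injective (lift (cj C)) := (lift (cj C)).injective
  have g1 : β (pr (V1 F)) = pr (V1 F) := by
    apply inj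
    rw [← hαβ, ← f1, fix]
  have g2 : β (pr (V2 F)) = pr (V2 F) := by
    apply inj
    rw [← hαβ, ← f2, fix]
  have g3 : β (pr (PP F)) = pr (PP F) := by
    apply inj
    rw [← hαβ, ← f3, fix]
  rcases surj_three p le_rfl β with ⟨A, σ, hA⟩ | ⟨A, σ, hA⟩
  · have k1 : pr (cj A (V1 F)) = pr (V1 F) := by
      rw [hA, lift_pr, MulAut.mul_apply, fld_V1] at g1; exact g1
    have k2 : pr (cj A (V2 F)) = pr (V2 F) := by
      rw [hA, lift_pr, MulAut.mul_apply, fld_V2] at g2; exact g2
    have k3 : pr (cj A (PP F)) = pr (PP F) := by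
      rw [hA, lift_pr, MulAut.mul_apply, fld_PP] at g3; exact g3
    obtain ⟨r, hr, hcj⟩ := exists_dg h2 k1 k2 k3
    rw [hcj] at hA
    obtain ⟨r', hr'⟩ : ∃ r', r' = Units.map (σ : F →* F) r := ⟨_, rfl⟩
    have hsq : lift (cj (dg F (r * r')) * fld (σ * σ)) = lift (fld (1 : F ≃+* F)) := by
      have e : (cj (dg F r) * fld σ) * (cj (dg F r) * fld σ) = cj (dg F (r * r')) * fld (σ * σ) := by
        calc (cj (dg F r) * fld σ) * (cj (dg F r) * fld σ)
            = cj (dg F r) * (fld σ * cj (dg F r)) * fld σ := by group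
          _ = cj (dg F r) * (cj (dg F r') * fld σ) * fld σ := by rw [fld_cj, hr']
          _ = cj (dg F (r * r')) * fld (σ * σ) := by rw [map_mul (dg F), map_mul cj, map_mul fld]; group
      rw [← e, map_mul, ← hA, hββ, map_one, map_one]
    obtain ⟨⟨c, hc⟩, hσ⟩ := injective_aux hsq
    have hrr : r * r' = 1 := dg_eq_one hc
    refine ⟨C * dg F r⁻¹, σ, hσ, ?_, ?_, Or.inl ?_⟩
    · rw [map_mul cj, map_mul lift, MulAut.mul_apply, lift_pr (cj (dg F r⁻¹)), cj_dg_V1, f1]
    · rw [map_mul cj, map_mul lift, MulAut.mul_apply, lift_pr (cj (dg F r⁻¹)), cj_dg_V2, f2]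
    · intro M
      rw [map_mul cj, map_mul lift, MulAut.mul_apply, hαβ, MulAut.mul_apply]
      congr 1
      have e : (cj (dg F r) * fld σ) * cj (dg F r⁻¹) = cj (dg F r⁻¹) * fld σ := by
        calc (cj (dg F r) * fld σ) * cj (dg F r⁻¹) = cj (dg F r) * (fld σ * cj (dg F r⁻¹)) := by group
          _ = cj (dg F r) * (cj (dg F (Units.map (σ : F →* F) r⁻¹)) * fld σ) := by rw [fld_cj]
          _ = cj (dg F (r * Units.map (σ : F →* F) r⁻¹)) * fld σ := by
              rw [map_mul (dg F), map_mul cj]; group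
          _ = cj (dg F r⁻¹) * fld σ := by
              congr 3
              rw [map_inv, ← hr']
              have h3 : r'⁻¹ = r := inv_eq_of_mul_eq_one_left hrr
              rw [h3]
              have h4 : r * r * r = 1 := by rw [← hr, pow_succ, pow_two]
              exact eq_inv_of_mul_eq_one_left h4
      rw [← MulAut.mul_apply, hA, ← map_mul, e, lift_pr, lift_pr, MulAut.mul_apply]
  · have k1 : pr (cj A (V1 F)) = pr (V1 F) := by
      rw [hA, lift_pr, MulAut.mul_apply, MulAut.mul_apply, itr_V1, fld_V1] at g1; exact g1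
    have k2 : pr (cj A (V2 F)) = pr (V2 F) := by
      rw [hA, lift_pr, MulAut.mul_apply, MulAut.mul_apply, itr_V2, fld_V2] at g2; exact g2
    have k3 : pr (cj A (PP F)) = pr (PP F) := by
      rw [hA, lift_pr, MulAut.mul_apply, MulAut.mul_apply, itr_PP, fld_PP] at g3; exact g3
    obtain ⟨r, hr, hcj⟩ := exists_dg h2 k1 k2 k3
    rw [hcj] at hA
    obtain ⟨r', hr'⟩ : ∃ r', r' = Units.map (σ : F →* F) r⁻¹ := ⟨_, rfl⟩
    have hsq : lift (cj (dg F (r * r')) * fld (σ * σ)) = lift (fld (1 : F ≃+* F)) := by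
      have e : (cj (dg F r) * fld σ * itr) * (cj (dg F r) * fld σ * itr) = cj (dg F (r * r')) * fld (σ * σ) := by
        calc (cj (dg F r) * fld σ * itr) * (cj (dg F r) * fld σ * itr)
            = cj (dg F r) * fld σ * (itr * cj (dg F r)) * fld σ * itr := by group
          _ = cj (dg F r) * (fld σ * cj (dg F r⁻¹)) * (itr * fld σ) * itr := by rw [itr_cj]; group
          _ = cj (dg F r) * (cj (dg F r') * fld σ) * (fld σ * itr) * itr := by rw [fld_cj, hr', itr_fld]
          _ = cj (dg F r) * cj (dg F r') * (fld σ * fld σ) * (itr * itr) := by group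
          _ = cj (dg F (r * r')) * fld (σ * σ) := by
              rw [itr_mul_itr, mul_one, map_mul (dg F), map_mul cj, map_mul fld]
      rw [← e, map_mul, ← hA, hββ, map_one, map_one]
    obtain ⟨⟨c, hc⟩, hσ⟩ := injective_aux hsq
    have hrr : r * r' = 1 := dg_eq_one hc
    have hr1 : Units.map (σ : F →* F) r = r := by
      rw [map_inv] at hr'
      have : r * (Units.map (σ : F →* F) r)⁻¹ = 1 := by rw [← hr', hrr]
      exact (mul_inv_eq_one.1 this).symm
    refine ⟨C * dg F r⁻¹, σ, hσ, ?_, ?_, Or.inr ?_⟩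
    · rw [map_mul cj, map_mul lift, MulAut.mul_apply, lift_pr (cj (dg F r⁻¹)), cj_dg_V1, f1]
    · rw [map_mul cj, map_mul lift, MulAut.mul_apply, lift_pr (cj (dg F r⁻¹)), cj_dg_V2, f2]
    · intro M
      rw [map_mul cj, map_mul lift, MulAut.mul_apply, hαβ, MulAut.mul_apply]
      congr 1
      have e : (cj (dg F r) * fld σ * itr) * cj (dg F r⁻¹) = cj (dg F r⁻¹) * (fld σ * itr) := by
        calc (cj (dg F r) * fld σ * itr) * cj (dg F r⁻¹) = cj (dg F r) * fld σ * (itr * cj (dg F r⁻¹)) := by group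
          _ = cj (dg F r) * (fld σ * cj (dg F r)) * itr := by rw [itr_cj, inv_inv]; group
          _ = cj (dg F r) * (cj (dg F r) * fld σ) * itr := by rw [fld_cj, hr1]
          _ = cj (dg F (r * r)) * (fld σ * itr) := by
              rw [map_mul (dg F), map_mul cj]; group
          _ = cj (dg F r⁻¹) * (fld σ * itr) := by
              congr 3
              have h4 : r * r * r = 1 := by rw [← hr, pow_succ, pow_two]
              exact eq_inv_of_mul_eq_one_left h4
      rw [← MulAut.mul_apply, hA, ← map_mul, e, lift_pr, lift_pr, MulAut.mul_apply, MulAut.mul_apply]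

/-- the contradiction -/
theorem contra (h2 : (2 : F) ≠ 0) {f : A5 →* PSL3 F} (hf : Function.Injective f) {α : MulAut (PSL3 F)}
    (nrm : ∀ x, α x = x → ∀ a, ∃ b, x * f a * x⁻¹ = f b) {C : GL (Fin 3) F}
    (f1 : f s1 = lift (cj C) (pr (V1 F))) (f2 : f s2 = lift (cj C) (pr (V2 F)))
    (hJ : α (lift (cj C) (pr (JJ F))) = lift (cj C) (pr (JJ F))) {G : SL3 F} {u x y : F}
    (hG : (G : Matrix (Fin 3) (Fin 3) F) = !![u, 0, 0; 0, x, y; 0, -y, x]) (hx : x ≠ 0) (hy : y ≠ 0)
    (hGα : α (lift (cj C) (pr G)) = lift (cj C) (pr G)) : False := by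
  obtain ⟨i, hi⟩ := exists_comm hf (nrm _ hJ) (nrm _ hGα)
    (by
      rw [← map_mul, ← map_mul, ← map_mul, ← map_mul]
      congr 2
      apply Subtype.ext
      rw [Matrix.SpecialLinearGroup.coe_mul, Matrix.SpecialLinearGroup.coe_mul, hG, coe_JJ]
      ext a b
      fin_cases a <;> fin_cases b <;> simp [Matrix.mul_apply, Fin.sum_univ_three])
    (s := s1) (by rw [← map_mul, ← map_mul, JJ_sq, f1]) s1_ne s1_sq
  have h4 : (JJ F) ^ 4 = 1 := by
    rw [show (4 : ℕ) = 2 * 2 from rfl, pow_mul, pow_two, pow_two, JJ_sq, V1_sq]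
  obtain ⟨N, hN⟩ : ∃ N : SL3 F, N = G * ((JJ F) ^ (i : ℕ))⁻¹ := ⟨_, rfl⟩
  have h5 : pr (N * V2 F) = pr (V2 F * N) := by
    apply (lift (cj C)).injective
    have := hi s2
    rw [f2] at this
    rw [hN]
    simpa only [map_mul, map_inv, map_pow] using this
  obtain ⟨c, hc⟩ := exists_smul_of_pr_eq h5
  have hblock : ∃ x' y' : F, N.1 1 1 = x' ∧ N.1 1 2 = y' ∧ x' ≠ 0 ∧ y' ≠ 0 := by
    have hinv : ∀ k l : ℕ, k + l = 4 → ((JJ F) ^ k)⁻¹ = (JJ F) ^ l := by
      intro k l hkl
      rw [inv_eq_iff_mul_eq_one, ← pow_add, hkl, h4]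
    have hJ2 : (JJ F) ^ 2 = V1 F := by rw [pow_two, JJ_sq]
    have hJ3 : (JJ F) ^ 3 = V1 F * JJ F := by rw [pow_succ, hJ2]
    fin_cases i
    · refine ⟨x, y, ?_, ?_, hx, hy⟩
      · rw [hN]; simp [hG]
      · rw [hN]; simp [hG]
    · have e : N = G * (V1 F * JJ F) := by rw [hN, ← hJ3]; congr 1; exact hinv 1 3 rfl
      refine ⟨y, -x, ?_, ?_, hy, neg_ne_zero.2 hx⟩
      · rw [e, Matrix.SpecialLinearGroup.coe_mul, Matrix.SpecialLinearGroup.coe_mul, hG, coe_V1, coe_JJ]
        simp [Matrix.mul_apply, Fin.sum_univ_three]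
      · rw [e, Matrix.SpecialLinearGroup.coe_mul, Matrix.SpecialLinearGroup.coe_mul, hG, coe_V1, coe_JJ]
        simp [Matrix.mul_apply, Fin.sum_univ_three]
    · have e : N = G * V1 F := by rw [hN, ← hJ2]; congr 1; exact hinv 2 2 rfl
      refine ⟨-x, -y, ?_, ?_, neg_ne_zero.2 hx, neg_ne_zero.2 hy⟩
      · rw [e, Matrix.SpecialLinearGroup.coe_mul, hG, coe_V1]
        simp [Matrix.mul_apply, Fin.sum_univ_three]
      · rw [e, Matrix.SpecialLinearGroup.coe_mul, hG, coe_V1]
        simp [Matrix.mul_apply, Fin.sum_univ_three]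
    · have e : N = G * JJ F := by
        rw [hN]; congr 1
        calc ((JJ F) ^ 3)⁻¹ = (JJ F) ^ 1 := hinv 3 1 rfl
          _ = JJ F := pow_one _
      refine ⟨-y, x, ?_, ?_, neg_ne_zero.2 hy, hx⟩
      · rw [e, Matrix.SpecialLinearGroup.coe_mul, hG, coe_JJ]
        simp [Matrix.mul_apply, Fin.sum_univ_three]
      · rw [e, Matrix.SpecialLinearGroup.coe_mul, hG, coe_JJ]
        simp [Matrix.mul_apply, Fin.sum_univ_three]
  obtain ⟨x', y', n11, n12, hx', hy'⟩ := hblock
  rw [Matrix.SpecialLinearGroup.coe_mul, Matrix.SpecialLinearGroup.coe_mul] at hc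
  have c1 : x' = c * x' := by
    have := congrFun (congrFun hc 1) 1
    simpa [V2, Matrix.mul_apply, Fin.sum_univ_three, n11, n12] using this
  have c2 : y' = -(c * y') := by
    have := congrFun (congrFun hc 1) 2
    simpa [V2, Matrix.mul_apply, Fin.sum_univ_three, n11, n12] using this
  have c3 : c = 1 := by
    have : c * x' = 1 * x' := by rw [one_mul, ← c1]
    exact mul_right_cancel₀ hx' this
  rw [c3, one_mul] at c2
  have c4 : (2 : F) * y' = 0 := by linear_combination c2
  exact (mul_ne_zero h2 hy') c4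

theorem two_ne [Fintype F] (hodd : Odd (Fintype.card F)) : (2 : F) ≠ 0 := by
  apply Ring.two_ne_zero
  intro h
  have := FiniteField.even_card_of_char_two h
  rw [Nat.odd_iff] at hodd
  omega

theorem five_dvd {G : Type*} [Group G] [Finite G] {f : A5 →* G} (hf : Function.Injective f) : 5 ∣ Nat.card G := by
  have h1 := Subgroup.card_dvd_of_injective f hf
  have h2 : Nat.card A5 = 60 := by
    have h3 := nat_card_alternatingGroup (α := Fin 5)
    rw [h3, Nat.card_fin]
    rfl
  rw [h2] at h1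
  exact dvd_trans (by norm_num) h1

theorem card_ne_three [Fintype F] {f : A5 →* PSL3 F} (hf : Function.Injective f) : Fintype.card F ≠ 3 := by
  classical
  intro h3
  have h1 := five_dvd hf
  have h2 : Nat.card (PSL3 F) ∣ Nat.card (SL3 F) :=
    Subgroup.card_dvd_of_surjective (pr : SL3 F →* PSL3 F) pr_surjective
  have h4 : Nat.card (SL3 F) ∣ Nat.card (GL (Fin 3) F) :=
    Subgroup.card_dvd_of_injective (Matrix.SpecialLinearGroup.toGL : SL3 F →* GL (Fin 3) F) (by
      intro a b hab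
      apply Subtype.ext
      exact congrArg (fun g : GL (Fin 3) F => (g : Matrix (Fin 3) (Fin 3) F)) hab)
  have h5 := dvd_trans (dvd_trans h1 h2) h4
  rw [Matrix.card_GL_field, h3] at h5
  simp [Fin.prod_univ_three] at h5

theorem exists_sl {M : Matrix (Fin 3) (Fin 3) F} (h : M.det = 1) :
    ∃ G : SL3 F, (G : Matrix (Fin 3) (Fin 3) F) = M := ⟨⟨M, h⟩, rfl⟩

variable [Fintype F]

/-- **Identification.** -/
theorem card_eq (hodd : Odd (Fintype.card F)) {α : MulAut (PSL3 F)} (hα : α * α = 1) (hα1 : α ≠ 1)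
    {f : A5 →* PSL3 F} (hf : Function.Injective f) (fix : ∀ a, α (f a) = f a)
    (nrm : ∀ x, α x = x → ∀ a, ∃ b, x * f a * x⁻¹ = f b) : Fintype.card F = 5 := by
  classical
  have h2 : (2 : F) ≠ 0 := two_ne hodd
  by_contra h5
  have h3 : Fintype.card F ≠ 3 := card_ne_three hf
  have h1 : 1 < Fintype.card F := Fintype.one_lt_card
  have h7 : 6 ≤ Fintype.card F := by
    obtain ⟨k, hk⟩ := hodd
    omega
  obtain ⟨C, σ, hσ, f1, f2, h | h⟩ := exists_normal h2 hf hα fix
  · by_cases hσ1 : σ = 1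
    · apply hα1
      apply MulEquiv.ext
      intro x
      obtain ⟨y, rfl⟩ := (lift (cj C)).surjective x
      obtain ⟨M, rfl⟩ := pr_surjective y
      rw [h, hσ1, map_one]
      rfl
    · have hG : (!![(2 : F)⁻¹, 0, 0; 0, 1, 1; 0, -1, 1] : Matrix (Fin 3) (Fin 3) F).det = 1 := by
        rw [det_fin_three]
        simp
        field_simp
        norm_num
      obtain ⟨G, hG'⟩ := exists_sl hG
      have hfG : fld σ G = G := by
        apply Subtype.ext
        ext i j
        rw [coe_fld_apply, hG']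
        fin_cases i <;> fin_cases j <;> simp [map_ofNat]
      exact contra h2 hf nrm f1 f2 (by rw [h, fld_JJ]) hG' one_ne_zero one_ne_zero (by rw [h, hfG])
  · have hJ : α (lift (cj C) (pr (JJ F))) = lift (cj C) (pr (JJ F)) := by rw [h, itr_JJ, fld_JJ]
    by_cases hσ1 : σ = 1
    · obtain ⟨m, -, m0, m4⟩ := IdField.exists_param (Finset.univ : Finset F) (by rw [Finset.card_univ]; exact h7)
      obtain ⟨b0, a0, hab⟩ := IdField.exists_circle h2 m0 m4
      obtain ⟨a, ha⟩ : ∃ a : F, a = (1 - m ^ 2) / (1 + m ^ 2) := ⟨_, rfl⟩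
      obtain ⟨b, hb⟩ : ∃ b : F, b = 2 * m / (1 + m ^ 2) := ⟨_, rfl⟩
      rw [← ha] at a0 hab
      rw [← hb] at b0 hab
      have hG : (!![(1 : F), 0, 0; 0, a, b; 0, -b, a] : Matrix (Fin 3) (Fin 3) F).det = 1 := by
        rw [det_fin_three]
        simp
        linear_combination hab
      obtain ⟨G, hG'⟩ := exists_sl hG
      have hfG : itr G = G := by
        apply itr_of
        rw [hG']
        ext i j
        fin_cases i <;> fin_cases j <;> simp [Matrix.mul_apply, Fin.sum_univ_three]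
        · linear_combination hab
        · ring
        · ring
        · linear_combination hab
      exact contra h2 hf nrm f1 f2 hJ hG' a0 b0 (by
        rw [h, hfG, hσ1, map_one]
        rfl)
    · obtain ⟨a, ha⟩ := IdField.exists_norm hσ hσ1 (c := (2 : F)⁻¹) (by rw [map_inv₀, map_ofNat])
      have ha' : 2 * a * σ a = 1 := by
        rw [mul_assoc, ha, mul_inv_cancel₀ h2]
      have hσσ : σ (σ a) = a := by
        have : (σ * σ) a = a := by rw [hσ]; rfl
        exact this
      have a0 : a ≠ 0 := by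
        intro h0; rw [h0] at ha'; simp at ha'
      have s0 : σ a ≠ 0 := by
        intro h0; rw [h0] at ha'; simp at ha'
      have hG : (!![σ a / a, 0, 0; 0, a, a; 0, -a, a] : Matrix (Fin 3) (Fin 3) F).det = 1 := by
        rw [det_fin_three]
        simp
        field_simp
        linear_combination ha'
      have hH : (!![a / σ a, 0, 0; 0, σ a, σ a; 0, -σ a, σ a] : Matrix (Fin 3) (Fin 3) F).det = 1 := by
        rw [det_fin_three]
        simp
        field_simp
        linear_combination ha'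
      obtain ⟨G, hG'⟩ := exists_sl hG
      obtain ⟨H, hH'⟩ := exists_sl hH
      have hGH : itr G = H := by
        apply itr_of
        rw [hG', hH']
        ext i j
        fin_cases i <;> fin_cases j <;> simp [Matrix.mul_apply, Fin.sum_univ_three]
        · field_simp
        · linear_combination ha'
        · linear_combination ha'
      have hfH : fld σ H = G := by
        apply Subtype.ext
        ext i j
        rw [coe_fld_apply, hH', hG']
        fin_cases i <;> fin_cases j <;> simp [hσσ]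
      exact contra h2 hf nrm f1 f2 hJ hG' a0 a0 (by rw [h, hGH, hfH])

end

end Cfsg.Agent.StdL2.SFive.IdPSL
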