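import Mathlib
import Cfsg.Agent.StdL2.SFive.IdBridge
import Cfsg.Agent.StdL2.SFive.IdPSL

/-!
# S1773, `A ≅ A₅`: `L₃(q)`, `U₃(q)`, `q` odd, implies `q = 5`
-/

set_option autoImplicit false

namespace Cfsg.Agent.StdL2.SFive.IdEnd

open Cfsg Subgroup Cfsg.Agent.StdL2.Setup

universe u

variable {G : Type u} [Group G] [Finite G] {L A : Subgroup G} {t : G}

/-- **`L₃(q)`, `q` odd.** -/
theorem ident_l3 (C : Conf L A t) (h60 : Nat.card A = 60) {F : Type} [Field F] [Fintype F]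
    (hodd : Odd (Fintype.card F)) (e : ↥L ≃* Matrix.ProjectiveSpecialLinearGroup (Fin 3) F) :
    Fintype.card F = 5 := by
  obtain ⟨α, f, h1, h2, h3, h4, h5⟩ := IdBridge.bridge C h60 e
  exact IdPSL.card_eq hodd h1 h2 h3 h4 h5

/-- **`U₃(q)`, `q` odd.** -/
theorem ident_u3 (C : Conf L A t) (h60 : Nat.card A = 60) {F : Type} [Field F] [Fintype F] {q : ℕ}
    (hF : Fintype.card F = q ^ 2) (hq : Odd q) (e : ↥L ≃* Cfsg.PSU 3 F q) : q = 5 :=
  IdBridge.ident_u3 C h60 hF hq e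

end Cfsg.Agent.StdL2.SFive.IdEnd
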