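import Mathlib
import Cfsg.Agent.LFourA.FieldInv
import Cfsg.Agent.TwoFusion.SLTwoFacts

/-!
# `A₅` normal in the centraliser of an involutory automorphism of `PSL₂(q)`, `q` odd: `q = 25`
-/

set_option autoImplicit false

namespace Cfsg.Agent.StdL2.SFive.IdTwo

open Matrix Cfsg.Agent.Lib.SL2Mat Cfsg.Agent.Lib.AutSL2 Cfsg.Agent.Lib.AutSL2Out
  Cfsg.Agent.Lib.PSL2Torus Cfsg.Agent.Lib.PSL2Inv Cfsg.Agent.LFourA.FieldInv

/-- `A₅` -/
abbrev A5 := alternatingGroup (Fin 5)

theorem center_alt : ∀ c : A5, (∀ a : A5, c * a = a * c) → c = 1 := by decide +kernel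

theorem exists_four : ∃ v1 v2 : A5, v1 * v1 = 1 ∧ v2 * v2 = 1 ∧ v1 ≠ 1 ∧ v2 ≠ 1 ∧ v2 ≠ v1 ∧
    v2 * v1 = v1 * v2 := by decide +kernel

theorem exists_three : ∃ a : A5, a ≠ 1 ∧ a * a * a = 1 := by decide +kernel

variable {F : Type*} [Field F]

theorem odd_two [Fintype F] (hodd : Odd (Fintype.card F)) : (2 : F) ≠ 0 := by
  intro h
  have h1 : ringChar F = 2 := by
    have h2 : ringChar F ∣ 2 := (ringChar.spec F 2).1 (by exact_mod_cast h)
    rcases (Nat.dvd_prime Nat.prime_two).1 h2 with h3 | h3
    · exact absurd h3 (CharP.ringChar_ne_one)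
    · exact h3
  have h2 := FiniteField.even_card_iff_char_two.1 h1
  rw [Nat.odd_iff] at hodd
  omega

/-- The canonical case: the automorphism is the field automorphism. -/
theorem card_of_finv [Finite F] {L : Type*} [Group L] {π : Matrix.SpecialLinearGroup (Fin 2) F →* L}
    {α : MulAut L} {σ : F ≃+* F} {K : Subfield F} (I : FInv π α σ K) {f : A5 →* L}
    (hf : Function.Injective f) (fix : ∀ a, α (f a) = f a)
    (nrm : ∀ x, α x = x → ∀ a, ∃ b, x * f a * x⁻¹ = f b) : Nat.card F = 25 := by
  classical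
  have h2 := I.two
  have hK2 : (2 : K) ≠ 0 := by
    intro h
    apply h2
    have := congrArg K.subtype h
    rwa [map_ofNat, map_zero] at this
  have : Fintype K := Fintype.ofFinite K
  set ι : Matrix.SpecialLinearGroup (Fin 2) K →* Matrix.SpecialLinearGroup (Fin 2) F :=
    Matrix.SpecialLinearGroup.map K.subtype with hι
  have hιinj : Function.Injective ι := by
    intro x y h
    ext i j
    have h1 := congrArg (fun z : Matrix.SpecialLinearGroup (Fin 2) F => z.1 i j) h
    exact congrArg _ (Subtype.ext h1)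
  set ψ := π.comp ι with hψ
  have hψfix : ∀ x, α (ψ x) = ψ x := by
    intro x
    show α (π (ι x)) = π (ι x)
    rw [I.act]
    congr 1
    apply Matrix.SpecialLinearGroup.ext
    intro i j
    show σ ((x.1 i j : K) : F) = ((x.1 i j : K) : F)
    exact (I.mem _).1 (x.1 i j).2
  have hneg : (-1 : Matrix.SpecialLinearGroup (Fin 2) F) ≠ 1 := by
    intro h
    have h1 := congrArg (fun z : Matrix.SpecialLinearGroup (Fin 2) F => z.1 0 0) h
    have h3 : (-1 : F) = 1 := by simpa using h1
    apply h2
    linear_combination -h3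
  have hψk : ∀ x, ψ x = 1 ↔ x = 1 ∨ x = -1 := by
    intro x
    show π (ι x) = 1 ↔ _
    rw [I.ker]
    have e1 : ι x = 1 ↔ x = 1 := by rw [← map_one ι, hιinj.eq_iff]
    have e2 : ι x = -1 ↔ x = -1 := by
      have h3 : ι (-1) = -1 := by
        apply Matrix.SpecialLinearGroup.ext
        intro i j
        show ((-1 : Matrix.SpecialLinearGroup (Fin 2) K).1 i j : F) = _
        fin_cases i <;> fin_cases j <;> simp
      rw [← h3, hιinj.eq_iff]
    rw [e1, e2]
  -- elements of order three are in the range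
  have h3r : ∀ a : A5, a * a * a = 1 → f a ∈ ψ.range := by
    intro a ha
    obtain ⟨x, hx, hx3⟩ : ∃ x, π x = f a ∧ x * x * x = 1 := by
      obtain ⟨x, hx⟩ := I.surj (f a)
      have h4 : π (x * x * x) = 1 := by rw [map_mul, map_mul, hx, ← map_mul, ← map_mul, ha, map_one]
      rcases (I.ker _).1 h4 with h5 | h5
      · exact ⟨x, hx, h5⟩
      · refine ⟨-x, ?_, ?_⟩
        · rw [← hx, map_eq_iff π I.ker]
          exact Or.inr rfl
        · rw [neg_mul_neg, mul_neg, h5, neg_neg]
    have h4 : π (fieldAut σ x) = π x := by rw [← I.act, hx, fix]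
    rw [map_eq_iff π I.ker] at h4
    have h5 : fieldAut σ x = x := by
      rcases h4 with h5 | h5
      · exact h5
      · exfalso
        apply hneg
        have h6 : fieldAut σ (x * x * x) = 1 := by rw [hx3, map_one]
        rw [map_mul, map_mul, h5, neg_mul_neg, mul_neg, hx3] at h6
        exact h6
    have hmem : ∀ i j, x.1 i j ∈ K := by
      intro i j
      rw [I.mem]
      exact congrArg (fun z : Matrix.SpecialLinearGroup (Fin 2) F => z.1 i j) h5
    have hdet : (Matrix.of fun i j => (⟨x.1 i j, hmem i j⟩ : K)).det = 1 := by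
      apply Subtype.ext
      have h6 := x.2
      rw [Matrix.det_fin_two] at h6 ⊢
      simpa using h6
    refine ⟨⟨_, hdet⟩, ?_⟩
    show π (ι _) = f a
    rw [← hx]
    congr 1
  -- all of `A₅`
  have hall : ∀ a : A5, f a ∈ ψ.range := by
    obtain ⟨a0, ha0, ha3⟩ := exists_three
    have hN : Subgroup.normalClosure {a0} ≤ ψ.range.comap f := by
      rw [Subgroup.normalClosure, Subgroup.closure_le]
      intro b hb
      obtain ⟨c, hc, hcb⟩ := Group.mem_conjugatesOfSet_iff.1 hb
      rw [Set.mem_singleton_iff] at hc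
      subst hc
      obtain ⟨g, rfl⟩ := isConj_iff.1 hcb
      apply h3r
      calc g * c * g⁻¹ * (g * c * g⁻¹) * (g * c * g⁻¹) = g * (c * c * c) * g⁻¹ := by group
        _ = 1 := by rw [ha3]; group
    have hs : IsSimpleGroup A5 := alternatingGroup.isSimpleGroup (by simp)
    rcases hs.eq_bot_or_eq_top_of_normal (Subgroup.normalClosure {a0}) inferInstance with h | h
    · exfalso
      apply ha0
      rw [← Subgroup.mem_bot, ← h]
      exact Subgroup.subset_normalClosure rfl
    · intro a
      exact hN (h ▸ Subgroup.mem_top a)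
  -- the preimage of `A₅` in `SL₂(K)`
  set N : Subgroup (Matrix.SpecialLinearGroup (Fin 2) K) := f.range.comap ψ with hNdef
  have hNn : N.Normal := by
    constructor
    intro n hn g
    obtain ⟨a, ha⟩ := hn
    obtain ⟨b, hb⟩ := nrm (ψ g) (hψfix g) a
    refine ⟨b, ?_⟩
    rw [map_mul, map_mul, map_inv, ← hb, ha]
  have hNcard : Nat.card N = 120 := by
    have h5 := Subgroup.card_eq_card_quotient_mul_card_subgroup (ψ.subgroupMap N).ker
    have h6 : Nat.card (ψ.subgroupMap N).ker = 2 := by
      have e1 : ((ψ.subgroupMap N).ker.map N.subtype : Set (Matrix.SpecialLinearGroup (Fin 2) K)) = {1, -1} := by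
        ext x
        constructor
        · rintro ⟨⟨y, hy⟩, hy1, rfl⟩
          have h7 : ψ y = 1 := congrArg Subtype.val hy1
          rcases (hψk y).1 h7 with h8 | h8
          · exact Or.inl h8
          · exact Or.inr h8
        · intro hx
          have h7 : ψ x = 1 := (hψk x).2 hx
          have h8 : x ∈ N := ⟨1, by rw [map_one, h7]⟩
          exact ⟨⟨x, h8⟩, Subtype.ext h7, rfl⟩
      have e2 : Nat.card ((ψ.subgroupMap N).ker.map N.subtype) = Nat.card (ψ.subgroupMap N).ker :=
        Nat.card_congr (Subgroup.equivMapOfInjective _ _ N.subtype_injective).symm.toEquiv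
      rw [← e2]
      have hneg' : (1 : Matrix.SpecialLinearGroup (Fin 2) K) ≠ -1 := by
        intro h
        have h1 := congrArg (fun z : Matrix.SpecialLinearGroup (Fin 2) K => z.1 0 0) h
        have h3 : (1 : K) = -1 := by simpa using h1
        apply hK2
        linear_combination h3
      have e3 : Nat.card ((ψ.subgroupMap N).ker.map N.subtype) =
          ({1, -1} : Set (Matrix.SpecialLinearGroup (Fin 2) K)).ncard := by
        rw [← e1]; rfl
      rw [e3, Set.ncard_pair hneg']
    have h7 : Nat.card (N ⧸ (ψ.subgroupMap N).ker) = 60 := by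
      rw [Nat.card_congr (QuotientGroup.quotientKerEquivOfSurjective _
        (ψ.subgroupMap_surjective N)).toEquiv]
      have h8 : N.map ψ = f.range := by
        rw [hNdef, Subgroup.map_comap_eq, inf_eq_right]
        rintro _ ⟨a, rfl⟩
        exact hall a
      rw [h8, Nat.card_congr (MonoidHom.ofInjective hf).symm.toEquiv, Nat.card_eq_fintype_card]
      decide +kernel
    rw [h5, h6, h7]
  have hq := Cfsg.Agent.ClassicalGeometry.PSL2Basic.card_SL2 (F := K)
  have hcardK : 3 < Fintype.card K := by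
    by_contra hcon
    have h5 : Nat.card N ≤ Nat.card (Matrix.SpecialLinearGroup (Fin 2) K) :=
      Nat.card_le_card_of_injective _ N.subtype_injective
    rw [hNcard, hq] at h5
    have h6 : Fintype.card K ^ 2 ≤ 3 ^ 2 := Nat.pow_le_pow_left (by omega) 2
    have h7 : Fintype.card K * (Fintype.card K ^ 2 - 1) ≤ 3 * 8 := Nat.mul_le_mul (by omega) (by omega)
    omega
  have hs := Cfsg.Agent.TwoFusion.SLTwoFacts.isSimpleGroup_psl hcardK
  set Z := Subgroup.center (Matrix.SpecialLinearGroup (Fin 2) K) with hZ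
  have hZle : Z ≤ N := by
    intro z hz
    have h5 : z = 1 ∨ z = -1 := by
      apply sq_eq_one hK2
      obtain ⟨h01, h10⟩ := mem_center_offdiag hz
      have h00 : ent z 0 0 = ent z 1 1 := by
        have h4 := congrArg (fun y => ent y 0 1) ((Subgroup.mem_center_iff.1 hz) (up 1))
        simp only [ent_mul, up_00, up_01, up_11, h01] at h4
        linear_combination -h4
      have h5 := det_eq z
      rw [h01, zero_mul, sub_zero] at h5
      refine ext_ent ?_ ?_ ?_ ?_
      · rw [ent_mul, h01, zero_mul, add_zero, ent_one_00]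
        nth_rw 2 [h00]
        exact h5
      · rw [ent_mul, h01, mul_zero, zero_mul, add_zero, ent_one_01]
      · rw [ent_mul, h10, zero_mul, mul_zero, add_zero, ent_one_10]
      · rw [ent_mul, h10, zero_mul, zero_add, ent_one_11]
        nth_rw 1 [← h00]
        exact h5
    exact ⟨1, by rw [map_one, (hψk z).2 h5]⟩
  have hZcard : Nat.card Z ≤ 2 := by
    have h5 : (Z : Set (Matrix.SpecialLinearGroup (Fin 2) K)) ⊆ {1, -1} := by
      intro z hz
      have h6 : z ∈ N := hZle hz
      apply sq_eq_one hK2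
      obtain ⟨h01, h10⟩ := mem_center_offdiag hz
      have h00 : ent z 0 0 = ent z 1 1 := by
        have h4 := congrArg (fun y => ent y 0 1) ((Subgroup.mem_center_iff.1 hz) (up 1))
        simp only [ent_mul, up_00, up_01, up_11, h01] at h4
        linear_combination -h4
      have h5 := det_eq z
      rw [h01, zero_mul, sub_zero] at h5
      refine ext_ent ?_ ?_ ?_ ?_
      · rw [ent_mul, h01, zero_mul, add_zero, ent_one_00]
        nth_rw 2 [h00]
        exact h5
      · rw [ent_mul, h01, mul_zero, zero_mul, add_zero, ent_one_01]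
      · rw [ent_mul, h10, zero_mul, mul_zero, add_zero, ent_one_10]
      · rw [ent_mul, h10, zero_mul, zero_add, ent_one_11]
        nth_rw 1 [← h00]
        exact h5
    have h6 := Set.ncard_le_ncard h5 (Set.toFinite _)
    have h7 := Set.ncard_insert_le (1 : Matrix.SpecialLinearGroup (Fin 2) K) {-1}
    rw [Set.ncard_singleton] at h7
    exact h6.trans h7
  have hNtop : N = ⊤ := by
    have hn : (N.map (QuotientGroup.mk' Z)).Normal :=
      Subgroup.Normal.map hNn _ (QuotientGroup.mk'_surjective _)
    rcases hs.eq_bot_or_eq_top_of_normal (N.map (QuotientGroup.mk' Z)) hn with h | h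
    · exfalso
      have h5 : N ≤ Z := by
        intro x hx
        have h6 : (QuotientGroup.mk' Z) x ∈ N.map (QuotientGroup.mk' Z) := ⟨x, hx, rfl⟩
        rw [h, Subgroup.mem_bot] at h6
        exact (QuotientGroup.eq_one_iff _).1 h6
      have h6 := Subgroup.card_le_of_le h5
      omega
    · rw [eq_top_iff]
      intro x _
      have h5 : (QuotientGroup.mk' Z) x ∈ N.map (QuotientGroup.mk' Z) := by rw [h]; trivial
      obtain ⟨y, hy, hyx⟩ := h5
      have h6 : y⁻¹ * x ∈ Z := QuotientGroup.eq.1 hyx
      have h7 := N.mul_mem hy (hZle h6)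
      rwa [mul_inv_cancel_left] at h7
  rw [hNtop, Subgroup.card_top, hq] at hNcard
  have hKc : Fintype.card K = 5 := by
    by_contra hne
    rcases Nat.lt_or_ge (Fintype.card K) 5 with h5 | h5
    · have h6 : Fintype.card K = 4 := by omega
      rw [h6] at hNcard
      omega
    · have h6 : 6 ≤ Fintype.card K := by omega
      have h7 : 6 ^ 2 ≤ Fintype.card K ^ 2 := Nat.pow_le_pow_left h6 2
      have h8 : 6 * 35 ≤ Fintype.card K * (Fintype.card K ^ 2 - 1) := Nat.mul_le_mul h6 (by omega)
      omega
  rw [I.card, Nat.card_eq_fintype_card, hKc]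
  norm_num

/-- `q = 25` -/
theorem card_eq [Fintype F] (hodd : Odd (Fintype.card F))
    {α : MulAut (Matrix.ProjectiveSpecialLinearGroup (Fin 2) F)} (hα : α * α = 1) (hα1 : α ≠ 1)
    {f : A5 →* Matrix.ProjectiveSpecialLinearGroup (Fin 2) F} (hf : Function.Injective f)
    (fix : ∀ a, α (f a) = f a) (nrm : ∀ x, α x = x → ∀ a, ∃ b, x * f a * x⁻¹ = f b) :
    Fintype.card F = 25 := by
  have h2 := odd_two hodd
  obtain ⟨π, hπ, hk⟩ :=
    exists_hom h2 (MulEquiv.refl (Matrix.ProjectiveSpecialLinearGroup (Fin 2) F))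
  have hα' : ∀ z, α (α z) = z := fun z => DFunLike.congr_fun hα z
  by_cases hno : ∃ g : GL (Fin 2) F, ∀ x, α (π x) = π (conjGL g x)
  · exfalso
    obtain ⟨g, hg⟩ := hno
    obtain ⟨v1, v2, e1, e2, n1, n2, n12, hc⟩ := exists_four
    obtain ⟨z, hz, hzα⟩ := inner_of_four h2 hπ hk (α := α) (t := f v1) (u := f v2)
      (fun h => n1 (hf (by rw [h, map_one]))) (by rw [← map_mul, e1, map_one])
      (fun h => n2 (hf (by rw [h, map_one]))) (by rw [← map_mul, e2, map_one])
      (fun h => n12 (hf h)) (by rw [← map_mul, hc, map_mul]) (fix _) (fix _) hg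
    obtain ⟨c, rfl⟩ : ∃ c, f c = z := by
      rcases hz with rfl | rfl | rfl | rfl
      · exact ⟨1, map_one f⟩
      · exact ⟨v1, rfl⟩
      · exact ⟨v2, rfl⟩
      · exact ⟨v1 * v2, map_mul f _ _⟩
    have hc1 : c = 1 := by
      apply center_alt
      intro a
      apply hf
      have h3 := hzα (f a)
      rw [fix] at h3
      rw [map_mul, map_mul]
      exact (eq_mul_inv_iff_mul_eq.1 h3).symm
    apply hα1
    ext y
    rw [hzα y, hc1, map_one]
    simp
  · obtain ⟨h, σ, K, I⟩ := exists_finv h2 hπ hk hα' hno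
    have h3 := card_of_finv I hf fix nrm
    rwa [Nat.card_eq_fintype_card] at h3

end Cfsg.Agent.StdL2.SFive.IdTwo
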