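import Cfsg.Agent.StdL2.Assemble
import Cfsg.Agent.StdL2.SFive.IdEnd
import Cfsg.Agent.StdL2.SFive.IdTwo
import Cfsg.Agent.SectRankFour.AutM11

/-!
# S1773, `A ≃ A₅`, `t ∉ L`: identification of `L` of 2-rank at most 2
-/

set_option autoImplicit false

namespace Cfsg.Agent.StdL2.SFive.IdOne

open Cfsg Subgroup Cfsg.Agent.StdL2.Setup Cfsg.Agent.StdL2.Assemble

universe u

/-- The statement S0482 (all groups). -/
def S0482Stmt : Prop :=
  ∀ (X : Type u) [Group X] [Finite X] [IsSimpleGroup X], ¬ IsMulCommutative X → Cfsg.PRankLE 2 2 X →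
    (∃ (F : Type) (_ : Field F) (_ : Fintype F), Odd (Fintype.card F) ∧ 5 ≤ Fintype.card F ∧
        Nonempty (X ≃* Matrix.ProjectiveSpecialLinearGroup (Fin 2) F)) ∨
      (∃ (F : Type) (_ : Field F) (_ : Fintype F), Odd (Fintype.card F) ∧
        Nonempty (X ≃* Matrix.ProjectiveSpecialLinearGroup (Fin 3) F)) ∨
      (∃ (F : Type) (_ : Field F) (_ : Fintype F) (q : ℕ), Fintype.card F = q ^ 2 ∧ Odd q ∧
        Nonempty (X ≃* Cfsg.PSU 3 F q)) ∨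
      (∃ (F : Type) (_ : Field F) (_ : Fintype F), Fintype.card F = 16 ∧ Nonempty (X ≃* Cfsg.PSU 3 F 4)) ∨
      Nonempty (X ≃* alternatingGroup (Fin 7)) ∨
      Cfsg.IsM11 X

variable {G : Type u} [Group G] [Finite G] {L A : Subgroup G} {t : G}

/-- `L₂(q)`, `q` odd: `q = 25` -/
theorem ident_l2 (C : Conf L A t) (h60 : Nat.card A = 60) {F : Type} [Field F] [Fintype F]
    (hodd : Odd (Fintype.card F)) (e : ↥L ≃* Matrix.ProjectiveSpecialLinearGroup (Fin 2) F) :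
    Fintype.card F = 25 := by
  obtain ⟨α, f, h1, h2, h3, h4, h5⟩ := IdBridge.bridge C h60 e
  exact IdTwo.card_eq hodd h1 h2 h3 h4 h5

/-- `L` is not of order 7920. -/
theorem not_m11 (C : Conf L A t) (htL : t ∉ L) : ¬ Cfsg.IsM11 ↥L := by
  intro hL
  have := C.normal
  obtain ⟨g, hg⟩ := Cfsg.Agent.SectRankFour.AutM11.exists_conj hL (MulAut.conjNormal t : MulAut ↥L)
  have h1 : (g : G)⁻¹ * t ∈ centralizer (L : Set G) := by
    rw [mem_centralizer_iff]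
    intro y hy
    have h2 := congrArg (fun β : ↥L ≃* ↥L => ((β ⟨y, hy⟩ : ↥L) : G)) hg
    have h3 : t * y * t⁻¹ = (g : G) * y * (g : G)⁻¹ := h2
    calc y * ((g : G)⁻¹ * t) = (g : G)⁻¹ * ((g : G) * y * (g : G)⁻¹) * t := by group
      _ = (g : G)⁻¹ * (t * y * t⁻¹) * t := by rw [h3]
      _ = (g : G)⁻¹ * t * y := by group
  rw [C.cent, mem_bot] at h1
  have h2 : t = g := by
    have := congrArg (fun z => (g : G) * z) h1
    simpa using this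
  exact htL (h2 ▸ g.2)

/-- **Identification.** -/
theorem ident (h0482 : S0482Stmt.{u}) (C : Conf L A t) (h60 : Nat.card A = 60) (htL : t ∉ L)
    (h2 : Cfsg.PRankLE 2 2 ↥L) : (Lie2 ↥L ∧ t ∉ L) ∨ Exc4 ↥L := by
  have hs := C.simple
  rcases h0482 ↥L C.not_comm h2 with ⟨F, i1, i2, ho, -, ⟨e⟩⟩ | ⟨F, i1, i2, ho, ⟨e⟩⟩ |
    ⟨F, i1, i2, q, hF, hq, ⟨e⟩⟩ | ⟨F, i1, i2, hF, ⟨e⟩⟩ | he | hM
  · right
    exact Or.inr (Or.inr (Or.inr (Or.inr (Or.inr (Or.inl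
      ⟨F, i1, i2, ident_l2 C h60 ho e, Or.inl ⟨e⟩⟩)))))
  · right
    exact Or.inr (Or.inr (Or.inr (Or.inr (Or.inr (Or.inr (Or.inl
      ⟨F, i1, i2, IdEnd.ident_l3 C h60 ho e, Or.inl ⟨e⟩⟩))))))
  · right
    have h5 := IdEnd.ident_u3 C h60 hF hq e
    subst h5
    exact Or.inr (Or.inr (Or.inr (Or.inr (Or.inr (Or.inl
      ⟨F, i1, i2, by rw [hF]; norm_num, Or.inr ⟨e⟩⟩)))))
  · left
    exact ⟨Or.inr (Or.inr ⟨F, i1, i2, 4, by rw [hF]; norm_num, ⟨2, rfl⟩, le_rfl, ⟨e⟩⟩), htL⟩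
  · right
    exact Or.inr (Or.inr (Or.inr (Or.inr (Or.inl he))))
  · exact absurd hM (not_m11 C htL)

end Cfsg.Agent.StdL2.SFive.IdOne
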