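import Cfsg.Agent.StdL2.SFive.Dispatch
import Cfsg.Agent.StdL2.SFive.Fill
import Cfsg.Agent.StdL2.SFive.IdOne
import Cfsg.Agent.StdL2.FrameAll

/-!
# S1773, `q = 4`, `N(A)/C(A) = S₅`: the assembly
-/

set_option autoImplicit false

namespace Cfsg.Agent.StdL2.SFive.Main

open Cfsg Subgroup Cfsg.Agent.StdL2 Cfsg.Agent.StdL2.Setup Cfsg.Agent.StdL2.Assemble
  Cfsg.Agent.StdL2.FrameFT

universe u v

/-- **The case `q = 4`, `N(A)/C(A) = S₅`.** -/
theorem fiveStmt (h0482 : IdOne.S0482Stmt.{u}) (h1741 : LeafZ4.S1741Stmt.{u})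
    (h0506 : Ends.S0506Stmt.{u}) (h1170 : Cfsg.Agent.StdSz.Out.S1170Stmt.{u})
    (gold : Cfsg.Agent.StdSz.EndClosed.Gold.{u}) : FiveStmt.{u, v} := by
  intro F _ _ _ G _ _ L A T t π C B hF hw
  have H := sf C B (by rw [Nat.card_eq_fintype_card, hF]) hw
  have h60 : Nat.card A = 60 := by rw [card_A B.P, hF]; norm_num
  have h3A : 3 ∣ Nat.card A := by rw [h60]; norm_num
  rcases H.dispatch h1741 h0506 h1170 gold C h3A with h | h | ⟨h1, h2⟩
  · exact Or.inl h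
  · exact Or.inr (Or.inl ⟨rfl, Or.inl h⟩)
  · rcases IdOne.ident h0482 C h60 h2 h1 with h | h
    · exact Or.inl h
    · exact Or.inr (Or.inl ⟨rfl, h⟩)

end Cfsg.Agent.StdL2.SFive.Main
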