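import Cfsg.Agent.StdL2.FieldStart

/-!
# S1773, `q = 4`, `N(A)/C(A) = S₅`: elementary tools for the leaf `Q = E₁₆`

Elementwise tools: `cq Q u = C_Q(u)`, `surj` (`C_Q(u) = [Q,u]` for an involution with
`|C_Q(u)|² = |Q|`), `two P y` (the group `P ∪ y⁻¹P`), index-two lemmas.
-/

set_option autoImplicit false
set_option linter.unusedSectionVars false

namespace Cfsg.Agent.StdL2.SFive.LeafTools

open Subgroup Cfsg.Agent.StdL2.FieldStart

variable {G : Type*} [Group G] [Finite G]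

section Elem

variable {Q : Subgroup G}

theorem q_inv (qsq : ∀ q ∈ Q, q * q = 1) {q : G} (hq : q ∈ Q) : q⁻¹ = q :=
  inv_eq_of_mul_eq_one_left (qsq q hq)

theorem q_comm (qsq : ∀ q ∈ Q, q * q = 1) {a b : G} (ha : a ∈ Q) (hb : b ∈ Q) : a * b = b * a := by
  have h1 := q_inv qsq (Q.mul_mem ha hb)
  rw [← h1, mul_inv_rev, q_inv qsq ha, q_inv qsq hb]

/-- `C_Q(u)` -/
def cq (Q : Subgroup G) (u : G) : Subgroup G := Q ⊓ centralizer ({u} : Set G)

theorem mem_cq {q u : G} : q ∈ cq Q u ↔ q ∈ Q ∧ q * u = u * q := by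
  rw [cq, mem_inf, mem_centralizer_singleton_iff]

theorem cq_le (Q : Subgroup G) (u : G) : cq Q u ≤ Q := inf_le_left

/-- `C_Q(u)` depends only on the coset `uQ`. -/
theorem cq_congr (qsq : ∀ q ∈ Q, q * q = 1) {u w : G} (h : u⁻¹ * w ∈ Q) : cq Q u = cq Q w := by
  ext q
  rw [mem_cq, mem_cq]
  refine and_congr_right (fun hq => ?_)
  have h1 := q_comm qsq hq h
  have h2 : w = u * (u⁻¹ * w) := by group
  constructor
  · intro h3
    rw [h2]
    calc q * (u * (u⁻¹ * w)) = (q * u) * (u⁻¹ * w) := by group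
      _ = u * (q * (u⁻¹ * w)) := by rw [h3, mul_assoc]
      _ = u * (u⁻¹ * w) * q := by rw [h1]; group
  · intro h3
    have h4 : u = w * (u⁻¹ * w)⁻¹ := by group
    have h5 : q * (u⁻¹ * w)⁻¹ = (u⁻¹ * w)⁻¹ * q := q_comm qsq hq (Q.inv_mem h)
    calc q * u = (q * w) * (u⁻¹ * w)⁻¹ := by group
      _ = w * (q * (u⁻¹ * w)⁻¹) := by rw [h3, mul_assoc]
      _ = w * (u⁻¹ * w)⁻¹ * q := by rw [h5]; group
      _ = u * q := by group

/-- `C_Q(u) = [Q,u]` in the sharp form, for `u` acting as an involution with `|C_Q(u)|² = |Q|`. -/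
theorem surj (qsq : ∀ q ∈ Q, q * q = 1) {u : G} (hu : ∀ q ∈ Q, u * q * u⁻¹ ∈ Q)
    (huu : ∀ q ∈ Q, u * u * q = q * (u * u))
    (hc : Nat.card (cq Q u) ^ 2 = Nat.card Q) {c : G} (hcQ : c ∈ Q) (hcu : c * u = u * c) :
    ∃ r ∈ Q, r * u * r⁻¹ = c * u := by
  classical
  let φ : Q →* Q :=
    { toFun := fun r => ⟨(r : G) * (u * (r : G)⁻¹ * u⁻¹), Q.mul_mem r.2 (hu _ (Q.inv_mem r.2))⟩
      map_one' := Subtype.ext (by simp)
      map_mul' := fun r s => Subtype.ext (by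
        show ((r : G) * s) * (u * ((r : G) * s)⁻¹ * u⁻¹)
          = ((r : G) * (u * (r : G)⁻¹ * u⁻¹)) * ((s : G) * (u * (s : G)⁻¹ * u⁻¹))
        have h1 := q_comm qsq (hu _ (Q.inv_mem r.2)) s.2
        have h2 := q_comm qsq (hu _ (Q.inv_mem s.2)) (hu _ (Q.inv_mem r.2))
        calc ((r : G) * s) * (u * ((r : G) * s)⁻¹ * u⁻¹)
            = r * s * ((u * (s : G)⁻¹ * u⁻¹) * (u * (r : G)⁻¹ * u⁻¹)) := by group
          _ = r * (s * (u * (r : G)⁻¹ * u⁻¹)) * (u * (s : G)⁻¹ * u⁻¹) := by rw [h2]; group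
          _ = r * ((u * (r : G)⁻¹ * u⁻¹) * s) * (u * (s : G)⁻¹ * u⁻¹) := by rw [h1]
          _ = ((r : G) * (u * (r : G)⁻¹ * u⁻¹)) * ((s : G) * (u * (s : G)⁻¹ * u⁻¹)) := by group) }
  have hφ : ∀ r : Q, ((φ r : Q) : G) = (r : G) * (u * (r : G)⁻¹ * u⁻¹) := fun r => rfl
  have hker : Nat.card φ.ker = Nat.card (cq Q u) := by
    refine Nat.card_congr ⟨fun r => ⟨(r : Q), ?_⟩, fun r => ⟨⟨(r : G), cq_le _ _ r.2⟩, ?_⟩,
      fun r => rfl, fun r => rfl⟩
    · rw [mem_cq]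
      refine ⟨(r : Q).2, ?_⟩
      have h1 : ((φ (r : Q) : Q) : G) = 1 := by
        have := r.2
        rw [MonoidHom.mem_ker] at this
        rw [this]; rfl
      rw [hφ] at h1
      have h2 : (u * ((r : Q) : G)⁻¹ * u⁻¹) = ((r : Q) : G)⁻¹ := by
        rw [eq_comm, inv_eq_iff_mul_eq_one]; exact h1
      calc ((r : Q) : G) * u = ((u * ((r : Q) : G)⁻¹ * u⁻¹))⁻¹ * u := by rw [h2]; group
        _ = u * ((r : Q) : G) := by group
    · have h1 := (mem_cq.1 r.2).2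
      rw [MonoidHom.mem_ker]
      apply Subtype.ext
      rw [hφ]
      show (r : G) * (u * (r : G)⁻¹ * u⁻¹) = 1
      calc (r : G) * (u * (r : G)⁻¹ * u⁻¹) = ((r : G) * u) * (r : G)⁻¹ * u⁻¹ := by group
        _ = 1 := by rw [h1]; group
  have hran : Nat.card φ.range = Nat.card (cq Q u) := by
    have h1 := card_mul_index φ.ker
    rw [index_ker, hker, ← hc, pow_two] at h1
    exact Nat.eq_of_mul_eq_mul_left Nat.card_pos h1
  have hle : φ.range.map Q.subtype ≤ cq Q u := by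
    rintro _ ⟨a, ⟨r, rfl⟩, rfl⟩
    rw [mem_cq]
    refine ⟨(φ r).2, ?_⟩
    show (φ r : G) * u = u * (φ r : G)
    have h1 := q_inv qsq (φ r).2
    rw [hφ] at h1 ⊢
    have h2 := huu _ (Q.inv_mem r.2)
    -- `u a u⁻¹ = a⁻¹`
    have h3 : u * ((r : G) * (u * (r : G)⁻¹ * u⁻¹)) * u⁻¹ = ((r : G) * (u * (r : G)⁻¹ * u⁻¹))⁻¹ := by
      calc u * ((r : G) * (u * (r : G)⁻¹ * u⁻¹)) * u⁻¹
          = u * (r : G) * u⁻¹ * ((u * u) * (r : G)⁻¹) * u⁻¹ * u⁻¹ := by group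
        _ = u * (r : G) * u⁻¹ * ((r : G)⁻¹ * (u * u)) * u⁻¹ * u⁻¹ := by rw [h2]
        _ = ((r : G) * (u * (r : G)⁻¹ * u⁻¹))⁻¹ := by group
    rw [h1] at h3
    calc ((r : G) * (u * (r : G)⁻¹ * u⁻¹)) * u
        = (u * ((r : G) * (u * (r : G)⁻¹ * u⁻¹)) * u⁻¹) * u := by rw [h3]
      _ = u * ((r : G) * (u * (r : G)⁻¹ * u⁻¹)) := by group
  have heq : φ.range.map Q.subtype = cq Q u := by
    apply eq_of_le_of_card_ge hle
    rw [card_map_of_injective Q.subtype_injective, hran]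
  have hmem : c ∈ φ.range.map Q.subtype := by
    rw [heq, mem_cq]; exact ⟨hcQ, hcu⟩
  obtain ⟨a, ⟨r, rfl⟩, hr⟩ := hmem
  refine ⟨r, r.2, ?_⟩
  have h1 : (r : G) * (u * (r : G)⁻¹ * u⁻¹) = c := hr
  rw [← h1]; group

/-- involutions in `uQ` are `Q`-conjugate to `u`. -/
theorem conj_of_invol (qsq : ∀ q ∈ Q, q * q = 1) {u : G} (hu : ∀ q ∈ Q, u * q * u⁻¹ ∈ Q)
    (hu2 : u * u = 1) (hc : Nat.card (cq Q u) ^ 2 = Nat.card Q) {h : G} (hh : u * h ∈ Q)
    (hh2 : h * h = 1) : ∃ r ∈ Q, r * u * r⁻¹ = h := by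
  have h1 : h = u * (u * h) := by rw [← mul_assoc, hu2, one_mul]
  have h2 : u * (u * h) * u⁻¹ = (u * h)⁻¹ := by
    have hi : u⁻¹ = u := inv_eq_of_mul_eq_one_left hu2
    have hhi : h⁻¹ = h := inv_eq_of_mul_eq_one_left hh2
    rw [mul_inv_rev, hi, hhi, ← mul_assoc, hu2, one_mul]
  rw [q_inv qsq hh] at h2
  have h3 : (u * h) * u = u * (u * h) := by
    calc (u * h) * u = (u * (u * h) * u⁻¹) * u := by rw [h2]
      _ = u * (u * h) := by group
  obtain ⟨r, hr, hr2⟩ := surj qsq hu (fun q _ => by rw [hu2, one_mul, mul_one]) hc hh h3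
  refine ⟨r, hr, ?_⟩
  rw [hr2, h3, ← mul_assoc, hu2, one_mul]

end Elem

section Two

/-- The group `P ∪ y⁻¹ P` for `y` normalising `P` with `y² ∈ P`. -/
def two (P : Subgroup G) (y : G) (hn : ∀ p ∈ P, y * p * y⁻¹ ∈ P) (hyy : y * y ∈ P) : Subgroup G where
  carrier := {g | g ∈ P ∨ y * g ∈ P}
  one_mem' := Or.inl P.one_mem
  mul_mem' := by
    rintro g h (hg | hg) (hh | hh)
    · exact Or.inl (P.mul_mem hg hh)
    · right
      have : y * (g * h) = (y * g * y⁻¹) * (y * h) := by group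
      rw [this]; exact P.mul_mem (hn g hg) hh
    · right
      rw [← mul_assoc]; exact P.mul_mem hg hh
    · left
      have h1 : y⁻¹ * (y * g) * y ∈ P := by
        have h2 := P.mul_mem (P.mul_mem (P.inv_mem hyy) (hn _ hg)) hyy
        have h3 : (y * y)⁻¹ * (y * (y * g) * y⁻¹) * (y * y) = y⁻¹ * (y * g) * y := by group
        rwa [h3] at h2
      have h4 : g * h = (y⁻¹ * (y * g) * y) * (y * y)⁻¹ * (y * h) := by group
      rw [h4]; exact P.mul_mem (P.mul_mem h1 (P.inv_mem hyy)) hh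
  inv_mem' := by
    rintro g (hg | hg)
    · exact Or.inl (P.inv_mem hg)
    · right
      have h1 := P.mul_mem (hn _ (P.inv_mem hg)) hyy
      have h2 : y * (y * g)⁻¹ * y⁻¹ * (y * y) = y * g⁻¹ := by group
      rwa [h2] at h1

variable {P : Subgroup G} {y : G} {hn : ∀ p ∈ P, y * p * y⁻¹ ∈ P} {hyy : y * y ∈ P}

theorem mem_two {g : G} : g ∈ two P y hn hyy ↔ g ∈ P ∨ y * g ∈ P := Iff.rfl

theorem le_two : P ≤ two P y hn hyy := fun _ h => Or.inl h

theorem self_mem_two : y ∈ two P y hn hyy := Or.inr hyy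

theorem relIndex_two_of {P T : Subgroup G} {z : G} (hzT : z ∈ T) (hz : z ∉ P)
    (h : ∀ g ∈ T, g ∈ P ∨ z * g ∈ P) : P.relIndex T = 2 := by
  rw [relIndex_eq_two_iff]
  refine ⟨z⁻¹, T.inv_mem hzT, ?_⟩
  intro b hb
  by_cases hbP : b ∈ P
  · right
    refine ⟨hbP, fun h2 => hz ?_⟩
    have h3 := P.mul_mem (P.inv_mem hbP) h2
    have h4 : b⁻¹ * (b * z⁻¹) = z⁻¹ := by group
    rw [h4] at h3
    exact inv_inv z ▸ P.inv_mem h3
  · left
    refine ⟨?_, hbP⟩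
    rcases h b⁻¹ (T.inv_mem hb) with h1 | h1
    · exact absurd (inv_inv b ▸ P.inv_mem h1) hbP
    · have h2 := P.inv_mem h1
      rwa [mul_inv_rev, inv_inv] at h2

theorem relIndex_two (hyP : y ∉ P) : P.relIndex (two P y hn hyy) = 2 :=
  relIndex_two_of self_mem_two hyP (fun _ h => h)

theorem card_two (hyP : y ∉ P) : Nat.card (two P y hn hyy) = 2 * Nat.card P := by
  have h1 := card_mul_index (P.subgroupOf (two P y hn hyy))
  have h2 : Nat.card (P.subgroupOf (two P y hn hyy)) = Nat.card P :=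
    Nat.card_congr (subgroupOfEquivOfLe le_two).toEquiv
  have h3 : (P.subgroupOf (two P y hn hyy)).index = 2 := relIndex_two hyP
  rw [h2, h3] at h1
  omega

/-- `two P y` is a 2-group. -/
theorem isPGroup_two (hP : IsPGroup 2 P) : IsPGroup 2 (two P y hn hyy) := by
  intro g
  rcases g.2 with h | h
  · obtain ⟨k, hk⟩ := hP ⟨g, h⟩
    refine ⟨k, Subtype.ext ?_⟩
    have := congrArg Subtype.val hk
    simpa using this
  · -- `g² ∈ P`
    have h1 : (g : G) * g ∈ P := by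
      have h2 : y * (y * g) * y⁻¹ ∈ P := hn _ h
      have h3 : (y * y)⁻¹ * (y * (y * g) * y⁻¹) ∈ P := P.mul_mem (P.inv_mem hyy) h2
      have h4 : (g : G) * g = ((y * y)⁻¹ * (y * (y * g) * y⁻¹) * (y * g)) := by group
      rw [h4]; exact P.mul_mem h3 h
    obtain ⟨k, hk⟩ := hP ⟨_, h1⟩
    refine ⟨k + 1, Subtype.ext ?_⟩
    have h5 := congrArg Subtype.val hk
    have h6 : ((g : G) * g) ^ 2 ^ k = 1 := by simpa using h5
    have h7 : ((g ^ 2 ^ (k + 1) : two P y hn hyy) : G) = ((g : G) * g) ^ 2 ^ k := by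
      push_cast
      rw [← pow_two, ← pow_mul, pow_succ, mul_comm (2 ^ k) 2]
    rw [h7, h6]; rfl

theorem abelian_two (hab : ∀ a ∈ P, ∀ b ∈ P, a * b = b * a) (hyc : ∀ a ∈ P, y * a = a * y) :
    ∀ a ∈ two P y hn hyy, ∀ b ∈ two P y hn hyy, a * b = b * a := by
  have hy' : ∀ a ∈ P, y⁻¹ * a = a * y⁻¹ := by
    intro a ha
    calc y⁻¹ * a = y⁻¹ * (a * y) * y⁻¹ := by group
      _ = a * y⁻¹ := by rw [← hyc a ha]; group
  have key : ∀ a ∈ two P y hn hyy, ∃ p ∈ P, a = p ∨ a = y⁻¹ * p := by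
    rintro a (ha | ha)
    · exact ⟨a, ha, Or.inl rfl⟩
    · exact ⟨y * a, ha, Or.inr (by group)⟩
  intro a ha b hb
  obtain ⟨p, hp, hap⟩ := key a ha
  obtain ⟨r, hr, hbr⟩ := key b hb
  have h1 := hab p hp r hr
  have h2 := hy' p hp
  have h3 := hy' r hr
  rcases hap with rfl | rfl <;> rcases hbr with rfl | rfl
  · exact h1
  · calc a * (y⁻¹ * r) = (a * y⁻¹) * r := by group
      _ = y⁻¹ * (a * r) := by rw [← h2]; group
      _ = y⁻¹ * r * a := by rw [h1]; group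
  · calc y⁻¹ * p * b = y⁻¹ * (p * b) := by group
      _ = (y⁻¹ * b) * p := by rw [h1]; group
      _ = b * (y⁻¹ * p) := by rw [h3]; group
  · calc y⁻¹ * p * (y⁻¹ * r) = y⁻¹ * (p * y⁻¹) * r := by group
      _ = y⁻¹ * (y⁻¹ * p) * r := by rw [← h2]
      _ = y⁻¹ * y⁻¹ * (p * r) := by group
      _ = y⁻¹ * y⁻¹ * (r * p) := by rw [h1]
      _ = y⁻¹ * (y⁻¹ * r) * p := by group
      _ = y⁻¹ * (r * y⁻¹) * p := by rw [h3]
      _ = y⁻¹ * r * (y⁻¹ * p) := by group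

end Two

/-- an element `n` of a 2-group normalising `P`, not in `P`, has a power `y` not in `P` with `y² ∈ P`. -/
theorem exists_sq {P T : Subgroup G} (hT : IsPGroup 2 T) {n : G} (hnT : n ∈ T) (hnP : n ∉ P)
    (hn : n ∈ normalizer (P : Set G)) :
    ∃ y ∈ T, y ∉ P ∧ y * y ∈ P ∧ y ∈ normalizer (P : Set G) := by
  classical
  have hex : ∃ k : ℕ, n ^ 2 ^ k ∈ P := by
    obtain ⟨k, hk⟩ := hT ⟨n, hnT⟩
    refine ⟨k, ?_⟩
    have h1 := congrArg Subtype.val hk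
    have h2 : n ^ 2 ^ k = 1 := by simpa using h1
    rw [h2]; exact P.one_mem
  have h0 : Nat.find hex ≠ 0 := by
    intro h
    have h1 := Nat.find_spec hex
    rw [h, pow_zero, pow_one] at h1
    exact hnP h1
  obtain ⟨k, hk⟩ := Nat.exists_eq_succ_of_ne_zero h0
  refine ⟨n ^ 2 ^ k, T.pow_mem hnT _, ?_, ?_, (normalizer (P : Set G)).pow_mem hn _⟩
  · exact Nat.find_min hex (by omega)
  · have h1 := Nat.find_spec hex
    rw [hk, Nat.succ_eq_add_one, pow_succ, pow_mul, pow_two] at h1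
    exact h1

theorem conj_mem_of_normalizer {P : Subgroup G} {y : G} (hy : y ∈ normalizer (P : Set G)) {p : G}
    (hp : p ∈ P) : y * p * y⁻¹ ∈ P := (mem_normalizer_iff.1 hy p).1 hp

/-- membership in the product of `Q` with a group normalising it. -/
theorem mem_sup_norm {Q K : Subgroup G} (h : ∀ k ∈ K, ∀ q ∈ Q, k * q * k⁻¹ ∈ Q) {g : G} :
    g ∈ Q ⊔ K ↔ ∃ k ∈ K, k * g ∈ Q := by
  constructor
  · let R : Subgroup G :=
      { carrier := {g | ∃ k ∈ K, k * g ∈ Q}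
        one_mem' := ⟨1, K.one_mem, by rw [mul_one]; exact Q.one_mem⟩
        mul_mem' := by
          rintro a b ⟨k, hk, hka⟩ ⟨l, hl, hlb⟩
          refine ⟨l * k, K.mul_mem hl hk, ?_⟩
          have : l * k * (a * b) = (l * (k * a) * l⁻¹) * (l * b) := by group
          rw [this]; exact Q.mul_mem (h l hl _ hka) hlb
        inv_mem' := by
          rintro a ⟨k, hk, hka⟩
          refine ⟨k⁻¹, K.inv_mem hk, ?_⟩
          have h1 := h _ (K.inv_mem hk) _ (Q.inv_mem hka)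
          have h2 : k⁻¹ * (k * a)⁻¹ * k⁻¹⁻¹ = k⁻¹ * a⁻¹ := by group
          rwa [h2] at h1 }
    have hle : Q ⊔ K ≤ R := by
      refine sup_le ?_ ?_
      · intro q hq
        exact ⟨1, K.one_mem, by rwa [one_mul]⟩
      · intro k hk
        exact ⟨k⁻¹, K.inv_mem hk, by rw [inv_mul_cancel]; exact Q.one_mem⟩
    intro hg
    exact hle hg
  · rintro ⟨k, hk, hkg⟩
    have h1 : g = k⁻¹ * (k * g) := by group
    rw [h1]
    exact mul_mem (inv_mem ((le_sup_right : K ≤ Q ⊔ K) hk)) ((le_sup_left : Q ≤ Q ⊔ K) hkg)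

end Cfsg.Agent.StdL2.SFive.LeafTools
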