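import Cfsg.Agent.StdL2.SFive.Stage

/-!
# S1773, `q = 4`: counting conjugates of `t` in `P = Q ∪ tQ`
-/

set_option autoImplicit false
set_option linter.unusedSectionVars false
set_option linter.style.haveILetI false

open Subgroup

namespace Cfsg.Agent.StdL2.SFive

open Cfsg.Agent.StdL2.FieldStart

variable {G : Type*} [Group G] [Finite G]

/-- a 3-element commuting with `t`, normalising `V` and `Q`, without fixed points on `V` -/
structure Tri (t : G) (V Q : Subgroup G) (d : G) : Prop where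
  dt : d * t = t * d
  dV : ∀ v ∈ V, d * v * d⁻¹ ∈ V
  dQ : ∀ q ∈ Q, d * q * d⁻¹ ∈ Q
  fix : ∀ v ∈ V, d * v * d⁻¹ = v → v = 1
  d3 : ∃ k, d ^ 3 ^ k = 1

/-- a 3-element normalising the four-group `V` and moving an element has no fixed points -/
theorem fix_of_move {V : Subgroup G} (V4 : Nat.card V = 4) {d : G} (d3 : ∃ k, d ^ 3 ^ k = 1)
    (dV : ∀ v ∈ V, d * v * d⁻¹ ∈ V) (hm : ∃ v ∈ V, d * v * d⁻¹ ≠ v) :
    ∀ v ∈ V, d * v * d⁻¹ = v → v = 1 := by
  haveI : Fact (Nat.Prime 3) := ⟨Nat.prime_three⟩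
  obtain ⟨v0, hv0, hne⟩ := hm
  intro v hv hfix
  by_contra hv1
  have h1 := ncard_modEq (p := 3) d3 (Λ := (V : Set G)) dV
  have hV : (V : Set G).ncard = 4 := by rw [← Nat.card_coe_set_eq]; exact V4
  rw [hV] at h1
  set F := {x | x ∈ (V : Set G) ∧ d * x * d⁻¹ = x} with hF
  have h2 : F ⊆ (V : Set G) := fun x hx => hx.1
  have h3 : F.ncard < 4 := by
    rw [← hV]
    refine Set.ncard_lt_ncard ⟨h2, fun h => hne (h hv0).2⟩ (Set.toFinite _)
  have h4 : 2 ≤ F.ncard := by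
    have h5 : ({1, v} : Set G) ⊆ F := by
      intro x hx
      rcases hx with rfl | rfl
      · exact ⟨V.one_mem, by group⟩
      · exact ⟨hv, hfix⟩
    have h6 := Set.ncard_le_ncard h5 (Set.toFinite _)
    rwa [Set.ncard_pair (Ne.symm hv1)] at h6
  unfold Nat.ModEq at h1
  omega

/-- if a power `r` prime to 3 of a 3-element fixes `v`, so does the element -/
theorem fix_of_pow {d v : G} (d3 : ∃ k, d ^ 3 ^ k = 1) {r : ℕ} (hr : ¬ 3 ∣ r)
    (h : d ^ r * v * (d ^ r)⁻¹ = v) : d * v * d⁻¹ = v := by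
  obtain ⟨k, hk⟩ := d3
  have hc : Nat.Coprime r (3 ^ k) := by
    refine Nat.Coprime.pow_right _ ?_
    exact ((Nat.Prime.coprime_iff_not_dvd Nat.prime_three).2 hr).symm
  have h1 : Commute (d ^ r) v := by
    change d ^ r * v = v * d ^ r
    exact mul_inv_eq_iff_eq_mul.1 h
  have h2 : Commute (d ^ (3 ^ k)) v := by rw [hk]; exact Commute.one_left v
  have h3 := Nat.gcd_eq_gcd_ab r (3 ^ k)
  rw [hc] at h3
  have h4 : d = (d ^ r) ^ (Nat.gcdA r (3 ^ k)) * (d ^ 3 ^ k) ^ (Nat.gcdB r (3 ^ k)) := by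
    rw [← zpow_natCast, ← zpow_natCast, ← zpow_mul, ← zpow_mul, ← zpow_add, ← h3]
    simp
  have h5 : Commute d v := by
    rw [h4]
    exact (h1.zpow_left _).mul_left (h2.zpow_left _)
  rw [mul_inv_eq_iff_eq_mul]
  exact h5

/-- some 3-element of `C(t) ∩ N(V)` moves an element of `V` -/
def Thr (t : G) (V : Subgroup G) : Prop :=
  ∃ d, d * t = t * d ∧ (∀ v ∈ V, d * v * d⁻¹ ∈ V) ∧ (∃ v ∈ V, d * v * d⁻¹ ≠ v) ∧
    ∃ k, d ^ 3 ^ k = 1

theorem pow_conj_mem {H : Subgroup G} {m : G} (h : ∀ x ∈ H, m * x * m⁻¹ ∈ H) (n : ℕ) :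
    ∀ x ∈ H, m ^ n * x * (m ^ n)⁻¹ ∈ H := by
  induction n with
  | zero => intro x hx; simpa using hx
  | succ n ih =>
    intro x hx
    have h1 := h _ (ih x hx)
    have e : m * (m ^ n * x * (m ^ n)⁻¹) * m⁻¹ = m ^ (n + 1) * x * (m ^ (n + 1))⁻¹ := by
      rw [pow_succ']; group
    rwa [e] at h1

theorem pow_conj_eq {H : Subgroup G} {m d : G} (hd : ∀ x ∈ H, d * x * d⁻¹ ∈ H)
    (h : ∀ x ∈ H, m * x * m⁻¹ = d * x * d⁻¹) (n : ℕ) :
    ∀ x ∈ H, m ^ n * x * (m ^ n)⁻¹ = d ^ n * x * (d ^ n)⁻¹ := by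
  induction n with
  | zero => intro x hx; simp
  | succ n ih =>
    intro x hx
    have e : ∀ a : G, a ^ (n + 1) * x * (a ^ (n + 1))⁻¹ = a * (a ^ n * x * (a ^ n)⁻¹) * a⁻¹ := by
      intro a; rw [pow_succ']; group
    rw [e, e, ih x hx]
    exact h _ (pow_conj_mem hd n x hx)

/-- from an element acting on `V` as a suitable 3-element one gets a 3-element with the same invariant
subgroups -/
theorem exists_three {t : G} {V : Subgroup G} (V4 : Nat.card V = 4) {d0 m : G}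
    (d0V : ∀ v ∈ V, d0 * v * d0⁻¹ ∈ V) (hmv : ∃ v ∈ V, d0 * v * d0⁻¹ ≠ v)
    (d03 : ∃ k, d0 ^ 3 ^ k = 1) (hm : m * t = t * m) (hV : ∀ v ∈ V, m * v * m⁻¹ = d0 * v * d0⁻¹) :
    ∃ r : ℕ, (m ^ r) * t = t * m ^ r ∧ (∀ v ∈ V, m ^ r * v * (m ^ r)⁻¹ ∈ V) ∧
      (∀ v ∈ V, m ^ r * v * (m ^ r)⁻¹ = v → v = 1) ∧ ∃ k, (m ^ r) ^ 3 ^ k = 1 := by
  have hn : orderOf m ≠ 0 := (orderOf_pos m).ne'
  obtain ⟨a, r, hr, har⟩ := Nat.exists_eq_pow_mul_and_not_dvd hn 3 (by norm_num)
  have hf := fix_of_move V4 d03 d0V hmv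
  refine ⟨r, ?_, ?_, ?_, a, ?_⟩
  · exact (Commute.pow_left (show Commute m t from hm) r)
  · intro v hv
    rw [pow_conj_eq d0V hV r v hv]
    exact pow_conj_mem d0V r v hv
  · intro v hv h
    rw [pow_conj_eq d0V hV r v hv] at h
    exact hf v hv (fix_of_pow d03 hr h)
  · rw [← pow_mul, mul_comm, ← har]
    exact pow_orderOf_eq_one m

namespace Stg

variable {t : G} {V Q : Subgroup G}

theorem exists_tri (L : Loc t V) (S : Stg t V Q) (H : Thr t V) : ∃ d, Tri t V Q d := by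
  obtain ⟨d0, h1, h2, h3, h4⟩ := H
  obtain ⟨m, hm1, hm2, hm3⟩ := S.cov d0 h1 h2
  obtain ⟨r, r1, r2, r3, r4⟩ := exists_three L.V4 h2 h3 h4 hm1 hm2
  exact ⟨m ^ r, r1, r2, pow_conj_mem hm3 r, r3, r4⟩

end Stg

/-- sets invariant under `K` all whose classes have the same size -/
theorem dvd_ncard {K : Subgroup G} {X : Set G} {s : ℕ} (hX : ∀ x ∈ X, ∀ k ∈ K, k * x * k⁻¹ ∈ X)
    (hs : ∀ x ∈ X, (cls K x).ncard = s) : s ∣ X.ncard := by
  classical
  haveI : Fintype G := Fintype.ofFinite G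
  rw [Set.ncard_eq_toFinset_card' X, Finset.card_eq_sum_card_image (fun x => cls K x) X.toFinset]
  refine Finset.dvd_sum ?_
  intro c hc
  obtain ⟨x, hx, rfl⟩ := Finset.mem_image.1 hc
  rw [Set.mem_toFinset] at hx
  have h1 : ({a ∈ X.toFinset | cls K a = cls K x} : Finset G) = (cls K x).toFinset := by
    ext a
    rw [Finset.mem_filter, Set.mem_toFinset, Set.mem_toFinset]
    constructor
    · rintro ⟨-, h⟩
      rw [← h]
      exact mem_cls_self K a
    · intro h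
      refine ⟨?_, cls_eq h⟩
      obtain ⟨k, hk, rfl⟩ := h
      exact hX x hx k hk
  rw [h1, ← Set.ncard_eq_toFinset_card', hs x hx]

namespace Tri

variable {t : G} {V Q : Subgroup G} {d : G}

theorem fixQ (D : Tri t V Q d) (L : Loc t V) (S : Stg t V Q) {q : G} (hq : q ∈ Q)
    (h : d * q * d⁻¹ = q) : q = 1 := by
  haveI : Fact (Nat.Prime 2) := ⟨Nat.prime_two⟩
  by_contra hq1
  -- C = Q ⊓ C(d), a nontrivial 2-group
  set C : Subgroup G := Q ⊓ centralizer {d} with hC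
  have hqC : q ∈ C := mem_inf.2 ⟨hq, mem_centralizer_singleton_iff.2 (by
    have := mul_inv_eq_iff_eq_mul.1 h
    exact this.symm)⟩
  have hC2 : IsPGroup 2 C := S.Q2.to_le inf_le_left
  have hinv : ∀ x ∈ (C : Set G), t * x * t⁻¹ ∈ (C : Set G) := by
    intro x hx
    obtain ⟨hx1, hx2⟩ := mem_inf.1 hx
    refine mem_inf.2 ⟨S.tn x hx1, mem_centralizer_singleton_iff.2 ?_⟩
    rw [mem_centralizer_singleton_iff] at hx2
    have h3 := D.dt
    have h4 : t⁻¹ * d = d * t⁻¹ := by rw [L.tinv]; exact h3.symm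
    calc t * x * t⁻¹ * d = t * x * (t⁻¹ * d) := by group
      _ = t * (x * d) * t⁻¹ := by rw [h4]; group
      _ = (t * d) * x * t⁻¹ := by rw [hx2]; group
      _ = d * (t * x * t⁻¹) := by rw [← h3]; group
  have h2 := ncard_modEq (p := 2) (d := t) ⟨1, by rw [pow_one, pow_two]; exact L.t2⟩ hinv
  have hcard : (C : Set G).ncard = Nat.card C := Nat.card_coe_set_eq _ ▸ rfl
  obtain ⟨n, hn⟩ := IsPGroup.iff_card.1 hC2
  have hn0 : n ≠ 0 := by
    rintro rfl
    rw [pow_zero] at hn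
    have := (Nat.card_eq_one_iff_unique.1 hn).1
    exact hq1 (congrArg Subtype.val (Subsingleton.elim (⟨q, hqC⟩ : C) 1))
  have heven : 2 ∣ Nat.card C := hn ▸ dvd_pow_self 2 hn0
  set F := {x | x ∈ (C : Set G) ∧ t * x * t⁻¹ = x} with hF
  have h1F : (1 : G) ∈ F := ⟨C.one_mem, by group⟩
  have h3 : F.ncard ≠ 1 := by
    intro h
    rw [hcard, h] at h2
    unfold Nat.ModEq at h2
    omega
  have h4 : 0 < F.ncard := (Set.ncard_pos (Set.toFinite _)).2 ⟨1, h1F⟩
  obtain ⟨x, hxF, hx1⟩ := Set.exists_ne_of_one_lt_ncard (show 1 < F.ncard by omega) 1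
  have h5 : x * t = t * x := (mul_inv_eq_iff_eq_mul.1 hxF.2).symm
  have hxC : x ∈ C := hxF.1
  have h6 := S.mem_V L (mem_inf.1 hxC).1 h5
  apply hx1
  apply D.fix x h6
  rw [mul_inv_eq_iff_eq_mul]
  exact (mem_centralizer_singleton_iff.1 (mem_inf.1 hxC).2).symm

theorem fixtQ (D : Tri t V Q d) (L : Loc t V) (S : Stg t V Q) {x : G} (hx : t * x ∈ Q)
    (h : d * x * d⁻¹ = x) : x = t := by
  have h1 : d * (t * x) * d⁻¹ = t * x := by
    calc d * (t * x) * d⁻¹ = (d * t) * x * d⁻¹ := by group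
      _ = t * (d * x * d⁻¹) := by rw [D.dt]; group
      _ = t * x := by rw [h]
  have h2 := D.fixQ L S hx h1
  rw [← L.tinv]
  exact eq_inv_of_mul_eq_one_right h2

theorem dP (D : Tri t V Q d) (L : Loc t V) (S : Stg t V Q) : ∀ x ∈ S.P L, d * x * d⁻¹ ∈ S.P L := by
  rintro x (h | h)
  · exact Or.inl (D.dQ x h)
  · right
    have h1 := D.dQ _ h
    have e : d * (t * x) * d⁻¹ = t * (d * x * d⁻¹) := by
      calc d * (t * x) * d⁻¹ = (d * t) * x * d⁻¹ := by group
        _ = t * (d * x * d⁻¹) := by rw [D.dt]; group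
    rwa [e] at h1

theorem dt' (D : Tri t V Q d) : d * t * d⁻¹ = t := by rw [D.dt, mul_inv_cancel_right]

end Tri

namespace Stg

variable {t : G} {V Q : Subgroup G} {d : G}

/-- conjugates of `t` under `C(V)` are not in `V` -/
theorem not_mem_V (L : Loc t V) {x : G} (hx : x ∈ cls (centralizer (V : Set G)) t) : x ∉ V := by
  obtain ⟨y, hy, rfl⟩ := hx
  intro h
  have h1 : y * (y * t * y⁻¹) = (y * t * y⁻¹) * y := (mem_centralizer_iff.1 hy _ h).symm
  have h2 : y * t * y⁻¹ = t := by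
    have h3 : y * (y * t * y⁻¹) = y * t := by rw [h1]; group
    exact mul_left_cancel h3
  rw [h2] at h
  exact L.tV h

theorem card_cen (L : Loc t V) (S : Stg t V Q) {x : G} (hx : x ∈ cls (centralizer (V : Set G)) t)
    (hxP : x ∈ S.P L) : Nat.card (S.P L ⊓ centralizer {x} : Subgroup G) = 8 := by
  haveI : Fact (Nat.Prime 2) := ⟨Nat.prime_two⟩
  have hxV := not_mem_V L hx
  obtain ⟨y, hy, rfl⟩ := hx
  set C : Subgroup G := S.P L ⊓ centralizer {y * t * y⁻¹} with hC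
  have hC2 : IsPGroup 2 C := (S.P2 L).to_le inf_le_left
  have h8 : Nat.card C ≤ 8 := by
    refine L.card_cen_le hC2 (fun z hz => S.PV L z (mem_inf.1 hz).1)
      (fun v hv => (mem_centralizer_iff.1 hy v hv).symm) rfl ?_
    intro z hz
    exact mem_centralizer_singleton_iff.1 (mem_inf.1 hz).2
  have hVC : V ≤ C := by
    intro v hv
    refine mem_inf.2 ⟨Or.inl (S.VQ hv), mem_centralizer_singleton_iff.2 ?_⟩
    exact (S.PV L _ hxP v hv).symm
  have hxC : y * t * y⁻¹ ∈ C := mem_inf.2 ⟨hxP, mem_centralizer_singleton_iff.2 rfl⟩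
  obtain ⟨n, hn⟩ := IsPGroup.iff_card.1 hC2
  have h4 : 4 ∣ Nat.card C := L.V4 ▸ card_dvd_of_le hVC
  have h5 : Nat.card C ≠ 4 := by
    intro h
    have : V = C := Subgroup.eq_of_le_of_card_ge hVC (by rw [h, L.V4])
    exact hxV (this ▸ hxC)
  have hpos : 0 < Nat.card C := Nat.card_pos
  rw [hn] at h8 h4 h5 hpos ⊢
  have hn3 : n ≤ 3 := by
    by_contra h
    have : 2 ^ 4 ≤ 2 ^ n := Nat.pow_le_pow_right (by norm_num) (by omega)
    omega
  interval_cases n <;> simp_all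

theorem card_cls' (L : Loc t V) (S : Stg t V Q) {x : G}
    (hx : x ∈ cls (centralizer (V : Set G)) t) (hxP : x ∈ S.P L) :
    (cls (S.P L) x).ncard * 4 = Nat.card Q := by
  have h1 := ncard_cls (S.P L) x
  rw [S.card_cen L hx hxP, S.card_P L] at h1
  omega

/-- `s ≡ 1 (mod 3)` -/
theorem s_mod (L : Loc t V) (S : Stg t V Q) (D : Tri t V Q d) :
    (cls (S.P L) t).ncard % 3 = 1 := by
  haveI : Fact (Nat.Prime 3) := ⟨Nat.prime_three⟩
  have h1 := ncard_modEq (p := 3) D.d3 (Λ := cls (S.P L) t) (by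
    rintro x ⟨k, hk, rfl⟩
    refine ⟨d * k * d⁻¹, D.dP L S k hk, ?_⟩
    have := D.dt'
    calc d * k * d⁻¹ * t * (d * k * d⁻¹)⁻¹ = d * k * (d⁻¹ * t * d) * k⁻¹ * d⁻¹ := by group
      _ = d * k * (d⁻¹ * (d * t * d⁻¹) * d) * k⁻¹ * d⁻¹ := by rw [this]
      _ = d * (k * t * k⁻¹) * d⁻¹ := by group)
  have h2 : {x | x ∈ cls (S.P L) t ∧ d * x * d⁻¹ = x} = {t} := by
    ext x
    constructor
    · rintro ⟨hx, hx2⟩
      exact D.fixtQ L S (S.cls_sub L hx) hx2
    · intro hx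
      have hx' : x = t := hx
      rw [hx']
      exact ⟨mem_cls_self _ _, D.dt'⟩
  rw [h2, Set.ncard_singleton] at h1
  unfold Nat.ModEq at h1
  omega

theorem conj_cls (D : Tri t V Q d) {K : Subgroup G} (hK : ∀ k ∈ K, d * k * d⁻¹ ∈ K) {x : G}
    (hx : x ∈ cls K t) : d * x * d⁻¹ ∈ cls K t := by
  obtain ⟨k, hk, rfl⟩ := hx
  refine ⟨d * k * d⁻¹, hK k hk, ?_⟩
  have := D.dt'
  calc d * k * d⁻¹ * t * (d * k * d⁻¹)⁻¹ = d * k * (d⁻¹ * t * d) * k⁻¹ * d⁻¹ := by group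
    _ = d * k * (d⁻¹ * (d * t * d⁻¹) * d) * k⁻¹ * d⁻¹ := by rw [this]
    _ = d * (k * t * k⁻¹) * d⁻¹ := by group

theorem tri_C (D : Tri t V Q d) (L : Loc t V) : ∀ k ∈ centralizer (V : Set G),
    d * k * d⁻¹ ∈ centralizer (V : Set G) := by
  intro k hk
  rw [mem_centralizer_iff] at hk ⊢
  -- `d` permutes `V`
  have hsurj : ∀ v ∈ V, ∃ w ∈ V, d * w * d⁻¹ = v := by
    intro v hv
    have hinj : Function.Injective (fun w : V => (⟨d * w * d⁻¹, D.dV w w.2⟩ : V)) := by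
      intro a b hab
      have := congrArg Subtype.val hab
      exact Subtype.ext (mul_left_cancel (mul_right_cancel this))
    obtain ⟨w, hw⟩ := (Finite.injective_iff_surjective.1 hinj) ⟨v, hv⟩
    exact ⟨w, w.2, congrArg Subtype.val hw⟩
  intro v hv
  obtain ⟨w, hw, rfl⟩ := hsurj v hv
  have := hk w hw
  calc d * w * d⁻¹ * (d * k * d⁻¹) = d * (w * k) * d⁻¹ := by group
    _ = d * (k * w) * d⁻¹ := by rw [this]
    _ = d * k * d⁻¹ * (d * w * d⁻¹) := by group

/-- no element of `Q` is conjugate to `t` under `C(V)` -/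
theorem not_mem_Q (L : Loc t V) (S : Stg t V Q) (D : Tri t V Q d) {x : G}
    (hx : x ∈ cls (centralizer (V : Set G)) t) : x ∉ Q := by
  haveI : Fact (Nat.Prime 3) := ⟨Nat.prime_three⟩
  intro hxQ
  set Y := centralizer (V : Set G) with hY
  set X : Set G := {x | x ∈ cls Y t ∧ x ∈ Q} with hX
  set s := (cls (S.P L) t).ncard with hs
  have hQs : Nat.card Q = 4 * s := by rw [← S.card_cls L, mul_comm]
  have hs3 : s % 3 = 1 := S.s_mod L D
  have hPY : S.P L ≤ Y := fun x hx => mem_centralizer_iff.2 (fun v hv => (S.PV L x hx v hv).symm)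
  have hQn : ∀ q ∈ Q, ∀ k ∈ S.P L, k * q * k⁻¹ ∈ Q := by
    rintro q hq k (hk | hk)
    · exact Q.mul_mem (Q.mul_mem hk hq) (Q.inv_mem hk)
    · have h1 := S.tn _ (Q.mul_mem (Q.mul_mem hk hq) (Q.inv_mem hk))
      have e : t * (t * k * q * (t * k)⁻¹) * t⁻¹ = (t * t) * (k * q * k⁻¹) * (t * t)⁻¹ := by group
      rwa [e, L.t2, one_mul, inv_one, mul_one] at h1
  have hdvd : s ∣ X.ncard := by
    refine dvd_ncard (K := S.P L) ?_ ?_
    · intro x hx k hk
      exact ⟨cls_conj hx.1 (hPY hk), hQn x hx.2 k hk⟩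
    · intro x hx
      have := S.card_cls' L hx.1 (Or.inl hx.2)
      omega
  have hlt : X.ncard < Nat.card Q := by
    have h1 : X ⊂ (Q : Set G) := by
      refine ⟨fun x hx => hx.2, fun h => ?_⟩
      have h2 := h Q.one_mem
      exact not_mem_V L h2.1 V.one_mem
    have h2 := Set.ncard_lt_ncard h1 (Set.toFinite _)
    rwa [show (Q : Set G).ncard = Nat.card Q from (Nat.card_coe_set_eq _).symm] at h2
  have hmod := ncard_modEq (p := 3) D.d3 (Λ := X) (by
    intro x hx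
    exact ⟨conj_cls D (tri_C D L) hx.1, D.dQ x hx.2⟩)
  have hF : {x | x ∈ X ∧ d * x * d⁻¹ = x} = ∅ := by
    ext x
    constructor
    · rintro ⟨hx, hx2⟩
      have h1 := D.fixQ L S hx.2 hx2
      rw [h1] at hx
      exact not_mem_V L hx.1 V.one_mem
    · intro h; exact absurd h (Set.notMem_empty x)
  rw [hF, Set.ncard_empty] at hmod
  obtain ⟨k, hk⟩ := hdvd
  have hxX : x ∈ X := ⟨hx, hxQ⟩
  have hpos : 0 < X.ncard := (Set.ncard_pos (Set.toFinite _)).2 ⟨x, hxX⟩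
  have hk4 : k < 4 := by
    by_contra h
    have : s * 4 ≤ s * k := Nat.mul_le_mul_left s (by omega)
    omega
  have hk3 : k = 3 := by
    unfold Nat.ModEq at hmod
    rw [hk] at hmod hpos
    interval_cases k
    · omega
    · omega
    · omega
    · rfl
  rw [hk3] at hk
  -- elements r of X with x r ∈ X
  set R : Set G := {r | r ∈ X ∧ x * r ∈ X} with hR
  have hRcard : 2 * s ≤ R.ncard := by
    have h1 : X.ncard ≤ R.ncard + ((Q : Set G) \ X).ncard := by
      have h2 : X \ R ⊆ X := fun r hr => hr.1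
      have h3 : (X \ R).ncard ≤ ((Q : Set G) \ X).ncard := by
        refine Set.ncard_le_ncard_of_injOn (fun r => x * r) ?_ ?_ (Set.toFinite _)
        · intro r hr
          refine ⟨Q.mul_mem hxQ hr.1.2, fun h => hr.2 ⟨hr.1, h⟩⟩
        · intro a _ b _ hab
          exact mul_left_cancel hab
      have h4 : (X \ R).ncard + R.ncard = X.ncard :=
        Set.ncard_diff_add_ncard_of_subset (fun r hr => hr.1) (Set.toFinite _)
      omega
    have h5 : ((Q : Set G) \ X).ncard + X.ncard = (Q : Set G).ncard :=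
      Set.ncard_diff_add_ncard_of_subset (fun r hr => hr.2) (Set.toFinite _)
    rw [show (Q : Set G).ncard = Nat.card Q from (Nat.card_coe_set_eq _).symm] at h5
    omega
  have hsq : ∀ r ∈ X, r * r = 1 := by
    rintro r ⟨⟨y, -, rfl⟩, -⟩
    have e : y * t * y⁻¹ * (y * t * y⁻¹) = y * (t * t) * y⁻¹ := by group
    rw [e, L.t2]; group
  -- V and R are disjoint and both in C_P(x)
  have hsub : (V : Set G) ∪ R ⊆ ((S.P L ⊓ centralizer {x} : Subgroup G) : Set G) := by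
    rintro r (hr | hr)
    · exact mem_inf.2 ⟨Or.inl (S.VQ hr), mem_centralizer_singleton_iff.2
        (S.QV x hxQ r hr).symm⟩
    · refine mem_inf.2 ⟨Or.inl hr.1.2, mem_centralizer_singleton_iff.2 ?_⟩
      have h1 := hsq r hr.1
      have h2 := hsq _ hr.2
      have h3 := hsq x hxX
      -- x r x r = 1
      have h4 : x * r = (x * r)⁻¹ := (inv_eq_of_mul_eq_one_left h2).symm
      rw [mul_inv_rev, inv_of_sq h1, inv_of_sq h3] at h4
      exact h4.symm
  have hdisj : Disjoint (V : Set G) R := by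
    rw [Set.disjoint_left]
    intro r hr hr2
    exact not_mem_V L hr2.1.1 hr
  have h1 := Set.ncard_le_ncard hsub (Set.toFinite _)
  rw [Set.ncard_union_eq hdisj (Set.toFinite _) (Set.toFinite _)] at h1
  rw [show (V : Set G).ncard = Nat.card V from (Nat.card_coe_set_eq _).symm, L.V4,
    show ((S.P L ⊓ centralizer {x} : Subgroup G) : Set G).ncard =
      Nat.card (S.P L ⊓ centralizer {x} : Subgroup G) from (Nat.card_coe_set_eq _).symm,
    S.card_cen L hx (Or.inl hxQ)] at h1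
  -- so s = 1, Q = V
  have hs1 : s = 1 := by omega
  have hVQ : V = Q := Subgroup.eq_of_le_of_card_ge S.VQ (by rw [L.V4, hQs, hs1])
  exact not_mem_V L hx (hVQ ▸ hxQ)

/-- the number of `K`-conjugates of `t` in `P` is `s` or `4s` -/
theorem count (L : Loc t V) (S : Stg t V Q) (D : Tri t V Q d) {K : Subgroup G}
    (hK : K ≤ centralizer (V : Set G)) (hPK : S.P L ≤ K) (hdK : ∀ k ∈ K, d * k * d⁻¹ ∈ K) :
    {x | x ∈ cls K t ∧ x ∈ S.P L}.ncard = (cls (S.P L) t).ncard ∨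
      {x | x ∈ cls K t ∧ x ∈ S.P L}.ncard = 4 * (cls (S.P L) t).ncard := by
  haveI : Fact (Nat.Prime 3) := ⟨Nat.prime_three⟩
  set X : Set G := {x | x ∈ cls K t ∧ x ∈ S.P L} with hX
  set s := (cls (S.P L) t).ncard with hs
  have hQs : Nat.card Q = 4 * s := by rw [← S.card_cls L, mul_comm]
  have hs3 : s % 3 = 1 := S.s_mod L D
  have hXt : ∀ x ∈ X, t * x ∈ Q := by
    intro x hx
    rcases hx.2 with h | h
    · exact absurd h (S.not_mem_Q L D (cls_mono hK t hx.1))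
    · exact h
  have hdvd : s ∣ X.ncard := by
    refine dvd_ncard (K := S.P L) ?_ ?_
    · intro x hx k hk
      exact ⟨cls_conj hx.1 (hPK hk), (S.P L).mul_mem ((S.P L).mul_mem hk hx.2)
        ((S.P L).inv_mem hk)⟩
    · intro x hx
      have := S.card_cls' L (cls_mono hK t hx.1) hx.2
      omega
  have hle : X.ncard ≤ 4 * s := by
    rw [← hQs, show Nat.card Q = (Q : Set G).ncard from Nat.card_coe_set_eq _]
    refine Set.ncard_le_ncard_of_injOn (fun x => t * x) (fun x hx => hXt x hx) ?_ (Set.toFinite _)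
    intro a _ b _ hab
    exact mul_left_cancel hab
  have hmod := ncard_modEq (p := 3) D.d3 (Λ := X) (by
    intro x hx
    exact ⟨conj_cls D hdK hx.1, D.dP L S x hx.2⟩)
  have hF : {x | x ∈ X ∧ d * x * d⁻¹ = x} = {t} := by
    ext x
    constructor
    · rintro ⟨hx, hx2⟩
      exact D.fixtQ L S (hXt x hx) hx2
    · intro h
      have h' : x = t := h
      rw [h']
      exact ⟨⟨mem_cls_self _ _, S.tP L⟩, D.dt'⟩
  rw [hF, Set.ncard_singleton] at hmod
  obtain ⟨k, hk⟩ := hdvd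
  have hk4 : k ≤ 4 := by
    by_contra h
    have h1 : s * 5 ≤ s * k := Nat.mul_le_mul_left s (by omega)
    omega
  unfold Nat.ModEq at hmod
  rw [hk] at hmod ⊢
  interval_cases k
  · omega
  · left; ring
  · omega
  · omega
  · right; ring

end Stg

end Cfsg.Agent.StdL2.SFive
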