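import Cfsg.Agent.StdL2.SFive.Tools

/-!
# S1773, `q = 4`: four-groups
-/

set_option autoImplicit false
set_option linter.unusedSectionVars false
set_option linter.style.haveILetI false

open Subgroup

namespace Cfsg.Agent.StdL2.SFive

open Cfsg.Agent.StdL2.FieldStart

variable {G : Type*} [Group G] [Finite G]

/-- the elements of a four-group -/
theorem four_cases {V : Subgroup G} (V4 : Nat.card V = 4) (vsq : ∀ v ∈ V, v * v = 1) {a b : G}
    (ha : a ∈ V) (hb : b ∈ V) (ha1 : a ≠ 1) (hb1 : b ≠ 1) (hab : a ≠ b) {u : G} (hu : u ∈ V) :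
    u = 1 ∨ u = a ∨ u = b ∨ u = a * b := by
  classical
  have h1 : ({1, a, b, a * b} : Set G) ⊆ (V : Set G) := by
    rintro x (rfl | rfl | rfl | rfl)
    · exact V.one_mem
    · exact ha
    · exact hb
    · exact V.mul_mem ha hb
  have hab1 : a * b ≠ 1 := by
    intro h
    apply hab
    have h2 := eq_inv_of_mul_eq_one_left h
    rw [h2]
    exact (inv_eq_of_mul_eq_one_left (vsq b hb))
  have h2 : ({1, a, b, a * b} : Set G).ncard = 4 := by
    have e : ({1, a, b, a * b} : Set G) = (({1, a, b, a * b} : Finset G) : Set G) := by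
      push_cast
      rfl
    rw [e, Set.ncard_coe_finset]
    rw [Finset.card_insert_of_notMem, Finset.card_insert_of_notMem, Finset.card_insert_of_notMem,
      Finset.card_singleton]
    · simp only [Finset.mem_singleton]
      intro h
      exact ha1 (by
        have := h.symm
        rwa [mul_eq_right] at this)
    · simp only [Finset.mem_insert, Finset.mem_singleton, not_or]
      refine ⟨hab, fun h => hb1 ?_⟩
      have := h.symm
      rwa [mul_eq_left] at this
    · simp only [Finset.mem_insert, Finset.mem_singleton, not_or]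
      exact ⟨Ne.symm ha1, Ne.symm hb1, Ne.symm hab1⟩
  have h3 : ({1, a, b, a * b} : Set G) = (V : Set G) := by
    apply Set.eq_of_subset_of_ncard_le h1
    rw [h2, ← Nat.card_coe_set_eq]
    exact V4.le
  have h4 : u ∈ ({1, a, b, a * b} : Set G) := by rw [h3]; exact hu
  simpa using h4

theorem elem_comm {V : Subgroup G} (vsq : ∀ v ∈ V, v * v = 1) {a b : G}
    (ha : a ∈ V) (hb : b ∈ V) : a * b = b * a := by
  have h := vsq _ (V.mul_mem ha hb)
  have h1 := inv_eq_of_mul_eq_one_left h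
  rw [mul_inv_rev, inv_eq_of_mul_eq_one_left (vsq a ha), inv_eq_of_mul_eq_one_left (vsq b hb)] at h1
  exact h1.symm

/-- the action of a 2-element on a four-group -/
theorem move4 {V : Subgroup G} (V4 : Nat.card V = 4) (vsq : ∀ v ∈ V, v * v = 1) {w : G}
    (w2 : ∃ k, w ^ 2 ^ k = 1) (wV : ∀ v ∈ V, w * v * w⁻¹ ∈ V) (hm : ∃ v ∈ V, w * v ≠ v * w) :
    ∃ v0 ∈ V, v0 ≠ 1 ∧ w * v0 = v0 * w ∧ (∀ u ∈ V, w * u = u * w → u = 1 ∨ u = v0) ∧
      (∀ u ∈ V, w * u ≠ u * w → w * u * w⁻¹ = u * v0) := by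
  haveI : Fact (Nat.Prime 2) := ⟨Nat.prime_two⟩
  obtain ⟨v1, hv1, hwv1⟩ := hm
  have h1 := ncard_modEq (p := 2) w2 (Λ := (V : Set G)) wV
  have hV : (V : Set G).ncard = 4 := by rw [← Nat.card_coe_set_eq]; exact V4
  rw [hV] at h1
  set F := {x | x ∈ (V : Set G) ∧ w * x * w⁻¹ = x} with hF
  have h1F : (1 : G) ∈ F := ⟨V.one_mem, by group⟩
  have h2 : ∃ v0 ∈ F, v0 ≠ 1 := by
    by_contra hcon
    push Not at hcon
    have h3 : F = {1} := by
      ext x
      constructor
      · intro hx; exact hcon x hx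
      · rintro rfl; exact h1F
    rw [h3, Set.ncard_singleton] at h1
    unfold Nat.ModEq at h1
    omega
  obtain ⟨v0, ⟨hv0, hwv0⟩, hv01⟩ := h2
  have hv0' : v0 ∈ V := hv0
  have hwv0' : w * v0 = v0 * w := mul_inv_eq_iff_eq_mul.1 hwv0
  have h5 : ∀ u ∈ V, w * u = u * w → u = 1 ∨ u = v0 := by
    intro u hu hwu
    by_contra hcon
    push Not at hcon
    apply hwv1
    rcases four_cases V4 vsq hu hv0' hcon.1 hv01 hcon.2 hv1 with h | h | h | h
    · rw [h, mul_one, one_mul]
    · rw [h, hwu]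
    · rw [h, hwv0']
    · rw [h]
      calc w * (u * v0) = (w * u) * v0 := by group
        _ = u * (w * v0) := by rw [hwu]; group
        _ = u * v0 * w := by rw [hwv0']; group
  refine ⟨v0, hv0', hv01, hwv0', h5, ?_⟩
  intro u hu hwu
  have hu1 : u ≠ 1 := by
    rintro rfl
    exact hwu (by rw [mul_one, one_mul])
  have huv0 : u ≠ v0 := by
    rintro rfl
    exact hwu hwv0'
  rcases four_cases V4 vsq hu hv0' hu1 hv01 huv0 (wV u hu) with h | h | h | h
  · exfalso
    apply hu1
    have : u = w⁻¹ * (w * u * w⁻¹) * w := by group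
    rw [this, h]; group
  · exact absurd (mul_inv_eq_iff_eq_mul.1 h) hwu
  · exfalso
    apply huv0
    have h6 : u = w⁻¹ * (w * u * w⁻¹) * w := by group
    rw [h6, h]
    calc w⁻¹ * v0 * w = w⁻¹ * (v0 * w) := by group
      _ = w⁻¹ * (w * v0) := by rw [hwv0']
      _ = v0 := by group
  · exact h

/-- 2-elements normalising the four-group: the product of two which move something centralises. -/
theorem move4_two {V : Subgroup G} (V4 : Nat.card V = 4) (vsq : ∀ v ∈ V, v * v = 1) {w : G}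
    (w2 : ∃ k, w ^ 2 ^ k = 1) (wV : ∀ v ∈ V, w * v * w⁻¹ ∈ V) :
    ∀ v ∈ V, (w * w) * v = v * (w * w) := by
  intro v hv
  by_cases hwv : w * v = v * w
  · calc (w * w) * v = w * (w * v) := by group
      _ = w * (v * w) := by rw [hwv]
      _ = (w * v) * w := by group
      _ = v * (w * w) := by rw [hwv]; group
  · obtain ⟨v0, hv0, -, hw0, -, h1⟩ := move4 V4 vsq w2 wV ⟨v, hv, hwv⟩
    have h2 := h1 v hv hwv
    have h3 : w * (w * v * w⁻¹) * w⁻¹ = v := by
      calc w * (w * v * w⁻¹) * w⁻¹ = w * (v * v0) * w⁻¹ := by rw [h2]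
        _ = (w * v * w⁻¹) * ((w * v0) * w⁻¹) := by group
        _ = (v * v0) * v0 := by rw [h2, hw0]; group
        _ = v := by rw [mul_assoc, vsq v0 hv0, mul_one]
    have h4 : (w * w) * v * (w * w)⁻¹ = v := by
      calc (w * w) * v * (w * w)⁻¹ = w * (w * v * w⁻¹) * w⁻¹ := by group
        _ = v := h3
    exact mul_inv_eq_iff_eq_mul.1 h4

end Cfsg.Agent.StdL2.SFive
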