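import Cfsg.Agent.StdL2.SFive.EndT

/-!
# S1773, `q = 4`: the leaves `S/V = Z₄`, `|Q| > 4` and `S/V = 2²`, `|Q| > 16`
-/

set_option autoImplicit false
set_option linter.unusedSectionVars false
set_option linter.style.haveILetI false

open Subgroup

namespace Cfsg.Agent.StdL2.SFive

open Cfsg.Agent.StdL2.FieldStart

namespace Pos

variable {G : Type*} [Group G] [Finite G] {t : G} {V Q S : Subgroup G}

theorem invW (H : Pos t V Q S) {s : G} (h : s⁻¹ ∈ H.L.W) : s ∈ H.L.W := by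
  have := H.L.W.inv_mem h
  rwa [inv_inv] at this

theorem exists_out (H : Pos t V Q S) : ∃ s ∈ S, s ∉ H.L.W := by
  obtain ⟨s, hs, w, hw, hsw⟩ := H.out
  exact ⟨s, hs, fun h => hsw (H.L.W_V h hw)⟩

theorem sq_W (H : Pos t V Q S) {s : G} (hs : s ∈ S) : s * s ∈ H.L.W := by
  by_cases hsW : s ∈ H.L.W
  · exact H.L.W.mul_mem hsW hsW
  have h1 := H.mul_mem_W (S.inv_mem hs) hs (fun h => hsW (H.invW h)) hsW
  rwa [inv_inv] at h1

theorem card_S (H : Pos t V Q S) : Nat.card S = 16 := by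
  have h1 := card_le_two_mul S H.L.W (fun x hx y hy hxW hyW => H.mul_mem_W hx hy hxW hyW)
  rw [inf_eq_right.2 H.WS, H.L.card_W] at h1
  have h2 : Nat.card H.L.W ∣ Nat.card S := by
    exact Subgroup.card_dvd_of_le H.WS
  rw [H.L.card_W] at h2
  have h3 : Nat.card S ≠ 8 := by
    intro h3
    obtain ⟨s, hs, hsW⟩ := H.exists_out
    apply hsW
    have h4 : H.L.W = S := Subgroup.eq_of_le_of_card_ge H.WS (by rw [h3, H.L.card_W])
    rw [h4]; exact hs
  have h5 : 0 < Nat.card S := Nat.card_pos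
  obtain ⟨k, hk⟩ := h2
  omega

/-- an involution outside `W` -/
theorem exists_invol (H : Pos t V Q S) {s : G} (hs : s ∈ S) (hsW : s ∉ H.L.W)
    (hss : s * s ∈ V) : ∃ x ∈ S, x ∉ H.L.W ∧ x * x = 1 ∧ s⁻¹ * x ∈ V := by
  obtain ⟨v0, hv0, h0, hc⟩ := H.exists_v0
  by_cases h1 : s * s = 1
  · exact ⟨s, hs, hsW, h1, by rw [inv_mul_cancel]; exact V.one_mem⟩
  obtain ⟨u, hu, hu1, hu2, hu3, hu4⟩ := four_elts H.L.V4 H.L.vsq hv0 h0
  have h2 := H.swap hv0 h0 hc hs hsW hu hu1 hu2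
  have h3 := H.swap hv0 h0 hc hs hsW hss h1
  have h4 : s * s = v0 := by
    by_contra h4
    have h5 := h3 h4
    have h6 : s * (s * s) * s⁻¹ = s * s := by group
    rw [h6] at h5
    apply h0
    have : s * s * 1 = s * s * v0 := by rw [mul_one]; exact h5
    exact (mul_left_cancel this).symm
  refine ⟨s * u, S.mul_mem hs (H.VS hu), ?_, ?_, ?_⟩
  · intro h
    apply hsW
    have := H.L.W.mul_mem h (H.L.W.inv_mem (Or.inl hu))
    rwa [mul_inv_cancel_right] at this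
  · calc s * u * (s * u) = (s * u * s⁻¹) * (s * s) * u := by group
      _ = u * v0 * v0 * u := by rw [h2, h4]
      _ = u * (v0 * v0) * u := by group
      _ = 1 := by rw [H.L.vsq v0 hv0, mul_one, H.L.vsq u hu]
  · rw [inv_mul_cancel_left]; exact hu

/-- `P = Q⟨t⟩` -/
def P (H : Pos t V Q S) : Subgroup G := dbl t Q H.L.t2 H.tn

theorem mem_P (H : Pos t V Q S) {x : G} : x ∈ H.P ↔ x ∈ Q ∨ t * x ∈ Q := Iff.rfl

theorem QP (H : Pos t V Q S) : Q ≤ H.P := fun _ h => Or.inl h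

theorem tP (H : Pos t V Q S) : t ∈ H.P := Or.inr (by rw [H.L.t2]; exact Q.one_mem)

theorem WP (H : Pos t V Q S) : H.L.W ≤ H.P := by
  rintro x (h | h)
  · exact Or.inl (H.VQ h)
  · exact Or.inr (H.VQ h)

theorem PV (H : Pos t V Q S) {x : G} (hx : x ∈ H.P) {v : G} (hv : v ∈ V) : x * v = v * x := by
  rcases hx with h | h
  · exact H.QV x h v hv
  · have h1 := H.QV _ h v hv
    have h2 := H.L.vt v hv
    have h3 : t * (x * v) = t * (v * x) := by
      rw [← mul_assoc, h1, ← mul_assoc, h2, mul_assoc]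
    exact mul_left_cancel h3

theorem P_cen (H : Pos t V Q S) {z : G} (hz : z ∈ H.P) (h1 : z * t = t * z) : z ∈ H.L.W := by
  rcases hz with h | h
  · exact Or.inl (H.fixQ h h1)
  · right
    apply H.fixQ h
    rw [mul_assoc, h1]

/-- an element `x` of `T = QS` outside `P` is `k⁻¹ q` with `k ∈ S - W`. -/
theorem mem_T_out (H : Pos t V Q S) {x : G} (hx : x ∈ Q ⊔ S) (hxP : x ∉ H.P) :
    ∃ k ∈ S, k ∉ H.L.W ∧ k * x ∈ Q := by
  obtain ⟨k, hk, hkx⟩ := H.mem_T.1 hx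
  refine ⟨k, hk, ?_, hkx⟩
  intro hkW
  apply hxP
  have h1 := H.P.mul_mem (H.P.inv_mem (H.WP hkW)) (H.QP hkx)
  rwa [inv_mul_cancel_left] at h1

/-- the square of `k` for an involution `x` of the coset `k⁻¹Q`. -/
theorem sq_mem_of_invol (H : Pos t V Q S) {x k : G} (hk : k ∈ S) (hkx : k * x ∈ Q)
    (hxx : x * x = 1) : k * k ∈ V := by
  have h1 := H.SQ k hk _ hkx
  have h2 := Q.mul_mem h1 (Q.inv_mem (Q.mul_mem (Q.inv_mem hkx) (Q.one_mem)))
  -- `k (k x) k⁻¹ = k k x k⁻¹`, times `k x` gives `k k x x = k k`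
  have h3 := Q.mul_mem h1 hkx
  have e : k * (k * x) * k⁻¹ * (k * x) = k * k * (x * x) := by group
  rw [e, hxx, mul_one] at h3
  apply H.fixQ h3
  rw [mul_assoc, H.St hk, ← mul_assoc, H.St hk, mul_assoc]

/-- if no conjugate of `t` is in `S - W` then none is in `V` -/
theorem not_V (H : Pos t V Q S) (hne : Q ≠ V)
    (hE : ∀ y ∈ S, y ∉ H.L.W → ∀ g : G, g * t * g⁻¹ ≠ y) (g : G) : g * t * g⁻¹ ∉ V := by
  intro hv
  set v := g * t * g⁻¹ with hvdef
  have hv1 : v ≠ 1 := fun e => H.L.t1 (by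
    have := congrArg (fun z => g⁻¹ * z * g) e
    simpa [hvdef, mul_assoc] using this)
  have hW2 : IsPGroup 2 H.L.W := isPGroup_dbl _ _ (H.Q2.to_le H.VQ)
  obtain ⟨h, hht, hh⟩ := H.into_S hvdef.symm hW2 (fun f hf => H.L.W_V hf hv)
  have hall : ∀ f ∈ H.L.W, f ≠ 1 → ∃ m : G, m * t * m⁻¹ = f := by
    rintro f (hf | hf) hf1
    · obtain ⟨c, hc, hcv, -⟩ := H.tr v hv hv1 f hf hf1
      exact ⟨c * g, by rw [← hcv, hvdef]; group⟩
    · obtain ⟨y, hy, hyt⟩ := H.conj_tV hne hf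
      exact ⟨y, by rw [hyt, ← mul_assoc, H.L.t2, one_mul]⟩
  have hhW : ∀ f ∈ H.L.W, h * f * h⁻¹ ∈ H.L.W := by
    intro f hf
    by_cases hf1 : f = 1
    · rw [hf1]; simp
    obtain ⟨m, hm⟩ := hall f hf hf1
    by_contra hcon
    refine hE _ (hh f hf) hcon (h * m) ?_
    rw [← hm]; group
  have hN : h ∈ normalizer (H.L.W : Set G) := Fld.conj_mem_norm hhW
  refine H.norm_W ((normalizer _).inv_mem hN) ?_
  have e : h⁻¹ * t * h⁻¹⁻¹ = v := by rw [← hht]; group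
  rw [e]; exact hv

/-- a conjugate of `t` in `P` -/
theorem conj_P (H : Pos t V Q S) (hne : Q ≠ V)
    (hE : ∀ y ∈ S, y ∉ H.L.W → ∀ g : G, g * t * g⁻¹ ≠ y) {g h : G} (hP : g * t * g⁻¹ ∈ H.P)
    (h1 : h * (g * t * g⁻¹) * h⁻¹ = t) (hW : ∀ v ∈ V, h * v * h⁻¹ ∈ H.L.W) :
    ∃ q ∈ Q, g * t * g⁻¹ = q * t * q⁻¹ := by
  have hV : ∀ v ∈ V, h * v * h⁻¹ ∈ V := by
    intro v hv
    rcases hW v hv with h2 | h2
    · exact h2
    · exfalso
      obtain ⟨y, hy, hyt⟩ := H.conj_tV hne h2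
      refine H.not_V hne hE (h⁻¹ * y) ?_
      have e : h⁻¹ * y * t * (h⁻¹ * y)⁻¹ = h⁻¹ * (y * t * y⁻¹) * h := by group
      have e2 : h⁻¹ * (t * (t * (h * v * h⁻¹))) * h = h⁻¹ * (t * t) * h * v := by group
      rw [e, hyt, e2, H.L.t2, mul_one, inv_mul_cancel, one_mul]
      exact hv
  have hN : h ∈ normalizer (V : Set G) := Fld.conj_mem_norm hV
  have hV' : ∀ v ∈ V, h⁻¹ * v * h⁻¹⁻¹ ∈ V := fun v hv =>
    (mem_normalizer_iff.1 ((normalizer (V : Set G)).inv_mem hN) v).1 hv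
  obtain ⟨y, hy, hyt⟩ := H.conj_of_nor hV'
  have e : h⁻¹ * t * h⁻¹⁻¹ = g * t * g⁻¹ := by
    rw [inv_inv]
    have : h⁻¹ * (h * (g * t * g⁻¹) * h⁻¹) * h = g * t * g⁻¹ := by group
    rw [h1] at this
    exact this
  rw [e] at hyt
  rw [hyt] at hP ⊢
  exact H.cls y hy hP

/-- the group `⟨x⟩V` for an involution `x` commuting with `V` -/
theorem dblV {x : G} (hxV : ∀ v ∈ V, x * v = v * x) :
    ∀ v ∈ V, x * v * x⁻¹ ∈ V := by
  intro v hv
  rw [hxV v hv, mul_inv_cancel_right]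
  exact hv

/-- **Leaf (B)**: no involution in `S - W`. -/
theorem leafB (H : Pos t V Q S) (hne : Q ≠ V) (hB : ∀ y ∈ S, y ∉ H.L.W → y * y ≠ 1)
    (gen : commutator G ⊔ zpowers t = ⊤) (VG : V ≤ commutator G) : False := by
  have hsq : ∀ g : G, (g * t * g⁻¹) * (g * t * g⁻¹) = 1 := by
    intro g
    have : (g * t * g⁻¹) * (g * t * g⁻¹) = g * (t * t) * g⁻¹ := by group
    rw [this, H.L.t2]; group
  have hE : ∀ y ∈ S, y ∉ H.L.W → ∀ g : G, g * t * g⁻¹ ≠ y := by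
    intro y hy hyW g e
    exact hB y hy hyW (e ▸ hsq g)
  refine H.end_false ?_ gen VG
  intro g hg
  -- `g t g⁻¹ ∈ P`
  have hP : g * t * g⁻¹ ∈ H.P := by
    by_contra hcon
    obtain ⟨k, hk, hkW, hkx⟩ := H.mem_T_out hg hcon
    obtain ⟨x, hx, hxW, hxx, -⟩ := H.exists_invol hk hkW (H.sq_mem_of_invol hk hkx (hsq g))
    exact hB x hx hxW hxx
  set x := g * t * g⁻¹ with hx
  have hxV : ∀ v ∈ V, x * v = v * x := fun v hv => H.PV hP hv
  obtain ⟨h, hht, hh⟩ := H.into_S hx.symm (isPGroup_dbl (hsq g) (dblV hxV) (H.Q2.to_le H.VQ))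
    (by
      rintro f (hf | hf)
      · exact (hxV f hf).symm
      · have h1 := hxV _ hf
        have h2 : f = x * (x * f) := by rw [← mul_assoc, hsq g, one_mul]
        rw [h2, mul_assoc, ← h1])
  obtain ⟨q, hq, hqt⟩ := H.conj_P hne hE hP hht (by
    intro v hv
    by_contra hcon
    refine hB _ (hh v (Or.inl hv)) hcon ?_
    have e : h * v * h⁻¹ * (h * v * h⁻¹) = h * (v * v) * h⁻¹ := by group
    rw [e, H.L.vsq v hv]; group)
  exact ⟨q, (le_sup_left : Q ≤ Q ⊔ S) hq, hqt⟩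

/-- **Leaf (B)**, `Q = V`: no involution in `S - W`. -/
theorem leafB_one (H : Pos t V V S) (hB : ∀ y ∈ S, y ∉ H.L.W → y * y ≠ 1)
    (hZ : ∃ g : G, g * t * g⁻¹ ≠ t ∧ g * t * g⁻¹ * t = t * (g * t * g⁻¹)) : False := by
  obtain ⟨g, hgt, hgc⟩ := hZ
  have hsq : ∀ g : G, (g * t * g⁻¹) * (g * t * g⁻¹) = 1 := by
    intro g
    have : (g * t * g⁻¹) * (g * t * g⁻¹) = g * (t * t) * g⁻¹ := by group
    rw [this, H.L.t2]; group
  set x := g * t * g⁻¹ with hx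
  -- conjugate `x` into `S`
  have hx2 : IsPGroup 2 (zpowers x) := by
    intro y
    obtain ⟨n, hn⟩ := mem_zpowers_iff.1 y.2
    refine ⟨1, Subtype.ext ?_⟩
    have h2 : x ^ (2 : ℤ) = 1 := by
      rw [show (2 : ℤ) = ((2 : ℕ) : ℤ) from rfl, zpow_natCast, pow_two, hx, hsq g]
    show (y : G) ^ 2 ^ 1 = 1
    rw [← hn, pow_one, ← zpow_natCast, ← zpow_mul, mul_comm, zpow_mul,
      show ((2 : ℕ) : ℤ) = (2 : ℤ) from rfl, h2, one_zpow]
  obtain ⟨c, hc, hcx⟩ := H.Syl.conj hx2 (by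
    rw [zpowers_le, mem_centralizer_singleton_iff]; exact hgc)
  have hct : c * t = t * c := mem_centralizer_singleton_iff.1 hc
  set y := c * x * c⁻¹ with hy
  have hyS : y ∈ S := hcx x (mem_zpowers x)
  have hyg : (c * g) * t * (c * g)⁻¹ = y := by rw [hy, hx]; group
  have hyt : y ≠ t := by
    intro e
    apply hgt
    have h1 : c⁻¹ * t * c = t := by rw [mul_assoc, ← hct]; group
    have h2 : x = c⁻¹ * y * c := by rw [hy]; group
    rw [h2, e, h1]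
  have hyW : y ∈ H.L.W := by
    by_contra hcon
    exact hB y hyS hcon (hyg ▸ hsq (c * g))
  have hW2 : IsPGroup 2 H.L.W := isPGroup_dbl _ _ (H.Q2.to_le H.VQ)
  obtain ⟨h, hht, hh⟩ := H.into_S hyg hW2 (by
    intro f hf
    rcases hyW with h1 | h1
    · exact H.L.W_V hf h1
    · have h2 := H.L.W_V hf h1
      have h3 := H.L.W_t hf
      have h4 : y = t * (t * y) := by rw [← mul_assoc, H.L.t2, one_mul]
      have h5 : f * (t * (t * y)) = t * (t * y) * f := by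
        rw [← mul_assoc, h3, mul_assoc, h2, ← mul_assoc]
      rwa [← h4] at h5)
  have hN : h ∈ normalizer (H.L.W : Set G) := by
    apply Fld.conj_mem_norm
    intro f hf
    by_contra hcon
    refine hB _ (hh f hf) hcon ?_
    have e : h * f * h⁻¹ * (h * f * h⁻¹) = h * (f * f) * h⁻¹ := by group
    rw [e, H.L.Wsq hf]; group
  apply hyt
  have h1 := H.fix_of_eq ((normalizer _).inv_mem hN)
  have h2 : h⁻¹ * t * h⁻¹⁻¹ = y := by rw [← hht]; group
  rw [h2] at h1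
  exact h1

end Pos

end Cfsg.Agent.StdL2.SFive
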