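import Cfsg.Agent.StdL2.SFive.SF
import Cfsg.Agent.StdL2.SFive.Four
import Cfsg.Agent.StdL2.SFive.LeafHigh

/-!
# S1773, `q = 4`, `S₅`, dispatcher: the position `Pos t V Q S`

From `SF` and a stage `Q` with `Q⟨t⟩` Sylow in `C(V)` a Sylow 2-subgroup `S` of `C(t)` normalising `Q`.
-/

set_option autoImplicit false
set_option linter.unusedSectionVars false
set_option linter.style.haveILetI false

open Subgroup

namespace Cfsg.Agent.StdL2.SFive

open Cfsg.Agent.StdL2.FieldStart Cfsg.Agent.StdL2.Setup Cfsg.Agent.StdL2.Assemble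

variable {G : Type*} [Group G] [Finite G] {A V Q S : Subgroup G} {t d : G}

/-- `⟨d⟩` is transitive on `V#` -/
theorem Tri.trans (D : Tri t V Q d) (L : Loc t V) {v w : G} (hv : v ∈ V) (hv1 : v ≠ 1) (hw : w ∈ V)
    (hw1 : w ≠ 1) : ∃ i : ℕ, d ^ i * v * (d ^ i)⁻¹ = w := by
  have hb : d * v * d⁻¹ ≠ 1 := fun h => hv1 (by
    have : v = d⁻¹ * (d * v * d⁻¹) * d := by group
    rw [this, h]; group)
  have hab : v ≠ d * v * d⁻¹ := fun h => hv1 (D.fix v hv h.symm)
  have h2 : ∀ u ∈ V, d ^ 2 * u * (d ^ 2)⁻¹ = d * (d * u * d⁻¹) * d⁻¹ := by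
    intro u _
    rw [pow_two]; group
  have hcV := D.dV _ (D.dV v hv)
  have hc1 : d * (d * v * d⁻¹) * d⁻¹ ≠ 1 := fun h => hb (by
    have : d * v * d⁻¹ = d⁻¹ * (d * (d * v * d⁻¹) * d⁻¹) * d := by group
    rw [this, h]; group)
  have hcb : d * (d * v * d⁻¹) * d⁻¹ ≠ d * v * d⁻¹ := fun h => hb (D.fix _ (D.dV v hv) h)
  have hca : d * (d * v * d⁻¹) * d⁻¹ ≠ v := by
    intro h
    rw [← h2 v hv] at h
    exact hv1 (D.fix v hv (fix_of_pow D.d3 (by norm_num) h))
  have hc : d * (d * v * d⁻¹) * d⁻¹ = v * (d * v * d⁻¹) := by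
    rcases four_cases L.V4 L.vsq hv (D.dV v hv) hv1 hb hab hcV with h | h | h | h
    · exact absurd h hc1
    · exact absurd h hca
    · exact absurd h hcb
    · exact h
  rcases four_cases L.V4 L.vsq hv (D.dV v hv) hv1 hb hab hw with h | h | h | h
  · exact absurd h hw1
  · exact ⟨0, by rw [h, pow_zero]; group⟩
  · exact ⟨1, by rw [h, pow_one]⟩
  · exact ⟨2, by rw [h, h2 v hv, hc]⟩

/-- the product of the three conjugates -/
theorem Tri.third (D : Tri t V Q d) (L : Loc t V) {v : G} (hv : v ∈ V) (hv1 : v ≠ 1) :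
    d * (d * v * d⁻¹) * d⁻¹ = v * (d * v * d⁻¹) ∧ d * v * d⁻¹ ≠ 1 ∧ v ≠ d * v * d⁻¹ := by
  have hb : d * v * d⁻¹ ≠ 1 := fun h => hv1 (by
    have : v = d⁻¹ * (d * v * d⁻¹) * d := by group
    rw [this, h]; group)
  have hab : v ≠ d * v * d⁻¹ := fun h => hv1 (D.fix v hv h.symm)
  have h2 : ∀ u ∈ V, d ^ 2 * u * (d ^ 2)⁻¹ = d * (d * u * d⁻¹) * d⁻¹ := by
    intro u _
    rw [pow_two]; group
  have hcV := D.dV _ (D.dV v hv)
  have hc1 : d * (d * v * d⁻¹) * d⁻¹ ≠ 1 := fun h => hb (by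
    have : d * v * d⁻¹ = d⁻¹ * (d * (d * v * d⁻¹) * d⁻¹) * d := by group
    rw [this, h]; group)
  have hcb : d * (d * v * d⁻¹) * d⁻¹ ≠ d * v * d⁻¹ := fun h => hb (D.fix _ (D.dV v hv) h)
  have hca : d * (d * v * d⁻¹) * d⁻¹ ≠ v := by
    intro h
    rw [← h2 v hv] at h
    exact hv1 (D.fix v hv (fix_of_pow D.d3 (by norm_num) h))
  refine ⟨?_, hb, hab⟩
  rcases four_cases L.V4 L.vsq hv (D.dV v hv) hv1 hb hab hcV with h | h | h | h
  · exact absurd h hc1
  · exact absurd h hca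
  · exact absurd h hcb
  · exact h

/-- 2-subgroups of `C(t) ∩ N(V)` containing `V` have order at most 16. -/
theorem Loc.card_le_16 (L : Loc t V) {S : Subgroup G} (S2 : IsPGroup 2 S) (VS : V ≤ S)
    (St : ∀ s ∈ S, s * t = t * s) (SV : ∀ s ∈ S, ∀ v ∈ V, s * v * s⁻¹ ∈ V) : Nat.card S ≤ 16 := by
  haveI : Fact (Nat.Prime 2) := ⟨Nat.prime_two⟩
  have hel : ∀ s ∈ S, ∃ k, s ^ 2 ^ k = 1 := by
    intro s hs
    obtain ⟨k, hk⟩ := S2 ⟨s, hs⟩
    exact ⟨k, by simpa using congrArg Subtype.val hk⟩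
  -- a central element of `S` in `V`
  haveI : (V.subgroupOf S).Normal := by
    constructor
    intro n hn g
    rw [mem_subgroupOf] at hn ⊢
    exact SV g g.2 n hn
  have hne : V.subgroupOf S ≠ ⊥ := by
    intro h
    have h1 : Nat.card (V.subgroupOf S) = Nat.card V :=
      Nat.card_congr (subgroupOfEquivOfLe VS).toEquiv
    rw [h, card_bot, L.V4] at h1
    omega
  obtain ⟨z, hz, hzc, hz2⟩ := Involutions.NormalFour.exists_mem_center_of_normal S2 _ hne
  have hzV : (z : G) ∈ V := mem_subgroupOf.1 hz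
  have hz1 : (z : G) ≠ 1 := by
    intro h
    have : z = 1 := Subtype.ext h
    rw [this, orderOf_one] at hz2
    omega
  have hzS : ∀ s ∈ S, s * (z : G) = z * s := by
    intro s hs
    have := (mem_center_iff.1 hzc) ⟨s, hs⟩
    exact congrArg Subtype.val this
  have hcen : ∀ s ∈ S, s ∉ L.W → ∃ v ∈ V, s * v ≠ v * s := by
    intro s hs hsW
    by_contra hcon
    push Not at hcon
    exact hsW (L.cen s (St s hs) hcon (hel s hs))
  have h1 := card_le_two_mul S L.W (by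
    intro x hx y hy hxW hyW
    refine L.cen _ (St _ (S.mul_mem (S.inv_mem hx) hy)) ?_ (hel _ (S.mul_mem (S.inv_mem hx) hy))
    intro v hv
    obtain ⟨vx, hvx, hvx1, hxvx, hx2, hx3⟩ := move4 L.V4 L.vsq (hel x hx) (SV x hx) (hcen x hx hxW)
    obtain ⟨vy, hvy, hvy1, hyvy, hy2, hy3⟩ := move4 L.V4 L.vsq (hel y hy) (SV y hy) (hcen y hy hyW)
    have ex : (z : G) = vx := (hx2 z hzV (hzS x hx)).resolve_left hz1
    have ey : (z : G) = vy := (hy2 z hzV (hzS y hy)).resolve_left hz1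
    have key : ∀ u ∈ V, x * u * x⁻¹ = y * u * y⁻¹ := by
      intro u hu
      by_cases h : x * u = u * x
      · have h' : y * u = u * y := by
          rcases hx2 u hu h with rfl | rfl
          · simp
          · rw [← ex]; exact hzS y hy
        rw [h, h', mul_inv_cancel_right, mul_inv_cancel_right]
      · have h' : y * u ≠ u * y := by
          intro h'
          apply h
          rcases hy2 u hu h' with rfl | rfl
          · simp
          · rw [← ey]; exact hzS x hx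
        rw [hx3 u hu h, hy3 u hu h', ← ex, ← ey]
    have h2 : x⁻¹ * y * v * (x⁻¹ * y)⁻¹ = v := by
      calc x⁻¹ * y * v * (x⁻¹ * y)⁻¹ = x⁻¹ * (y * v * y⁻¹) * x := by group
        _ = x⁻¹ * (x * v * x⁻¹) * x := by rw [key v hv]
        _ = v := by group
    exact mul_inv_eq_iff_eq_mul.1 h2)
  have h2 : Nat.card (S ⊓ L.W : Subgroup G) ≤ Nat.card L.W := card_le_of_le inf_le_right
  rw [L.card_W] at h2
  omega

namespace SF

variable {S0 : Subgroup G}

theorem tV (H : SF A t V S0) : V ≤ centralizer ({t} : Set G) := fun v hv =>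
  mem_centralizer_singleton_iff.2 (H.loc.vt v hv)

theorem VA (H : SF A t V S0) : V ≤ A := H.AV.2.1

/-- **The position.** -/
theorem pos (H : SF A t V S0) (St : Stg t V Q)
    (hs : IsSyl (centralizer (V : Set G)) (St.P H.loc)) : ∃ S, Pos t V Q S := by
  haveI : Fact (Nat.Prime 2) := ⟨Nat.prime_two⟩
  have L := H.loc
  obtain ⟨d, D⟩ := St.exists_tri L H.thr
  have hS0t : ∀ s ∈ S0, s * t = t * s := fun s hs => mem_centralizer_singleton_iff.1 (H.Syl.2.1 hs)
  have hcard0 : Nat.card S0 ≤ 16 := L.card_le_16 H.Syl.1 H.VS hS0t H.SV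
  -- the moving element
  obtain ⟨s, hs0, vs, hvs, hmv⟩ := H.out
  obtain ⟨m, hm1, hm2, hm3⟩ := St.cov s (hS0t s hs0) (H.SV s hs0)
  have hn : orderOf m ≠ 0 := (orderOf_pos m).ne'
  obtain ⟨a, r, hr, har⟩ := Nat.exists_eq_pow_mul_and_not_dvd hn 2 (by norm_num)
  have hs2 : ∃ k, s ^ 2 ^ k = 1 := by
    obtain ⟨k, hk⟩ := H.Syl.1 ⟨s, hs0⟩
    exact ⟨k, by simpa using congrArg Subtype.val hk⟩
  have hss := move4_two L.V4 L.vsq hs2 (H.SV s hs0)
  have hmt : m ^ r * t = t * m ^ r := (Commute.pow_left (show Commute m t from hm1) r)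
  have hmV : ∀ v ∈ V, m ^ r * v * (m ^ r)⁻¹ = s * v * s⁻¹ := by
    intro v hv
    rw [pow_conj_eq (H.SV s hs0) hm2 r v hv]
    obtain ⟨k, rfl⟩ : Odd r := by
      rw [← Nat.not_even_iff_odd, even_iff_two_dvd]; exact hr
    have h1 : ∀ j : ℕ, (s * s) ^ j * v * ((s * s) ^ j)⁻¹ = v := by
      intro j
      have : Commute ((s * s) ^ j) v := Commute.pow_left (show Commute (s * s) v from hss v hv) j
      exact mul_inv_eq_iff_eq_mul.2 this
    have h2 : s ^ (2 * k + 1) = s * (s * s) ^ k := by rw [pow_succ', pow_mul, pow_two]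
    rw [h2]
    calc s * (s * s) ^ k * v * (s * (s * s) ^ k)⁻¹ = s * ((s * s) ^ k * v * ((s * s) ^ k)⁻¹) * s⁻¹ := by
          group
      _ = s * v * s⁻¹ := by rw [h1]
  have hmQ : ∀ q ∈ Q, m ^ r * q * (m ^ r)⁻¹ ∈ Q := pow_conj_mem hm3 r
  have hm2k : (m ^ r) ^ 2 ^ a = 1 := by
    rw [← pow_mul, mul_comm, ← har]
    exact pow_orderOf_eq_one m
  set x := m ^ r with hx
  -- the group
  have hxN : x ∈ normalizer (L.W : Set G) := by
    apply mem_normalizer_of
    rintro w (hw | hw)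
    · exact Or.inl (by rw [hmV w hw]; exact H.SV s hs0 w hw)
    · right
      have h1 := hmV _ hw
      have h2 : x * (t * w) * x⁻¹ = t * (x * w * x⁻¹) := by
        calc x * (t * w) * x⁻¹ = (x * t) * w * x⁻¹ := by group
          _ = t * (x * w * x⁻¹) := by rw [hmt]; group
      rw [← h2, h1]
      exact H.SV s hs0 _ hw
  have hW2 : IsPGroup 2 L.W := IsPGroup.of_card (n := 3) (by rw [L.card_W]; norm_num)
  have hx2 : IsPGroup 2 (zpowers x) := by
    intro y
    obtain ⟨k, hk⟩ := mem_zpowers_iff.1 y.2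
    refine ⟨a, Subtype.ext ?_⟩
    show (y : G) ^ (2 ^ a) = 1
    rw [← hk, ← zpow_natCast, ← zpow_mul, mul_comm, zpow_mul, zpow_natCast, hm2k, one_zpow]
  set S := L.W ⊔ zpowers x with hS
  have hS2 : IsPGroup 2 S := isPGroup_sup hW2 hx2 ((zpowers_le).2 hxN)
  have hxS : x ∈ S := (le_sup_right : zpowers x ≤ S) (mem_zpowers x)
  have hWS : L.W ≤ S := le_sup_left
  have hSt : S ≤ centralizer ({t} : Set G) := by
    refine sup_le ?_ ((zpowers_le).2 (mem_centralizer_singleton_iff.2 hmt))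
    intro w hw
    exact mem_centralizer_singleton_iff.2 (L.W_t hw)
  have hxmv : x * vs ≠ vs * x := by
    intro h
    apply hmv
    have h1 := hmV vs hvs
    rw [h, mul_inv_cancel_right] at h1
    exact (mul_inv_eq_iff_eq_mul.1 h1.symm)
  have hxW : x ∉ L.W := fun h => hxmv (L.W_V h hvs)
  have hScard : 16 ≤ Nat.card S := by
    have h1 : Nat.card L.W ∣ Nat.card S := card_dvd_of_le hWS
    rw [L.card_W] at h1
    have h3 : Nat.card S ≠ 8 := by
      intro h3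
      have h4 : L.W = S := Subgroup.eq_of_le_of_card_ge hWS (by rw [h3, L.card_W])
      exact hxW (h4 ▸ hxS)
    have h5 : 0 < Nat.card S := Nat.card_pos
    obtain ⟨k, hk⟩ := h1
    omega
  have hSyl : IsSyl (centralizer ({t} : Set G)) S := by
    refine ⟨hS2, hSt, fun P hP hSP hPt => ?_⟩
    have h1 := H.Syl.card_le hP hPt
    exact (Subgroup.eq_of_le_of_card_ge hSP (by omega)).ge
  have hnorm : ∀ {K : Subgroup G}, (∀ w ∈ L.W, ∀ k ∈ K, w * k * w⁻¹ ∈ K) →
      (∀ k ∈ K, x * k * x⁻¹ ∈ K) → ∀ y ∈ S, ∀ k ∈ K, y * k * y⁻¹ ∈ K := by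
    intro K h1 h2 y hy k hk
    have h3 : S ≤ normalizer (K : Set G) :=
      sup_le (fun w hw => mem_normalizer_of (h1 w hw)) ((zpowers_le).2 (mem_normalizer_of h2))
    exact (mem_normalizer_iff.1 (h3 hy) k).1 hk
  refine ⟨S, ⟨L, St.VQ, St.Q2, St.QV, St.tQ, hSyl, hWS L.tW, L.VW.trans hWS, ?_, ?_,
    ⟨x, hxS, vs, hvs, hxmv⟩, ?_, ?_, ?_⟩⟩
  · refine hnorm (fun w hw v hv => ?_) (fun v hv => ?_)
    · rw [L.W_V hw hv, mul_inv_cancel_right]; exact hv
    · rw [hmV v hv]; exact H.SV s hs0 v hv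
  · refine hnorm (fun w hw q hq => ?_) hmQ
    rcases hw with hw | hw
    · exact Q.mul_mem (Q.mul_mem (St.VQ hw) hq) (Q.inv_mem (St.VQ hw))
    · have h1 := St.tn _ (Q.mul_mem (Q.mul_mem (St.VQ hw) hq) (Q.inv_mem (St.VQ hw)))
      have e : t * (t * w * q * (t * w)⁻¹) * t⁻¹ = (t * t) * (w * q * w⁻¹) * (t * t)⁻¹ := by group
      rw [e, L.t2] at h1
      simpa using h1
  · intro v hv hv1 w hw hw1
    obtain ⟨i, hi⟩ := D.trans L hv hv1 hw hw1
    exact ⟨d ^ i, Commute.pow_left (show Commute d t from D.dt) i, hi, pow_conj_mem D.dV i⟩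
  · intro c hc v hv hcv
    have h1 : S ⊓ A ≤ V := H.AV.2.2 (S ⊓ A) (hS2.to_le inf_le_left)
      (le_inf (L.VW.trans hWS) H.VA) inf_le_right
    exact h1 (mem_inf.2 ⟨hcv, H.An c hc v (H.VA hv)⟩)
  · intro g hg hgP
    have h1 : g * t * g⁻¹ ∈ cls (centralizer (V : Set G)) t :=
      ⟨g, mem_centralizer_iff.2 (fun v hv => (hg v hv).symm), rfl⟩
    obtain ⟨k, hk, hkt⟩ := St.class_one L H.thr hs h1 hgP
    rcases hk with hk | hk
    · exact ⟨k, hk, hkt.symm⟩
    · refine ⟨t * (t * k) * t⁻¹, St.tn _ hk, ?_⟩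
      rw [← hkt]
      have e : t * (t * k) * t⁻¹ * t * (t * (t * k) * t⁻¹)⁻¹ =
          (t * t) * (k * t * k⁻¹) * (t * t)⁻¹ := by group
      rw [e, L.t2]; simp

end SF

end Cfsg.Agent.StdL2.SFive
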