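import Cfsg.Agent.StdL2.SFive.DispPos

/-!
# S1773, `q = 4`, `S₅`, dispatcher: the group `Q2 = {q ∈ Q | [q, P] ≤ V}`

`Q2` is abelian of order 16 if `Q ≠ V`.
-/

set_option autoImplicit false
set_option linter.unusedSectionVars false
set_option linter.style.haveILetI false

open Subgroup

namespace Cfsg.Agent.StdL2.SFive

open Cfsg.Agent.StdL2.FieldStart Cfsg.Agent.StdL2.Setup Cfsg.Agent.StdL2.Assemble

variable {G : Type*} [Group G] [Finite G] {A V Q S : Subgroup G} {t d : G}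

namespace Stg

/-- `{q ∈ Q | [q, P] ≤ V}` -/
def two (L : Loc t V) (St : Stg t V Q) : Subgroup G where
  carrier := {q | q ∈ Q ∧ ∀ p ∈ St.P L, q * p * q⁻¹ * p⁻¹ ∈ V}
  one_mem' := ⟨Q.one_mem, fun p _ => by
    have : (1 : G) * p * 1⁻¹ * p⁻¹ = 1 := by group
    rw [this]; exact V.one_mem⟩
  mul_mem' := by
    rintro a b ⟨ha, ha'⟩ ⟨hb, hb'⟩
    refine ⟨Q.mul_mem ha hb, fun p hp => ?_⟩
    have h1 := hb' p hp
    have h2 := St.QV a ha _ h1
    have e : a * b * p * (a * b)⁻¹ * p⁻¹ = (a * (b * p * b⁻¹ * p⁻¹)) * (p * a⁻¹ * p⁻¹) := by group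
    rw [e, h2]
    have e2 : b * p * b⁻¹ * p⁻¹ * a * (p * a⁻¹ * p⁻¹) = (b * p * b⁻¹ * p⁻¹) * (a * p * a⁻¹ * p⁻¹) := by
      group
    rw [e2]
    exact V.mul_mem h1 (ha' p hp)
  inv_mem' := by
    rintro a ⟨ha, ha'⟩
    refine ⟨Q.inv_mem ha, fun p hp => ?_⟩
    have h1 := ha' p hp
    have h2 := St.QV _ (Q.inv_mem ha) _ (V.inv_mem h1)
    have e : a⁻¹ * p * a⁻¹⁻¹ * p⁻¹ = a⁻¹ * (a * p * a⁻¹ * p⁻¹)⁻¹ * a := by group
    rw [e, h2, inv_mul_cancel_right]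
    exact V.inv_mem h1

theorem mem_two (L : Loc t V) (St : Stg t V Q) {q : G} :
    q ∈ St.two L ↔ q ∈ Q ∧ ∀ p ∈ St.P L, q * p * q⁻¹ * p⁻¹ ∈ V := Iff.rfl

theorem V_two (L : Loc t V) (St : Stg t V Q) : V ≤ St.two L := by
  intro v hv
  refine ⟨St.VQ hv, fun p hp => ?_⟩
  have h1 := St.PV L p hp v hv
  have e : v * p * v⁻¹ * p⁻¹ = (v * p) * (p * v)⁻¹ := by group
  rw [e, h1, mul_inv_cancel]; exact V.one_mem

/-- `q ↦ [q, t]` is a homomorphism on `Q2`. -/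
theorem comm_mul (L : Loc t V) (St : Stg t V Q) {a b : G} (ha : a ∈ St.two L) (hb : b ∈ St.two L) :
    a * b * t * (a * b)⁻¹ * t⁻¹ = (a * t * a⁻¹ * t⁻¹) * (b * t * b⁻¹ * t⁻¹) := by
  have h1 := hb.2 t (St.tP L)
  have h2 := St.QV a ha.1 _ h1
  have h3 := L.vcomm (ha.2 t (St.tP L)) h1
  rw [h3]
  have e : a * b * t * (a * b)⁻¹ * t⁻¹ = (a * (b * t * b⁻¹ * t⁻¹)) * (t * a⁻¹ * t⁻¹) := by group
  rw [e, h2]; group

/-- the kernel -/
theorem mem_V_of (L : Loc t V) (St : Stg t V Q) {a : G} (ha : a ∈ Q)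
    (h : a * t * a⁻¹ * t⁻¹ = 1) : a ∈ V := by
  refine St.mem_V L ha ?_
  have : a * t = (a * t * a⁻¹ * t⁻¹) * (t * a) := by group
  rw [this, h, one_mul]

/-- the homomorphism -/
def hom (L : Loc t V) (St : Stg t V Q) : St.two L →* V where
  toFun q := ⟨(q : G) * t * (q : G)⁻¹ * t⁻¹, q.2.2 t (St.tP L)⟩
  map_one' := Subtype.ext (by show (1 : G) * t * (1 : G)⁻¹ * t⁻¹ = 1; group)
  map_mul' a b := Subtype.ext (St.comm_mul L a.2 b.2)

theorem conj_two (L : Loc t V) (St : Stg t V Q) (D : Tri t V Q d) :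
    ∀ q ∈ St.two L, d * q * d⁻¹ ∈ St.two L := by
  rintro q ⟨hq, hq'⟩
  refine ⟨D.dQ q hq, fun p hp => ?_⟩
  have h1 : d⁻¹ * p * d ∈ St.P L := conj_surj (D.dP L St) p hp
  have h2 := D.dV _ (hq' _ h1)
  have e : d * (q * (d⁻¹ * p * d) * q⁻¹ * (d⁻¹ * p * d)⁻¹) * d⁻¹ =
      d * q * d⁻¹ * p * (d * q * d⁻¹)⁻¹ * p⁻¹ := by group
  rwa [e] at h2

/-- equivariance -/
theorem comm_conj (hdt : d * t = t * d) (q : G) :
    d * q * d⁻¹ * t * (d * q * d⁻¹)⁻¹ * t⁻¹ = d * (q * t * q⁻¹ * t⁻¹) * d⁻¹ := by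
  have h1 : d⁻¹ * t * d = t := by rw [mul_assoc, ← hdt]; group
  have h2 : d⁻¹ * t⁻¹ * d = t⁻¹ := by
    have : d⁻¹ * t⁻¹ * d = (d⁻¹ * t * d)⁻¹ := by group
    rw [this, h1]
  calc d * q * d⁻¹ * t * (d * q * d⁻¹)⁻¹ * t⁻¹
      = d * q * (d⁻¹ * t * d) * q⁻¹ * (d⁻¹ * t⁻¹ * d) * d⁻¹ := by group
    _ = d * (q * t * q⁻¹ * t⁻¹) * d⁻¹ := by rw [h1, h2]; group

/-- there is an element of `Q2` outside `V`. -/
theorem exists_two (L : Loc t V) (St : Stg t V Q) (hne : Q ≠ V) : ∃ q ∈ St.two L, q ∉ V := by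
  haveI : Fact (Nat.Prime 2) := ⟨Nat.prime_two⟩
  set P := St.P L with hP
  have hVP : V ≤ P := St.VQ.trans (St.QP L)
  haveI hVn : (V.subgroupOf P).Normal := by
    constructor
    intro n hn g
    rw [mem_subgroupOf] at hn ⊢
    show (g : G) * n * (g : G)⁻¹ ∈ V
    rw [St.PV L g g.2 _ hn, mul_inv_cancel_right]; exact hn
  set V' := V.subgroupOf P with hV'
  have hQn : (Q.subgroupOf P).Normal := by
    constructor
    intro n hn g
    rw [mem_subgroupOf] at hn ⊢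
    show (g : G) * n * (g : G)⁻¹ ∈ Q
    rcases g.2 with hg | hg
    · exact Q.mul_mem (Q.mul_mem hg hn) (Q.inv_mem hg)
    · have h1 := St.tn _ (Q.mul_mem (Q.mul_mem hg hn) (Q.inv_mem hg))
      have e : t * (t * (g : G) * n * (t * (g : G))⁻¹) * t⁻¹ =
          (t * t) * ((g : G) * n * (g : G)⁻¹) * (t * t)⁻¹ := by group
      rw [e, L.t2] at h1
      simpa using h1
  haveI : ((Q.subgroupOf P).map (QuotientGroup.mk' V')).Normal :=
    hQn.map _ (QuotientGroup.mk'_surjective V')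
  have hP2 : IsPGroup 2 (↥P ⧸ V') := (St.P2 L).to_quotient V'
  have hb : (Q.subgroupOf P).map (QuotientGroup.mk' V') ≠ ⊥ := by
    intro h
    apply hne
    refine le_antisymm ?_ St.VQ
    intro q hq
    have h1 : (QuotientGroup.mk' V') ⟨q, St.QP L hq⟩ ∈ (Q.subgroupOf P).map (QuotientGroup.mk' V') :=
      ⟨_, mem_subgroupOf.2 hq, rfl⟩
    rw [h, mem_bot] at h1
    have h2 := (QuotientGroup.eq_one_iff (N := V') _).1 h1
    exact mem_subgroupOf.1 h2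
  obtain ⟨z, hz, hzc, hz2⟩ := Involutions.NormalFour.exists_mem_center_of_normal hP2 _ hb
  obtain ⟨q, hq, rfl⟩ := hz
  rw [SetLike.mem_coe, mem_subgroupOf] at hq
  refine ⟨q, ⟨hq, fun p hp => ?_⟩, ?_⟩
  · have h1 := (mem_center_iff.1 hzc) (QuotientGroup.mk' V' ⟨p, hp⟩)
    have h2 : QuotientGroup.mk' V' (q * ⟨p, hp⟩ * q⁻¹ * ⟨p, hp⟩⁻¹) = 1 := by
      rw [map_mul, map_mul, map_mul, map_inv, map_inv, ← h1]; group
    have h3 := (QuotientGroup.eq_one_iff (N := V') _).1 h2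
    exact mem_subgroupOf.1 h3
  · intro hqV
    have h1 : QuotientGroup.mk' V' q = 1 :=
      (QuotientGroup.eq_one_iff (N := V') _).2 (mem_subgroupOf.2 hqV)
    rw [h1, orderOf_one] at hz2
    omega

/-- the value of `[q, t]` for `q ∈ Q2` -/
theorem hom_cases (L : Loc t V) (St : Stg t V Q) {a b q : G} (ha : a ∈ St.two L)
    (hb : b ∈ St.two L) (hq : q ∈ St.two L) (ha1 : a * t * a⁻¹ * t⁻¹ ≠ 1)
    (hb1 : b * t * b⁻¹ * t⁻¹ ≠ 1) (hab : a * t * a⁻¹ * t⁻¹ ≠ b * t * b⁻¹ * t⁻¹) :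
    q ∈ V ∨ a⁻¹ * q ∈ V ∨ b⁻¹ * q ∈ V ∨ (a * b)⁻¹ * q ∈ V := by
  have tP := St.tP L
  have hinv : ∀ {x y : G}, x ∈ St.two L → y ∈ St.two L →
      y * t * y⁻¹ * t⁻¹ = x * t * x⁻¹ * t⁻¹ → x⁻¹ * y ∈ V := by
    intro x y hx hy h
    have h1 := St.comm_mul L hx ((St.two L).mul_mem ((St.two L).inv_mem hx) hy)
    rw [mul_inv_cancel_left] at h1
    rw [h, left_eq_mul] at h1
    exact St.mem_V_of L (Q.mul_mem (Q.inv_mem hx.1) hy.1) h1
  rcases four_cases L.V4 L.vsq (ha.2 t tP) (hb.2 t tP) ha1 hb1 hab (hq.2 t tP) with h | h | h | h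
  · exact Or.inl (St.mem_V_of L hq.1 h)
  · exact Or.inr (Or.inl (hinv ha hq h))
  · exact Or.inr (Or.inr (Or.inl (hinv hb hq h)))
  · refine Or.inr (Or.inr (Or.inr (hinv ((St.two L).mul_mem ha hb) hq ?_)))
    rw [St.comm_mul L ha hb, h]

theorem card_two (L : Loc t V) (St : Stg t V Q) (D : Tri t V Q d) (hne : Q ≠ V) :
    Nat.card (St.two L) = 16 := by
  have tP := St.tP L
  obtain ⟨a, ha, haV⟩ := St.exists_two L hne
  have ha1 : a * t * a⁻¹ * t⁻¹ ≠ 1 := fun h => haV (St.mem_V_of L ha.1 h)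
  have hsurj : Function.Surjective (St.hom L) := by
    rintro ⟨w, hw⟩
    by_cases hw1 : w = 1
    · exact ⟨1, by rw [map_one]; exact Subtype.ext hw1.symm⟩
    · obtain ⟨i, hi⟩ := D.trans L (ha.2 t tP) ha1 hw hw1
      refine ⟨⟨d ^ i * a * (d ^ i)⁻¹, pow_conj_mem (St.conj_two L D) i a ha⟩, Subtype.ext ?_⟩
      show d ^ i * a * (d ^ i)⁻¹ * t * (d ^ i * a * (d ^ i)⁻¹)⁻¹ * t⁻¹ = w
      rw [comm_conj (Commute.pow_left (show Commute d t from D.dt) i) a, hi]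
  have hker : (St.hom L).ker = V.subgroupOf (St.two L) := by
    ext q
    rw [MonoidHom.mem_ker, mem_subgroupOf]
    constructor
    · intro h
      exact St.mem_V_of L q.2.1 (congrArg Subtype.val h)
    · intro h
      refine Subtype.ext ?_
      show (q : G) * t * (q : G)⁻¹ * t⁻¹ = 1
      rw [L.vt _ h]; group
  have h1 := (St.hom L).ker.card_mul_index
  rw [index_ker, hker, Nat.card_congr (subgroupOfEquivOfLe (St.V_two L)).toEquiv,
    MonoidHom.range_eq_top.2 hsurj, card_top, L.V4] at h1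
  omega

/-- squares of `Q2` are in `V`. -/
theorem sq_two (L : Loc t V) (St : Stg t V Q) {q : G} (hq : q ∈ St.two L) : q * q ∈ V := by
  refine St.mem_V_of L (Q.mul_mem hq.1 hq.1) ?_
  rw [St.comm_mul L hq hq, L.vsq _ (hq.2 t (St.tP L))]

theorem abelian_two (L : Loc t V) (St : Stg t V Q) (D : Tri t V Q d) (hne : Q ≠ V) :
    ∀ x ∈ St.two L, ∀ y ∈ St.two L, x * y = y * x := by
  have tP := St.tP L
  obtain ⟨a, ha, haV⟩ := St.exists_two L hne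
  have ha1 : a * t * a⁻¹ * t⁻¹ ≠ 1 := fun h => haV (St.mem_V_of L ha.1 h)
  obtain ⟨h3, h4, h5⟩ := D.third L (ha.2 t tP) ha1
  set b := d * a * d⁻¹ with hb
  have hbm : b ∈ St.two L := St.conj_two L D a ha
  have hfb : b * t * b⁻¹ * t⁻¹ = d * (a * t * a⁻¹ * t⁻¹) * d⁻¹ := comm_conj D.dt a
  set b' := d * b * d⁻¹ with hb'
  have hbm' : b' ∈ St.two L := St.conj_two L D b hbm
  have hfb' : b' * t * b'⁻¹ * t⁻¹ = d * (b * t * b⁻¹ * t⁻¹) * d⁻¹ := comm_conj D.dt b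
  have hab : (a * b)⁻¹ * b' ∈ V := by
    refine St.mem_V_of L (Q.mul_mem (Q.inv_mem (Q.mul_mem ha.1 hbm.1)) hbm'.1) ?_
    have h1 := St.comm_mul L ((St.two L).mul_mem ha hbm)
      ((St.two L).mul_mem ((St.two L).inv_mem ((St.two L).mul_mem ha hbm)) hbm')
    rw [mul_inv_cancel_left, St.comm_mul L ha hbm, hfb', hfb, h3, left_eq_mul] at h1
    exact h1
  -- `c0 = [a, b]`
  have hc0 : a * b * a⁻¹ * b⁻¹ ∈ V := ha.2 b (St.QP L hbm.1)
  have hc1 : d * (a * b * a⁻¹ * b⁻¹) * d⁻¹ = b * b' * b⁻¹ * b'⁻¹ := by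
    rw [hb', hb]; group
  set v := (a * b)⁻¹ * b' with hv
  have hb'v : b' = a * b * v := by rw [hv]; group
  have hvb : v * b⁻¹ = b⁻¹ * v := (St.QV _ (Q.inv_mem hbm.1) _ hab).symm
  have hc2 : b * b' * b⁻¹ * b'⁻¹ = (a * b * a⁻¹ * b⁻¹)⁻¹ := by
    rw [hb'v]
    calc b * (a * b * v) * b⁻¹ * (a * b * v)⁻¹ = b * a * b * (v * b⁻¹) * v⁻¹ * b⁻¹ * a⁻¹ := by group
      _ = (a * b * a⁻¹ * b⁻¹)⁻¹ := by rw [hvb]; group
  have hc3 : a * b * a⁻¹ * b⁻¹ = 1 := by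
    apply D.fix _ hc0
    rw [hc1, hc2, L.vinv hc0]
  have hcomm : Commute a b := by
    show a * b = b * a
    calc a * b = (a * b * a⁻¹ * b⁻¹) * (b * a) := by group
      _ = b * a := by rw [hc3, one_mul]
  -- every element is in `V ∪ aV ∪ bV ∪ abV`
  have hcase : ∀ q ∈ St.two L, q ∈ V ∨ a⁻¹ * q ∈ V ∨ b⁻¹ * q ∈ V ∨ (a * b)⁻¹ * q ∈ V := by
    intro q hq
    refine St.hom_cases L ha hbm hq ha1 ?_ ?_
    · rw [hfb]; exact h4
    · rw [hfb]; exact h5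
  have hVc : ∀ q ∈ St.two L, ∀ v ∈ V, Commute q v := fun q hq v hv => St.QV q hq.1 v hv
  have hgen : ∀ z : G, Commute z a → Commute z b → (∀ v ∈ V, Commute z v) →
      ∀ q ∈ St.two L, Commute z q := by
    intro z hza hzb hzv q hq
    rcases hcase q hq with h | h | h | h
    · exact hzv q h
    · have : q = a * (a⁻¹ * q) := by group
      rw [this]; exact hza.mul_right (hzv _ h)
    · have : q = b * (b⁻¹ * q) := by group
      rw [this]; exact hzb.mul_right (hzv _ h)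
    · have : q = a * b * ((a * b)⁻¹ * q) := by group
      rw [this]; exact (hza.mul_right hzb).mul_right (hzv _ h)
  have h6 := hgen a (Commute.refl a) hcomm (hVc a ha)
  have h7 := hgen b hcomm.symm (Commute.refl b) (hVc b hbm)
  intro x hx y hy
  exact hgen x (h6 x hx).symm (h7 x hx).symm (hVc x hx) y hy

end Stg

end Cfsg.Agent.StdL2.SFive
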