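import Cfsg.Agent.StdL2.SFive.LeafTools

/-!
# S1773, `q = 4`, `N(A)/C(A) = S₅`: the leaf `Q = E₁₆`

`Leaf t x v Q S`: `S` is a Sylow 2-subgroup of `C(t)`, of order 16, nonabelian, normalising the
elementary abelian group `Q` of order 16; `t`, `x` commuting involutions of `S`, acting freely on `Q`,
as does `tx`.
-/

set_option autoImplicit false
set_option linter.unusedSectionVars false

namespace Cfsg.Agent.StdL2.SFive.Leaf16

open Subgroup Cfsg.Agent.StdL2.FieldStart Cfsg.Agent.StdL2.SFive.LeafTools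

variable {G : Type*} [Group G] [Finite G]

structure Leaf (t x v : G) (Q S : Subgroup G) : Prop where
  t2 : t * t = 1
  x2 : x * x = 1
  tx : t * x = x * t
  qsq : ∀ q ∈ Q, q * q = 1
  cardQ : Nat.card Q = 16
  S2 : IsPGroup 2 S
  St : ∀ s ∈ S, s * t = t * s
  Smax : ∀ P : Subgroup G, IsPGroup 2 P → S ≤ P → (∀ s ∈ P, s * t = t * s) → P ≤ S
  tS : t ∈ S
  xS : x ∈ S
  cardS : Nat.card S = 16
  nonab : ¬ ∀ a ∈ S, ∀ b ∈ S, a * b = b * a
  SQ : ∀ s ∈ S, ∀ q ∈ Q, s * q * s⁻¹ ∈ Q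
  cov : ∀ s ∈ S, s ∈ Q ∨ t * s ∈ Q ∨ x * s ∈ Q ∨ t * x * s ∈ Q
  ct : Nat.card (cq Q t) = 4
  cx : Nat.card (cq Q x) = 4
  ctx : Nat.card (cq Q (t * x)) = 4
  vQ : v ∈ Q
  v1 : v ≠ 1
  vt : v * t = t * v
  vx : v * x = x * v
  cv : ∀ q ∈ Q, q * t = t * q → q * x = x * q → q = 1 ∨ q = v
  outer : ∀ c, c * t = t * c → c * x * c⁻¹ ∉ Q ∧ t * (c * x * c⁻¹) ∉ Q

namespace Leaf

variable {t x v : G} {Q S : Subgroup G}

theorem ti (H : Leaf t x v Q S) : t⁻¹ = t := inv_eq_of_mul_eq_one_left H.t2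
theorem xi (H : Leaf t x v Q S) : x⁻¹ = x := inv_eq_of_mul_eq_one_left H.x2
theorem txtx (H : Leaf t x v Q S) : t * x * (t * x) = 1 := by
  calc t * x * (t * x) = t * (x * t) * x := by group
    _ = t * (t * x) * x := by rw [H.tx]
    _ = (t * t) * (x * x) := by group
    _ = 1 := by rw [H.t2, H.x2, mul_one]
theorem txi (H : Leaf t x v Q S) : (t * x)⁻¹ = t * x := inv_eq_of_mul_eq_one_left H.txtx

theorem tN (H : Leaf t x v Q S) : ∀ q ∈ Q, t * q * t⁻¹ ∈ Q := H.SQ t H.tS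
theorem xN (H : Leaf t x v Q S) : ∀ q ∈ Q, x * q * x⁻¹ ∈ Q := H.SQ x H.xS
theorem txN (H : Leaf t x v Q S) : ∀ q ∈ Q, (t * x) * q * (t * x)⁻¹ ∈ Q :=
  H.SQ _ (S.mul_mem H.tS H.xS)

theorem not_mem_of_card (H : Leaf t x v Q S) {u : G} (hu : Nat.card (cq Q u) = 4) : u ∉ Q := by
  intro huQ
  have h1 : cq Q u = Q := by
    ext q
    rw [mem_cq]
    exact ⟨fun h => h.1, fun h => ⟨h, q_comm H.qsq h huQ⟩⟩
  rw [h1, H.cardQ] at hu
  omega

theorem tQ (H : Leaf t x v Q S) : t ∉ Q := H.not_mem_of_card H.ct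
theorem xQ (H : Leaf t x v Q S) : x ∉ Q := H.not_mem_of_card H.cx
theorem txQ (H : Leaf t x v Q S) : t * x ∉ Q := H.not_mem_of_card H.ctx

/-- the symmetry `x ↦ tx` -/
theorem swap (H : Leaf t x v Q S) : Leaf t (t * x) v Q S where
  t2 := H.t2
  x2 := H.txtx
  tx := by
    calc t * (t * x) = t * (x * t) := by rw [H.tx]
      _ = t * x * t := by group
  qsq := H.qsq
  cardQ := H.cardQ
  S2 := H.S2
  St := H.St
  Smax := H.Smax
  tS := H.tS
  xS := S.mul_mem H.tS H.xS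
  cardS := H.cardS
  nonab := H.nonab
  SQ := H.SQ
  cov := by
    intro s hs
    have h1 : t * (t * x) * s = x * s := by rw [← mul_assoc, H.t2, one_mul]
    rw [h1]
    rcases H.cov s hs with h | h | h | h
    · exact Or.inl h
    · exact Or.inr (Or.inl h)
    · exact Or.inr (Or.inr (Or.inr h))
    · exact Or.inr (Or.inr (Or.inl h))
  ct := H.ct
  cx := H.ctx
  ctx := by
    have h1 : t * (t * x) = x := by rw [← mul_assoc, H.t2, one_mul]
    rw [h1]; exact H.cx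
  vQ := H.vQ
  v1 := H.v1
  vt := H.vt
  vx := by
    calc v * (t * x) = (v * t) * x := by group
      _ = t * (v * x) := by rw [H.vt]; group
      _ = t * x * v := by rw [H.vx]; group
  cv := by
    intro q hq hqt hqx
    refine H.cv q hq hqt ?_
    have h1 : x = t * (t * x) := by rw [← mul_assoc, H.t2, one_mul]
    calc q * x = (q * t) * (t * x) := by conv_lhs => rw [h1]; rw [← mul_assoc]
      _ = t * (q * (t * x)) := by rw [hqt]; group
      _ = t * (t * x) * q := by rw [hqx]; group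
      _ = x * q := by rw [← h1]
  outer := by
    intro c hc
    have h1 := H.outer c hc
    have h2 : c * (t * x) * c⁻¹ = t * (c * x * c⁻¹) := by
      calc c * (t * x) * c⁻¹ = (c * t) * x * c⁻¹ := by group
        _ = t * (c * x * c⁻¹) := by rw [hc]; group
    rw [h2, ← mul_assoc t t, H.t2, one_mul]
    exact ⟨h1.2, h1.1⟩

theorem isSyl (H : Leaf t x v Q S) : IsSyl (centralizer ({t} : Set G)) S := by
  refine ⟨H.S2, ?_, ?_⟩
  · intro s hs
    rw [mem_centralizer_singleton_iff]; exact H.St s hs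
  · intro P hP hSP hPt
    refine H.Smax P hP hSP (fun s hs => ?_)
    have := hPt hs
    rw [mem_centralizer_singleton_iff] at this
    exact this

/-- a 2-subgroup centralising a conjugate of `t` has order at most 16. -/
theorem card_le (H : Leaf t x v Q S) {B : Subgroup G} (hB : IsPGroup 2 B) {g : G}
    (hg : ∀ b ∈ B, b * (g * t * g⁻¹) = g * t * g⁻¹ * b) : Nat.card B ≤ 16 := by
  have h1 : IsPGroup 2 (B.map (MulAut.conj g⁻¹).toMonoidHom) := hB.map _
  have h2 : B.map (MulAut.conj g⁻¹).toMonoidHom ≤ centralizer ({t} : Set G) := by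
    rintro _ ⟨b, hb, rfl⟩
    rw [mem_centralizer_singleton_iff]
    show (g⁻¹ * b * g⁻¹⁻¹) * t = t * (g⁻¹ * b * g⁻¹⁻¹)
    have h3 := hg b hb
    calc (g⁻¹ * b * g⁻¹⁻¹) * t = g⁻¹ * (b * (g * t * g⁻¹)) * g := by group
      _ = t * (g⁻¹ * b * g⁻¹⁻¹) := by rw [h3]; group
  have h4 := H.isSyl.card_le h1 h2
  rw [H.cardS] at h4
  rwa [card_map_of_injective (MulAut.conj g⁻¹).injective] at h4

/-- an abelian 2-subgroup centralising a conjugate of `t` has order less than 16. -/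
theorem noab (H : Leaf t x v Q S) {B : Subgroup G} (hB : IsPGroup 2 B)
    (hab : ∀ a ∈ B, ∀ b ∈ B, a * b = b * a) {g : G}
    (hg : ∀ b ∈ B, b * (g * t * g⁻¹) = g * t * g⁻¹ * b) : Nat.card B < 16 := by
  by_contra hcon
  have h16 : Nat.card B = 16 := le_antisymm (H.card_le hB hg) (by omega)
  have h1 : IsPGroup 2 (B.map (MulAut.conj g⁻¹).toMonoidHom) := hB.map _
  have h2 : B.map (MulAut.conj g⁻¹).toMonoidHom ≤ centralizer ({t} : Set G) := by
    rintro _ ⟨b, hb, rfl⟩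
    rw [mem_centralizer_singleton_iff]
    show (g⁻¹ * b * g⁻¹⁻¹) * t = t * (g⁻¹ * b * g⁻¹⁻¹)
    have h3 := hg b hb
    calc (g⁻¹ * b * g⁻¹⁻¹) * t = g⁻¹ * (b * (g * t * g⁻¹)) * g := by group
      _ = t * (g⁻¹ * b * g⁻¹⁻¹) := by rw [h3]; group
  obtain ⟨c, -, hc⟩ := H.isSyl.conj h1 h2
  have hmem : ∀ b : B, c * (g⁻¹ * (b : G) * g⁻¹⁻¹) * c⁻¹ ∈ S := fun b => hc _ ⟨b, b.2, rfl⟩
  let f : B → S := fun b => ⟨_, hmem b⟩
  have hf : Function.Injective f := by
    intro a b hab'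
    have h3 : c * (g⁻¹ * (a : G) * g⁻¹⁻¹) * c⁻¹ = c * (g⁻¹ * (b : G) * g⁻¹⁻¹) * c⁻¹ :=
      congrArg Subtype.val hab'
    apply Subtype.ext
    exact mul_left_cancel (mul_right_cancel (mul_left_cancel (mul_right_cancel h3)))
  have hbij : Function.Bijective f := by
    rw [Nat.bijective_iff_injective_and_card]
    exact ⟨hf, by rw [h16, H.cardS]⟩
  apply H.nonab
  intro a ha b hb
  obtain ⟨a', ha'⟩ := hbij.2 ⟨a, ha⟩
  obtain ⟨b', hb'⟩ := hbij.2 ⟨b, hb⟩
  have h4 : c * (g⁻¹ * (a' : G) * g⁻¹⁻¹) * c⁻¹ = a := congrArg Subtype.val ha'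
  have h5 : c * (g⁻¹ * (b' : G) * g⁻¹⁻¹) * c⁻¹ = b := congrArg Subtype.val hb'
  have h6 := hab a' a'.2 b' b'.2
  rw [← h4, ← h5]
  calc c * (g⁻¹ * (a' : G) * g⁻¹⁻¹) * c⁻¹ * (c * (g⁻¹ * (b' : G) * g⁻¹⁻¹) * c⁻¹)
      = c * g⁻¹ * ((a' : G) * b') * g * c⁻¹ := by group
    _ = c * (g⁻¹ * (b' : G) * g⁻¹⁻¹) * c⁻¹ * (c * (g⁻¹ * (a' : G) * g⁻¹⁻¹) * c⁻¹) := by
        rw [h6]; group

theorem Q2 (H : Leaf t x v Q S) : IsPGroup 2 Q := by
  intro q
  refine ⟨1, Subtype.ext ?_⟩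
  rw [pow_one, pow_two]
  exact H.qsq q q.2

/-- no element of `Q` is conjugate to `t`. -/
theorem not_conj_Q (H : Leaf t x v Q S) {g : G} : g * t * g⁻¹ ∉ Q := by
  intro h
  have h1 := H.noab H.Q2 (fun a ha b hb => q_comm H.qsq ha hb) (g := g)
    (fun b hb => q_comm H.qsq hb h)
  rw [H.cardQ] at h1
  omega

/-- `P₀ = QS` -/
def P0 (_H : Leaf t x v Q S) : Subgroup G := Q ⊔ S

theorem QP (H : Leaf t x v Q S) : Q ≤ H.P0 := le_sup_left
theorem SP (H : Leaf t x v Q S) : S ≤ H.P0 := le_sup_right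
theorem tP (H : Leaf t x v Q S) : t ∈ H.P0 := H.SP H.tS
theorem xP (H : Leaf t x v Q S) : x ∈ H.P0 := H.SP H.xS

theorem coset_inv (_H : Leaf t x v Q S) {a s : G} (ha2 : a * a = 1)
    (haN : ∀ q ∈ Q, a * q * a⁻¹ ∈ Q) (h : a * s ∈ Q) : a * s⁻¹ ∈ Q := by
  have h1 := haN _ (Q.inv_mem h)
  have hi : a⁻¹ = a := inv_eq_of_mul_eq_one_left ha2
  have h2 : a * (a * s)⁻¹ * a⁻¹ = a * s⁻¹ * (a * a)⁻¹ := by group
  rw [h2, ha2, inv_one, mul_one] at h1
  exact h1

theorem mem_P0 (H : Leaf t x v Q S) {g : G} :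
    g ∈ H.P0 ↔ g ∈ Q ∨ t * g ∈ Q ∨ x * g ∈ Q ∨ t * x * g ∈ Q := by
  rw [P0, mem_sup_norm H.SQ]
  constructor
  · rintro ⟨s, hs, hsg⟩
    have key : ∀ a : G, a * a = 1 → (∀ q ∈ Q, a * q * a⁻¹ ∈ Q) → a * s ∈ Q → a * g ∈ Q := by
      intro a ha haN has
      have h1 := H.coset_inv ha haN has
      have h2 : a * g = a * s⁻¹ * (s * g) := by group
      rw [h2]; exact Q.mul_mem h1 hsg
    rcases H.cov s hs with h | h | h | h
    · left
      have h2 : g = s⁻¹ * (s * g) := by group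
      rw [h2]; exact Q.mul_mem (Q.inv_mem h) hsg
    · exact Or.inr (Or.inl (key t H.t2 H.tN h))
    · exact Or.inr (Or.inr (Or.inl (key x H.x2 H.xN h)))
    · exact Or.inr (Or.inr (Or.inr (key _ H.txtx H.txN h)))
  · rintro (h | h | h | h)
    · exact ⟨1, S.one_mem, by rwa [one_mul]⟩
    · exact ⟨t, H.tS, h⟩
    · exact ⟨x, H.xS, h⟩
    · exact ⟨t * x, S.mul_mem H.tS H.xS, h⟩

theorem P02 (H : Leaf t x v Q S) : IsPGroup 2 H.P0 := by
  refine isPGroup_sup H.Q2 H.S2 ?_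
  intro s hs
  rw [mem_normalizer_iff]
  intro q
  constructor
  · exact H.SQ s hs q
  · intro h
    have h1 := H.SQ s⁻¹ (S.inv_mem hs) _ h
    have h2 : s⁻¹ * (s * q * s⁻¹) * s⁻¹⁻¹ = q := by group
    rwa [h2] at h1

theorem P0N (H : Leaf t x v Q S) {p : G} (hp : p ∈ H.P0) : ∀ q ∈ Q, p * q * p⁻¹ ∈ Q := by
  intro q hq
  have key : ∀ a : G, a * a = 1 → (∀ q ∈ Q, a * q * a⁻¹ ∈ Q) → a * p ∈ Q → p * q * p⁻¹ ∈ Q := by
    intro a ha haN hap
    have h1 : p * q * p⁻¹ = a⁻¹ * ((a * p) * q * (a * p)⁻¹) * a := by group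
    have hi : a⁻¹ = a := inv_eq_of_mul_eq_one_left ha
    have h2 := haN _ (Q.mul_mem (Q.mul_mem hap hq) (Q.inv_mem hap))
    rw [h1, hi]
    rwa [hi] at h2
  rcases H.mem_P0.1 hp with h | h | h | h
  · exact Q.mul_mem (Q.mul_mem h hq) (Q.inv_mem h)
  · exact key t H.t2 H.tN h
  · exact key x H.x2 H.xN h
  · exact key _ H.txtx H.txN h

/-- the group `Q ∪ uQ` -/
abbrev half (_H : Leaf t x v Q S) (u : G) (hu : ∀ q ∈ Q, u * q * u⁻¹ ∈ Q) (hu2 : u * u = 1) :
    Subgroup G := two Q u hu (by rw [hu2]; exact Q.one_mem)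

/-- congruences mod `Q` between the three cosets -/
theorem two_cosets (H : Leaf t x v Q S) {q : G} (hq : q ∈ Q) {b c : G}
    (hb : t * b ∈ Q ∨ x * b ∈ Q ∨ t * x * b ∈ Q) (hc : t * c ∈ Q ∨ x * c ∈ Q ∨ t * x * c ∈ Q)
    (hbc : b⁻¹ * c ∉ Q) (hqb : q * b = b * q) (hqc : q * c = c * q) : q = 1 ∨ q = v := by
  -- `q` commutes with the representative of the coset
  have key : ∀ a b : G, a * b ∈ Q → q * b = b * q → q * a = a * q := by
    intro a b hab hqb
    have h1 := q_comm H.qsq hq hab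
    calc q * a = (q * (a * b)) * b⁻¹ := by group
      _ = a * (b * q) * b⁻¹ := by rw [h1]; group
      _ = a * q := by rw [← hqb]; group
  have key2 : ∀ a : G, a * a = 1 → a * b ∈ Q → a * c ∈ Q → False := by
    intro a ha hab hac
    apply hbc
    have h1 : b⁻¹ * c = (a * b)⁻¹ * (a * c) := by group
    rw [h1]; exact Q.mul_mem (Q.inv_mem hab) hac
  have ht' : q * (t * x) = t * x * q → q * x = x * q → q * t = t * q := by
    intro h1 h2
    have h3 : t = (t * x) * x := by rw [mul_assoc, H.x2, mul_one]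
    calc q * t = (q * (t * x)) * x := by conv_lhs => rw [h3]; rw [← mul_assoc]
      _ = t * x * (q * x) := by rw [h1]; group
      _ = (t * x) * x * q := by rw [h2]; group
      _ = t * q := by rw [← h3]
  have hx' : q * (t * x) = t * x * q → q * t = t * q → q * x = x * q := by
    intro h1 h2
    have h3 : x = t * (t * x) := by rw [← mul_assoc, H.t2, one_mul]
    calc q * x = (q * t) * (t * x) := by conv_lhs => rw [h3]; rw [← mul_assoc]
      _ = t * (q * (t * x)) := by rw [h2]; group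
      _ = t * (t * x) * q := by rw [h1]; group
      _ = x * q := by rw [← h3]
  rcases hb with hb | hb | hb <;> rcases hc with hc | hc | hc
  · exact (key2 t H.t2 hb hc).elim
  · exact H.cv q hq (key _ _ hb hqb) (key _ _ hc hqc)
  · exact H.cv q hq (key _ _ hb hqb) (hx' (key _ _ hc hqc) (key _ _ hb hqb))
  · exact H.cv q hq (key _ _ hc hqc) (key _ _ hb hqb)
  · exact (key2 x H.x2 hb hc).elim
  · exact H.cv q hq (ht' (key _ _ hc hqc) (key _ _ hb hqb)) (key _ _ hb hqb)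
  · exact H.cv q hq (key _ _ hc hqc) (hx' (key _ _ hb hqb) (key _ _ hc hqc))
  · exact H.cv q hq (ht' (key _ _ hb hqb) (key _ _ hc hqc)) (key _ _ hc hqc)
  · exact (key2 _ H.txtx hb hc).elim

/-- `Q` is the only elementary abelian subgroup of order 16 of `P₀`. -/
theorem unique16 (H : Leaf t x v Q S) {B : Subgroup G} (hBP : B ≤ H.P0)
    (hB : ∀ b ∈ B, b * b = 1) (hB16 : Nat.card B = 16) : B = Q := by
  by_contra hne
  have hcos : ∀ b ∈ B, b ∉ Q → t * b ∈ Q ∨ x * b ∈ Q ∨ t * x * b ∈ Q := by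
    intro b hb hbQ
    rcases H.mem_P0.1 (hBP hb) with h | h
    · exact absurd h hbQ
    · exact h
  have hbcomm : ∀ a ∈ B, ∀ b ∈ B, a * b = b * a := fun a ha b hb => q_comm hB ha hb
  -- `card B ≤ 4 card (B ∩ Q)`
  have h4 : Nat.card B ≤ 4 * Nat.card (B ⊓ Q : Subgroup G) := by
    set M := two Q t H.tN (by rw [H.t2]; exact Q.one_mem) with hM
    have h1 := card_le_two_mul B M (by
      intro a ha b hb haM hbM
      have haQ : a ∉ Q := fun h => haM (Or.inl h)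
      have hbQ : b ∉ Q := fun h => hbM (Or.inl h)
      have hat : t * a ∉ Q := fun h => haM (Or.inr h)
      have hbt : t * b ∉ Q := fun h => hbM (Or.inr h)
      have hai : a⁻¹ = a := q_inv hB ha
      have ha' := (hcos a ha haQ).resolve_left hat
      have hb' := (hcos b hb hbQ).resolve_left hbt
      have same : ∀ c : G, c * a ∈ Q → c * b ∈ Q → a⁻¹ * b ∈ M := by
        intro c hca hcb
        left
        have h1 : a⁻¹ * b = (c * a)⁻¹ * (c * b) := by group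
        rw [h1]; exact Q.mul_mem (Q.inv_mem hca) hcb
      have diff : ∀ c d : G, c * c = 1 → t * c = d → c * t = d → c * a ∈ Q → d * b ∈ Q →
          a⁻¹ * b ∈ M := by
        intro c d hc htc hct hca hdb
        right
        -- `t a⁻¹ b = (t (c a)⁻¹ t⁻¹) (t c b)`
        have h1 : t * (a⁻¹ * b) = (t * (c * a)⁻¹ * t⁻¹) * (t * c * b) := by group
        rw [h1, htc]
        exact Q.mul_mem (H.tN _ (Q.inv_mem hca)) hdb
      rcases ha' with ha' | ha' <;> rcases hb' with hb' | hb'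
      · exact same x ha' hb'
      · exact diff x (t * x) H.x2 rfl H.tx.symm ha' hb'
      · refine diff (t * x) x H.txtx (by rw [← mul_assoc, H.t2, one_mul]) ?_ ha' hb'
        rw [H.tx, mul_assoc, H.t2, mul_one]
      · exact same (t * x) ha' hb')
    have h2 := card_le_two_mul (B ⊓ M) Q (by
      intro a ha b hb haQ hbQ
      have ha' : t * a ∈ Q := (ha.2).resolve_left haQ
      have hb' : t * b ∈ Q := (hb.2).resolve_left hbQ
      have h1 : a⁻¹ * b = (t * a)⁻¹ * (t * b) := by group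
      rw [h1]; exact Q.mul_mem (Q.inv_mem ha') hb')
    have h3 : (B ⊓ M) ⊓ Q ≤ B ⊓ Q := fun a ha => ⟨ha.1.1, ha.2⟩
    have h5 : Nat.card ((B ⊓ M) ⊓ Q : Subgroup G) ≤ Nat.card (B ⊓ Q : Subgroup G) := card_le_of_le h3
    omega
  -- all elements of `B ∖ Q` are in the same coset
  have hsame : ∀ a ∈ B, ∀ b ∈ B, a ∉ Q → b ∉ Q → a⁻¹ * b ∈ Q := by
    intro a ha b hb haQ hbQ
    by_contra hcon
    have h1 : ∀ q ∈ (B ⊓ Q : Subgroup G), q = 1 ∨ q = v := by
      intro q hq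
      exact H.two_cosets hq.2 (hcos a ha haQ) (hcos b hb hbQ) hcon (hbcomm q hq.1 a ha)
        (hbcomm q hq.1 b hb)
    have h2 : Nat.card (B ⊓ Q : Subgroup G) ≤ 2 := by
      classical
      have h3 : Set.ncard ((B ⊓ Q : Subgroup G) : Set G) ≤ Set.ncard ({1, v} : Set G) := by
        apply Set.ncard_le_ncard _ (Set.toFinite _)
        intro q hq
        rcases h1 q hq with h | h
        · left; exact h
        · right; exact h
      have h4 : Set.ncard ({1, v} : Set G) ≤ 2 := Set.ncard_insert_le _ _ |>.trans (by simp)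
      rw [← Nat.card_coe_set_eq] at h3
      exact h3.trans h4
    omega
  have h8 := card_le_two_mul B Q hsame
  obtain ⟨b, hb, hbQ⟩ : ∃ b ∈ B, b ∉ Q := by
    by_contra hcon
    push Not at hcon
    exact hne (eq_of_le_of_card_ge hcon (by rw [H.cardQ, hB16]))
  have h9 : Nat.card (B ⊓ Q : Subgroup G) ≤ 4 := by
    have hcard : ∀ a : G, a * a = 1 → a * b ∈ Q → Nat.card (cq Q a) = 4 →
        Nat.card (B ⊓ Q : Subgroup G) ≤ 4 := by
      intro a ha hab hc
      have h1 : cq Q a = cq Q b := cq_congr H.qsq (by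
        rw [inv_eq_of_mul_eq_one_left ha]; exact hab)
      have h2 : B ⊓ Q ≤ cq Q b := by
        intro q hq
        rw [mem_cq]
        exact ⟨hq.2, hbcomm q hq.1 b hb⟩
      rw [← h1] at h2
      calc Nat.card (B ⊓ Q : Subgroup G) ≤ Nat.card (cq Q a) := card_le_of_le h2
        _ = 4 := hc
    rcases hcos b hb hbQ with h | h | h
    · exact hcard t H.t2 h H.ct
    · exact hcard x H.x2 h H.cx
    · exact hcard _ H.txtx h H.ctx
  omega

/-- `N(P₀) ≤ N(Q)` -/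
theorem norm_Q (H : Leaf t x v Q S) {y : G} (hy : ∀ p ∈ H.P0, y * p * y⁻¹ ∈ H.P0) :
    ∀ q ∈ Q, y * q * y⁻¹ ∈ Q := by
  have h1 : Q.map (MulAut.conj y).toMonoidHom = Q := by
    apply H.unique16
    · rintro _ ⟨q, hq, rfl⟩
      exact hy q (H.QP hq)
    · rintro _ ⟨q, hq, rfl⟩
      show (y * q * y⁻¹) * (y * q * y⁻¹) = 1
      have h2 : (y * q * y⁻¹) * (y * q * y⁻¹) = y * (q * q) * y⁻¹ := by group
      rw [h2, H.qsq q hq, mul_one, mul_inv_cancel]
    · rw [card_map_of_injective (MulAut.conj y).injective, H.cardQ]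
  intro q hq
  have h2 : y * q * y⁻¹ ∈ Q.map (MulAut.conj y).toMonoidHom := ⟨q, hq, rfl⟩
  rwa [h1] at h2

theorem sq_t (H : Leaf t x v Q S) : Nat.card (cq Q t) ^ 2 = Nat.card Q := by rw [H.ct, H.cardQ]; rfl
theorem sq_x (H : Leaf t x v Q S) : Nat.card (cq Q x) ^ 2 = Nat.card Q := by rw [H.cx, H.cardQ]; rfl
theorem sq_tx (H : Leaf t x v Q S) : Nat.card (cq Q (t * x)) ^ 2 = Nat.card Q := by
  rw [H.ctx, H.cardQ]; rfl

/-- an element of a 2-group `T ≥ P₀` sending `t` to an element of `tQ` is in `P₀`. -/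
theorem mem_P0_of_conj (H : Leaf t x v Q S) {T : Subgroup G} (hT : IsPGroup 2 T) (hPT : H.P0 ≤ T)
    {y : G} (hyT : y ∈ T) (h : t * (y * t * y⁻¹) ∈ Q) : y ∈ H.P0 := by
  obtain ⟨r, hr, hr2⟩ := conj_of_invol H.qsq H.tN H.t2 H.sq_t h (by
    have : (y * t * y⁻¹) * (y * t * y⁻¹) = y * (t * t) * y⁻¹ := by group
    rw [this, H.t2, mul_one, mul_inv_cancel])
  have h1 : (r⁻¹ * y) * t = t * (r⁻¹ * y) := by
    calc (r⁻¹ * y) * t = r⁻¹ * (y * t * y⁻¹) * y := by group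
      _ = t * (r⁻¹ * y) := by rw [← hr2]; group
  have h2 : r⁻¹ * y ∈ T ⊓ centralizer ({t} : Set G) :=
    mem_inf.2 ⟨T.mul_mem (T.inv_mem (hPT (H.QP hr))) hyT, mem_centralizer_singleton_iff.2 h1⟩
  have h3 : T ⊓ centralizer ({t} : Set G) ≤ S := by
    refine H.Smax _ (hT.to_le inf_le_left) ?_ ?_
    · intro s hs
      exact mem_inf.2 ⟨hPT (H.SP hs), mem_centralizer_singleton_iff.2 (H.St s hs)⟩
    · intro s hs
      exact mem_centralizer_singleton_iff.1 (mem_inf.1 hs).2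
  have h4 : y = r * (r⁻¹ * y) := by group
  rw [h4]
  exact mul_mem (H.QP hr) (H.SP (h3 h2))

theorem xt_ti (H : Leaf t x v Q S) (g : G) : t * (t * x * g) = x * g := by
  calc t * (t * x * g) = (t * t) * (x * g) := by group
    _ = x * g := by rw [H.t2, one_mul]

/-- every element of `P₀` centralises `t` mod `Q`. -/
theorem P0_t (H : Leaf t x v Q S) {p : G} (hp : p ∈ H.P0) : t * (p * t * p⁻¹) ∈ Q := by
  have key : ∀ a : G, a * a = 1 → a * t = t * a → (∀ q ∈ Q, a * q * a⁻¹ ∈ Q) → a * p ∈ Q →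
      t * (p * t * p⁻¹) ∈ Q := by
    intro a ha hat haN hap
    have hi : a⁻¹ = a := inv_eq_of_mul_eq_one_left ha
    have h1 : p = a * (a * p) := by rw [← mul_assoc, ha, one_mul]
    -- `p t p⁻¹ = a (ap) t (ap)⁻¹ a`
    have h2 : t * (p * t * p⁻¹) = a * (t * ((a * p) * t * (a * p)⁻¹)) * a⁻¹ := by
      calc t * (p * t * p⁻¹) = t * a * (a⁻¹ * p * t * (a⁻¹ * p)⁻¹) * a⁻¹ := by group
        _ = a * (t * ((a * p) * t * (a * p)⁻¹)) * a⁻¹ := by rw [hi, ← hat]; group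
    rw [h2]
    apply haN
    have h3 : t * ((a * p) * t * (a * p)⁻¹) = (t * (a * p) * t⁻¹) * (a * p)⁻¹ := by
      rw [H.ti]; group
    rw [h3]; exact Q.mul_mem (H.tN _ hap) (Q.inv_mem hap)
  rcases H.mem_P0.1 hp with h | h | h | h
  · have h3 : t * (p * t * p⁻¹) = (t * p * t⁻¹) * p⁻¹ := by rw [H.ti]; group
    rw [h3]; exact Q.mul_mem (H.tN _ h) (Q.inv_mem h)
  · exact key t H.t2 rfl H.tN h
  · exact key x H.x2 H.tx.symm H.xN h
  · exact key (t * x) H.txtx (by rw [mul_assoc, H.tx]) H.txN h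

end Leaf

/-- An element `y` of a 2-group `T > P₀`, normalising `P₀`, with `y² ∈ P₀` and `t^y ∈ txQ`. -/
structure Ext (t x v : G) (Q S T : Subgroup G) (y : G) : Prop where
  H : Leaf t x v Q S
  T2 : IsPGroup 2 T
  PT : Q ⊔ S ≤ T
  yT : y ∈ T
  yP : y ∉ Q ⊔ S
  yy : y * y ∈ Q ⊔ S
  yn : ∀ p ∈ Q ⊔ S, y * p * y⁻¹ ∈ Q ⊔ S
  yt : t * x * (y * t * y⁻¹) ∈ Q

namespace Leaf

variable {t x v : G} {Q S : Subgroup G}

/-- dichotomy: a 2-group `T ≥ P₀` is `P₀`, or there is an extension, for `x` or for `tx`. -/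
theorem exists_ext (H : Leaf t x v Q S) {T : Subgroup G} (hT : IsPGroup 2 T) (hPT : Q ⊔ S ≤ T)
    (hne : Q ⊔ S ≠ T) : (∃ y, Ext t x v Q S T y) ∨ ∃ y, Ext t (t * x) v Q S T y := by
  obtain ⟨n, hnT, hnP, hn⟩ := exists_normalizer_gt hT (lt_of_le_of_ne hPT hne)
  obtain ⟨y, hyT, hyP, hyy, hy⟩ := exists_sq hT hnT hnP hn
  have hyn : ∀ p ∈ Q ⊔ S, y * p * y⁻¹ ∈ Q ⊔ S := fun p hp => conj_mem_of_normalizer hy hp
  have hyQ := H.norm_Q hyn
  have h1 : y * t * y⁻¹ ∈ H.P0 := hyn t H.tP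
  rcases H.mem_P0.1 h1 with h | h | h | h
  · exact absurd h H.not_conj_Q
  · exact absurd (H.mem_P0_of_conj hT hPT hyT h) hyP
  · right
    refine ⟨y, H.swap, hT, hPT, hyT, hyP, hyy, hyn, ?_⟩
    have h2 : t * (t * x) * (y * t * y⁻¹) = x * (y * t * y⁻¹) := by
      rw [← mul_assoc t t, H.t2, one_mul]
    rw [h2]; exact h
  · left
    exact ⟨y, H, hT, hPT, hyT, hyP, hyy, hyn, h⟩

end Leaf

namespace Ext

variable {t x v y : G} {Q S T : Subgroup G}

theorem yQ (E : Ext t x v Q S T y) : ∀ q ∈ Q, y * q * y⁻¹ ∈ Q := E.H.norm_Q E.yn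

/-- `y t y⁻¹ = t x q` -/
theorem yt' (E : Ext t x v Q S T y) : ∃ q ∈ Q, y * t * y⁻¹ = t * x * q := by
  refine ⟨_, E.yt, ?_⟩
  rw [← mul_assoc, E.H.txtx, one_mul]

theorem inv_norm (E : Ext t x v Q S T y) {p : G} (hp : p ∈ Q ⊔ S) : y⁻¹ * p * y ∈ Q ⊔ S := by
  have h1 : y⁻¹ * p * y = (y * y)⁻¹ * (y * p * y⁻¹) * (y * y) := by group
  rw [h1]
  exact mul_mem (mul_mem (inv_mem E.yy) (E.yn p hp)) E.yy

/-- `y x y⁻¹ ∈ xQ` -/
theorem yx (E : Ext t x v Q S T y) : x * (y * x * y⁻¹) ∈ Q := by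
  have H := E.H
  obtain ⟨q1, hq1, hyt⟩ := E.yt'
  have h1 : t * ((y * y) * t * (y * y)⁻¹) ∈ Q := H.P0_t E.yy
  set q2 := t * ((y * y) * t * (y * y)⁻¹) with hq2
  have h2 : (y * y) * t * (y * y)⁻¹ = t * q2 := by
    rw [hq2, ← mul_assoc, H.t2, one_mul]
  -- `y² t y⁻² = (y t y⁻¹)(y x y⁻¹)(y q1 y⁻¹)`
  have h3 : (y * y) * t * (y * y)⁻¹ = (t * x * q1) * (y * x * y⁻¹) * (y * q1 * y⁻¹) := by
    calc (y * y) * t * (y * y)⁻¹ = y * (y * t * y⁻¹) * y⁻¹ := by group
      _ = y * (t * x * q1) * y⁻¹ := by rw [hyt]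
      _ = (y * t * y⁻¹) * (y * x * y⁻¹) * (y * q1 * y⁻¹) := by group
      _ = _ := by rw [hyt]
  rw [h2] at h3
  have h4 : y * x * y⁻¹ = q1⁻¹ * x * q2 * (y * q1 * y⁻¹)⁻¹ := by
    calc y * x * y⁻¹ = (t * x * q1)⁻¹ * ((t * x * q1) * (y * x * y⁻¹) * (y * q1 * y⁻¹)) *
          (y * q1 * y⁻¹)⁻¹ := by group
      _ = (t * x * q1)⁻¹ * (t * q2) * (y * q1 * y⁻¹)⁻¹ := by rw [← h3]
      _ = q1⁻¹ * x⁻¹ * q2 * (y * q1 * y⁻¹)⁻¹ := by group
      _ = _ := by rw [H.xi]
  have h5 : x * (y * x * y⁻¹) = (x * q1⁻¹ * x⁻¹) * q2 * (y * q1 * y⁻¹)⁻¹ := by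
    rw [h4, H.xi]; group
  rw [h5]
  exact Q.mul_mem (Q.mul_mem (H.xN _ (Q.inv_mem hq1)) h1) (Q.inv_mem (E.yQ _ hq1))

/-- `y x y⁻¹ = x q` -/
theorem yx' (E : Ext t x v Q S T y) : ∃ q ∈ Q, y * x * y⁻¹ = x * q := by
  refine ⟨_, E.yx, ?_⟩
  rw [← mul_assoc, E.H.x2, one_mul]

/-- `y² ∈ Q ∪ xQ` -/
theorem yy' (E : Ext t x v Q S T y) : y * y ∈ Q ∨ x * (y * y) ∈ Q := by
  have H := E.H
  obtain ⟨q1, hq1, hyt⟩ := E.yt'
  obtain ⟨q2, hq2, hyx⟩ := E.yx'
  rcases H.mem_P0.1 E.yy with h | h | h | h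
  · exact Or.inl h
  · exfalso
    set q := t * (y * y) with hq
    have h1 : y * y = t * q := by rw [hq, ← mul_assoc, H.t2, one_mul]
    have h2 : t * q = (t * x * q1) * (y * q * y⁻¹) := by
      calc t * q = y * (y * y) * y⁻¹ := by rw [← h1]; group
        _ = (y * t * y⁻¹) * (y * q * y⁻¹) := by rw [h1]; group
        _ = _ := by rw [hyt]
    apply H.xQ
    have h3 : x = q * (y * q * y⁻¹)⁻¹ * q1⁻¹ := by
      calc x = t⁻¹ * ((t * x * q1) * (y * q * y⁻¹)) * (y * q * y⁻¹)⁻¹ * q1⁻¹ := by group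
        _ = t⁻¹ * (t * q) * (y * q * y⁻¹)⁻¹ * q1⁻¹ := by rw [← h2]
        _ = q * (y * q * y⁻¹)⁻¹ * q1⁻¹ := by group
    rw [h3]
    exact Q.mul_mem (Q.mul_mem h (Q.inv_mem (E.yQ _ h))) (Q.inv_mem hq1)
  · exact Or.inr h
  · exfalso
    set q := t * x * (y * y) with hq
    have h1 : y * y = t * x * q := by rw [hq, ← mul_assoc, H.txtx, one_mul]
    have h2 : t * x * q = (t * x * q1) * (x * q2) * (y * q * y⁻¹) := by
      calc t * x * q = y * (y * y) * y⁻¹ := by rw [← h1]; group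
        _ = (y * t * y⁻¹) * (y * x * y⁻¹) * (y * q * y⁻¹) := by rw [h1]; group
        _ = _ := by rw [hyt, hyx]
    apply H.xQ
    have h3 : x = q1⁻¹ * q * (y * q * y⁻¹)⁻¹ * q2⁻¹ := by
      calc x = (t * x * q1)⁻¹ * ((t * x * q1) * (x * q2) * (y * q * y⁻¹)) * (y * q * y⁻¹)⁻¹ *
            q2⁻¹ := by group
        _ = (t * x * q1)⁻¹ * (t * x * q) * (y * q * y⁻¹)⁻¹ * q2⁻¹ := by rw [← h2]
        _ = q1⁻¹ * q * (y * q * y⁻¹)⁻¹ * q2⁻¹ := by group
    rw [h3]
    exact Q.mul_mem (Q.mul_mem (Q.mul_mem (Q.inv_mem hq1) h) (Q.inv_mem (E.yQ _ h)))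
      (Q.inv_mem hq2)

end Ext

namespace Leaf

variable {t x v : G} {Q S : Subgroup G}

/-- `v` is central in `P₀`. -/
theorem vP (H : Leaf t x v Q S) {p : G} (hp : p ∈ H.P0) : v * p = p * v := by
  have key : ∀ a : G, a * a = 1 → v * a = a * v → a * p ∈ Q → v * p = p * v := by
    intro a ha hva hap
    have h1 : p = a * (a * p) := by rw [← mul_assoc, ha, one_mul]
    have h2 := q_comm H.qsq H.vQ hap
    calc v * p = (v * a) * (a * p) := by conv_lhs => rw [h1]; rw [← mul_assoc]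
      _ = a * (v * (a * p)) := by rw [hva, mul_assoc]
      _ = (a * (a * p)) * v := by rw [h2]; group
      _ = p * v := by rw [← h1]
  rcases H.mem_P0.1 hp with h | h | h | h
  · exact q_comm H.qsq H.vQ h
  · exact key t H.t2 H.vt h
  · exact key x H.x2 H.vx h
  · exact key _ H.txtx H.swap.vx h

end Leaf

namespace Ext

variable {t x v y : G} {Q S T : Subgroup G}

/-- `y` centralises `v`. -/
theorem yv (E : Ext t x v Q S T y) : y * v * y⁻¹ = v := by
  have H := E.H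
  have h1 : ∀ a ∈ Q ⊔ S, (y * v * y⁻¹) * a = a * (y * v * y⁻¹) := by
    intro a ha
    have h2 := H.vP (E.inv_norm ha)
    calc (y * v * y⁻¹) * a = y * (v * (y⁻¹ * a * y)) * y⁻¹ := by group
      _ = a * (y * v * y⁻¹) := by rw [h2]; group
  rcases H.cv _ (E.yQ v H.vQ) (h1 t H.tP) (h1 x H.xP) with h | h
  · exfalso
    apply H.v1
    calc v = y⁻¹ * (y * v * y⁻¹) * y := by group
      _ = 1 := by rw [h]; group
  · exact h

/-- if `y² ∈ Q` then `y` centralises `C_Q(x)`. -/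
theorem cvx (E : Ext t x v Q S T y) (hyQ : y * y ∈ Q) {w : G} (hw : w ∈ Q) (hwx : w * x = x * w) :
    w * y = y * w := by
  classical
  by_contra hwy
  have H := E.H
  obtain ⟨q1, hq1, hyt⟩ := E.yt'
  obtain ⟨q2, hq2, hyx⟩ := E.yx'
  have yvy := E.yv
  have hw1 : w ≠ 1 := by rintro rfl; exact hwy (by rw [one_mul, mul_one])
  have hwv : w ≠ v := by
    rintro rfl
    apply hwy
    calc w * y = (y * w * y⁻¹) * y := by rw [yvy]
      _ = y * w := by group
  -- the four elements of `C_Q(x)`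
  have hlist : ∀ z ∈ Q, z * x = x * z → z = 1 ∨ z = v ∨ z = w ∨ z = v * w := by
    intro z hz hzx
    have hsub : ({1, v, w, v * w} : Set G) ⊆ (cq Q x : Set G) := by
      intro a ha
      rcases ha with rfl | rfl | rfl | rfl
      · exact (cq Q x).one_mem
      · exact mem_cq.2 ⟨H.vQ, H.vx⟩
      · exact mem_cq.2 ⟨hw, hwx⟩
      · exact (cq Q x).mul_mem (mem_cq.2 ⟨H.vQ, H.vx⟩) (mem_cq.2 ⟨hw, hwx⟩)
    have hcard : Set.ncard ({1, v, w, v * w} : Set G) = 4 := by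
      have h1 : v * w ≠ 1 := by
        intro h
        apply hwv
        rw [← q_inv H.qsq H.vQ]
        exact (inv_eq_of_mul_eq_one_right h).symm
      have h2 : v * w ≠ v := by intro h; exact hw1 (mul_eq_left.1 h)
      have h3 : v * w ≠ w := by intro h; exact H.v1 (mul_eq_right.1 h)
      rw [Set.ncard_eq_toFinset_card' ]
      simp only [Set.toFinset_insert, Set.toFinset_singleton]
      rw [Finset.card_insert_of_notMem, Finset.card_insert_of_notMem, Finset.card_insert_of_notMem,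
        Finset.card_singleton]
      · simp only [Finset.mem_singleton]; exact fun h => h3 h.symm
      · simp only [Finset.mem_insert, Finset.mem_singleton, not_or]
        exact ⟨fun h => hwv h.symm, fun h => h2 h.symm⟩
      · simp only [Finset.mem_insert, Finset.mem_singleton, not_or]
        exact ⟨fun h => H.v1 h.symm, fun h => hw1 h.symm, fun h => h1 h.symm⟩
    have heq : ({1, v, w, v * w} : Set G) = (cq Q x : Set G) := by
      apply Set.eq_of_subset_of_ncard_le hsub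
      rw [hcard, ← Nat.card_coe_set_eq]
      exact (le_of_eq H.cx)
    have hzmem : z ∈ ({1, v, w, v * w} : Set G) := by
      rw [heq]; exact mem_cq.2 ⟨hz, hzx⟩
    rcases hzmem with h | h | h | h
    · exact Or.inl h
    · exact Or.inr (Or.inl h)
    · exact Or.inr (Or.inr (Or.inl h))
    · exact Or.inr (Or.inr (Or.inr h))
  -- `y w y⁻¹ = v w`
  have hyw : y * w * y⁻¹ = v * w := by
    have h1 : (y * w * y⁻¹) * x = x * (y * w * y⁻¹) := by
      have h2 : x = (y * x * y⁻¹) * q2⁻¹ := by rw [hyx]; group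
      have h3 := q_comm H.qsq (E.yQ w hw) (Q.inv_mem hq2)
      calc (y * w * y⁻¹) * x = (y * w * y⁻¹) * ((y * x * y⁻¹) * q2⁻¹) := by rw [← h2]
        _ = y * (w * x) * y⁻¹ * q2⁻¹ := by group
        _ = (y * x * y⁻¹) * ((y * w * y⁻¹) * q2⁻¹) := by rw [hwx]; group
        _ = ((y * x * y⁻¹) * q2⁻¹) * (y * w * y⁻¹) := by rw [h3]; group
        _ = x * (y * w * y⁻¹) := by rw [← h2]
    rcases hlist _ (E.yQ w hw) h1 with h | h | h | h
    · exfalso; apply hw1
      calc w = y⁻¹ * (y * w * y⁻¹) * y := by group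
        _ = 1 := by rw [h]; group
    · exfalso; apply hwv
      have h4 : y * w * y⁻¹ = y * v * y⁻¹ := by rw [h, yvy]
      exact mul_left_cancel (mul_right_cancel h4)
    · exfalso; apply hwy
      calc w * y = (y * w * y⁻¹) * y := by rw [h]
        _ = y * w := by group
    · exact h
  -- `t w t⁻¹ = v w`
  have htw : t * w * t⁻¹ = v * w := by
    have h1 : (t * w * t⁻¹) * x = x * (t * w * t⁻¹) := by
      rw [H.ti]
      calc (t * w * t) * x = t * w * (t * x) := by group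
        _ = t * (w * x) * t := by rw [H.tx]; group
        _ = (t * x) * w * t := by rw [hwx]; group
        _ = x * (t * w * t) := by rw [H.tx]; group
    have htv : t * v * t⁻¹ = v := by rw [← H.vt]; group
    rcases hlist _ (H.tN w hw) h1 with h | h | h | h
    · exfalso; apply hw1
      calc w = t⁻¹ * (t * w * t⁻¹) * t := by group
        _ = 1 := by rw [h]; group
    · exfalso; apply hwv
      have h4 : t * w * t⁻¹ = t * v * t⁻¹ := by rw [h, htv]
      exact mul_left_cancel (mul_right_cancel h4)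
    · exfalso
      have h4 : w * t = t * w := by
        calc w * t = (t * w * t⁻¹) * t := by rw [h]
          _ = t * w := by group
      rcases H.cv w hw h4 hwx with h5 | h5
      · exact hw1 h5
      · exact hwv h5
    · exact h
  have htv : t * v * t⁻¹ = v := by rw [← H.vt]; group
  -- `f = t y`
  set f := t * y with hf
  have hfN : ∀ q ∈ Q, f * q * f⁻¹ ∈ Q := by
    intro q hq
    have h1 : f * q * f⁻¹ = t * (y * q * y⁻¹) * t⁻¹ := by rw [hf]; group
    rw [h1]; exact H.tN _ (E.yQ q hq)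
  have hfv : f * v * f⁻¹ = v := by
    have h1 : f * v * f⁻¹ = t * (y * v * y⁻¹) * t⁻¹ := by rw [hf]; group
    rw [h1, yvy, htv]
  have hfw : f * w * f⁻¹ = w := by
    calc f * w * f⁻¹ = t * (y * w * y⁻¹) * t⁻¹ := by rw [hf]; group
      _ = (t * v * t⁻¹) * (t * w * t⁻¹) := by rw [hyw]; group
      _ = (v * v) * w := by rw [htv, htw, mul_assoc]
      _ = w := by rw [H.qsq v H.vQ, one_mul]
  have hfc : ∀ z ∈ Q, z * x = x * z → f * z * f⁻¹ * z⁻¹ = 1 := by
    intro z hz hzx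
    rcases hlist z hz hzx with rfl | rfl | rfl | rfl
    · group
    · rw [hfv]; group
    · rw [hfw]; group
    · have h1 : f * (v * w) * f⁻¹ = (f * v * f⁻¹) * (f * w * f⁻¹) := by group
      rw [h1, hfv, hfw]; group
  -- `f² = x q0`
  have hff : f * f = x * (q1 * (y * y)) := by
    calc f * f = t * (y * t * y⁻¹) * (y * y) := by rw [hf]; group
      _ = (t * t) * (x * (q1 * (y * y))) := by rw [hyt]; group
      _ = x * (q1 * (y * y)) := by rw [H.t2, one_mul]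
  have hffq : ∀ q ∈ Q, (f * f) * q * (f * f)⁻¹ = x * q * x⁻¹ := by
    intro q hq
    have h1 := q_comm H.qsq (Q.mul_mem hq1 hyQ) hq
    rw [hff]
    calc x * (q1 * (y * y)) * q * (x * (q1 * (y * y)))⁻¹
        = x * ((q1 * (y * y)) * q) * (q1 * (y * y))⁻¹ * x⁻¹ := by group
      _ = x * q * x⁻¹ := by rw [h1]; group
  have hδ : ∀ q ∈ Q, f * (f * q * f⁻¹ * q⁻¹) * f⁻¹ * (f * q * f⁻¹ * q⁻¹)⁻¹ = x * q * x⁻¹ * q⁻¹ := by
    intro q hq
    have ha : f * q * f⁻¹ * q⁻¹ ∈ Q := Q.mul_mem (hfN q hq) (Q.inv_mem hq)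
    rw [q_inv H.qsq ha, ← hffq q hq]
    group
  -- `[x,q] ∈ C_Q(x)`
  have hxq : ∀ q ∈ Q, (x * q * x⁻¹ * q⁻¹) * x = x * (x * q * x⁻¹ * q⁻¹) := by
    intro q hq
    have ha : x * q * x⁻¹ * q⁻¹ ∈ Q := Q.mul_mem (H.xN q hq) (Q.inv_mem hq)
    have h1 : x * (x * q * x⁻¹ * q⁻¹) * x⁻¹ = (x * q * x⁻¹ * q⁻¹)⁻¹ := by
      calc x * (x * q * x⁻¹ * q⁻¹) * x⁻¹ = (x * x) * q * x⁻¹ * q⁻¹ * x⁻¹ := by group
        _ = q * x⁻¹ * q⁻¹ * x⁻¹ := by rw [H.x2, one_mul]
        _ = q * x * q⁻¹ * x⁻¹ := by rw [H.xi]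
        _ = (x * q * x⁻¹ * q⁻¹)⁻¹ := by group
    rw [q_inv H.qsq ha] at h1
    calc (x * q * x⁻¹ * q⁻¹) * x = (x * (x * q * x⁻¹ * q⁻¹) * x⁻¹) * x := by rw [h1]
      _ = x * (x * q * x⁻¹ * q⁻¹) := by group
  -- every element of `Q` commutes with `x`
  have hall : ∀ q ∈ Q, q * x = x * q := by
    intro q hq
    have back : ∀ a : G, x * a * x⁻¹ * a⁻¹ = 1 → a * x = x * a := by
      intro a ha
      calc a * x = (x * a * x⁻¹ * a⁻¹)⁻¹ * (x * a) := by group
        _ = x * a := by rw [ha]; group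
    set d1 := f * q * f⁻¹ * q⁻¹ with hd1
    have hd1Q : d1 ∈ Q := Q.mul_mem (hfN q hq) (Q.inv_mem hq)
    set d2 := f * d1 * f⁻¹ * d1⁻¹ with hd2
    have hd2Q : d2 ∈ Q := Q.mul_mem (hfN d1 hd1Q) (Q.inv_mem hd1Q)
    have h1 : d2 = x * q * x⁻¹ * q⁻¹ := hδ q hq
    have h2 : d2 * x = x * d2 := by rw [h1]; exact hxq q hq
    have h3 := hfc d2 hd2Q h2
    have h4 := hδ d1 hd1Q
    rw [← hd2, h3] at h4
    have h5 := hfc d1 hd1Q (back d1 h4.symm)
    rw [← hd2, h1] at h5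
    exact back q h5
  have h1 : cq Q x = Q := by
    ext q
    rw [mem_cq]
    exact ⟨fun h => h.1, fun h => ⟨h, hall q h⟩⟩
  have h2 := H.cx
  rw [h1, H.cardQ] at h2
  omega

end Ext

namespace Leaf

variable {t x v : G} {Q S : Subgroup G}

/-- elements of `P₀ ∖ Q` are in exactly one of the three cosets -/
theorem disj_t (H : Leaf t x v Q S) {h : G} (ht : t * h ∈ Q) : h ∉ Q ∧ x * h ∉ Q ∧ t * x * h ∉ Q := by
  refine ⟨fun h1 => H.tQ ?_, fun h1 => H.txQ ?_, fun h1 => H.xQ ?_⟩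
  · have h2 := Q.mul_mem ht (Q.inv_mem h1)
    rwa [mul_assoc, mul_inv_cancel, mul_one] at h2
  · have h2 := Q.mul_mem ht (Q.inv_mem h1)
    have h3 : t * h * (x * h)⁻¹ = t * x⁻¹ := by group
    rwa [h3, H.xi] at h2
  · have h2 := Q.mul_mem h1 (Q.inv_mem ht)
    have h3 : t * x * h * (t * h)⁻¹ = t * x * t⁻¹ := by group
    rw [h3, H.tx] at h2
    have h4 : x * t * t⁻¹ = x := by group
    rwa [h4] at h2

theorem disj_x (H : Leaf t x v Q S) {h : G} (hx : x * h ∈ Q) : h ∉ Q ∧ t * h ∉ Q ∧ t * x * h ∉ Q := by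
  refine ⟨fun h1 => H.xQ ?_, fun h1 => (H.disj_t h1).2.1 hx, fun h1 => H.tQ ?_⟩
  · have h2 := Q.mul_mem hx (Q.inv_mem h1)
    rwa [mul_assoc, mul_inv_cancel, mul_one] at h2
  · have h2 := Q.mul_mem h1 (Q.inv_mem hx)
    have h3 : t * x * h * (x * h)⁻¹ = t := by group
    rwa [h3] at h2

theorem disj_tx (H : Leaf t x v Q S) {h : G} (hx : t * x * h ∈ Q) :
    h ∉ Q ∧ t * h ∉ Q ∧ x * h ∉ Q :=
  ⟨fun h1 => by
      have h2 := Q.mul_mem hx (Q.inv_mem h1)
      rw [mul_assoc, mul_inv_cancel, mul_one] at h2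
      exact H.txQ h2,
    fun h1 => (H.disj_t h1).2.2 hx, fun h1 => (H.disj_x h1).2.2 hx⟩

end Leaf

namespace Ext

variable {t x v y : G} {Q S T : Subgroup G}

/-- `y` may be replaced by `r⁻¹ y`, `r ∈ Q`. -/
theorem mulQ (E : Ext t x v Q S T y) {r : G} (hr : r ∈ Q) : Ext t x v Q S T (r⁻¹ * y) := by
  have H := E.H
  have hrP : r ∈ Q ⊔ S := H.QP hr
  refine ⟨H, E.T2, E.PT, T.mul_mem (T.inv_mem (E.PT hrP)) E.yT, ?_, ?_, ?_, ?_⟩
  · intro h
    apply E.yP
    have h1 := mul_mem hrP h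
    rwa [mul_inv_cancel_left] at h1
  · have h1 : r⁻¹ * y * (r⁻¹ * y) = r⁻¹ * (y * r⁻¹ * y⁻¹) * (y * y) := by group
    rw [h1]
    exact mul_mem (mul_mem (inv_mem hrP) (E.yn _ (inv_mem hrP))) E.yy
  · intro p hp
    have h1 : r⁻¹ * y * p * (r⁻¹ * y)⁻¹ = r⁻¹ * (y * p * y⁻¹) * r := by group
    rw [h1]
    exact mul_mem (mul_mem (inv_mem hrP) (E.yn p hp)) hrP
  · obtain ⟨q1, hq1, hyt⟩ := E.yt'
    have h1 : t * x * (r⁻¹ * y * t * (r⁻¹ * y)⁻¹) =
        ((t * x) * r⁻¹ * (t * x)⁻¹) * ((t * x) * (t * x)) * (q1 * r) := by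
      calc t * x * (r⁻¹ * y * t * (r⁻¹ * y)⁻¹) = t * x * r⁻¹ * (y * t * y⁻¹) * r := by group
        _ = _ := by rw [hyt]; group
    rw [h1, H.txtx, mul_one]
    exact Q.mul_mem (H.txN _ (Q.inv_mem hr)) (Q.mul_mem hq1 hr)

/-- one may choose `y` commuting with `x`. -/
theorem exists_comm (E : Ext t x v Q S T y) : ∃ r ∈ Q, (r⁻¹ * y) * x = x * (r⁻¹ * y) := by
  have H := E.H
  obtain ⟨r, hr, hr2⟩ := conj_of_invol H.qsq H.xN H.x2 H.sq_x E.yx (by
    have : (y * x * y⁻¹) * (y * x * y⁻¹) = y * (x * x) * y⁻¹ := by group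
    rw [this, H.x2, mul_one, mul_inv_cancel])
  refine ⟨r, hr, ?_⟩
  calc (r⁻¹ * y) * x = r⁻¹ * (y * x * y⁻¹) * y := by group
    _ = x * (r⁻¹ * y) := by rw [← hr2]; group

theorem y_not_Q (E : Ext t x v Q S T y) : y ∉ Q := fun h => E.yP (E.H.QP h)

/-- `y` of order 2 is not conjugate to `t`. -/
theorem not_conj (E : Ext t x v Q S T y) (hyy : y * y = 1) {g : G} : g * t * g⁻¹ ≠ y := by
  intro hg
  have H := E.H
  have hyQ : y * y ∈ Q := by rw [hyy]; exact Q.one_mem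
  have hVC : cq Q x ≤ cq Q y := by
    intro w hw
    rw [mem_cq] at hw ⊢
    exact ⟨hw.1, E.cvx hyQ hw.1 hw.2⟩
  have hab0 : ∀ a ∈ cq Q y, ∀ b ∈ cq Q y, a * b = b * a := fun a ha b hb =>
    q_comm H.qsq (cq_le _ _ ha) (cq_le _ _ hb)
  have hCp : IsPGroup 2 (cq Q y) := H.Q2.to_le (cq_le _ _)
  have h4 : 4 ≤ Nat.card (cq Q y) := by
    have := card_le_of_le hVC
    rwa [H.cx] at this
  have hdvd : Nat.card (cq Q y) ∣ 16 := H.cardQ ▸ card_dvd_of_le (cq_le Q y)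
  by_cases hC : Nat.card (cq Q y) = 4
  · -- `C_Q(y) = C_Q(x)`
    have heq : cq Q x = cq Q y := eq_of_le_of_card_ge hVC (by rw [hC, H.cx])
    obtain ⟨q, hq, hyx⟩ := E.yx'
    have hyi : y⁻¹ = y := inv_eq_of_mul_eq_one_left hyy
    -- `q` commutes with `y`
    have hqy : q * y = y * q := by
      have h1 : y * (y * x * y⁻¹) * y⁻¹ = x := by
        calc y * (y * x * y⁻¹) * y⁻¹ = (y * y) * x * (y * y)⁻¹ := by group
          _ = x := by rw [hyy]; group
      have h2 : x * (q * (y * q * y⁻¹)) = x * 1 := by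
        calc x * (q * (y * q * y⁻¹)) = (y * x * y⁻¹) * (y * q * y⁻¹) := by rw [hyx]; group
          _ = y * (x * q) * y⁻¹ := by group
          _ = x * 1 := by rw [← hyx, h1, mul_one]
      have h3 : q * (y * q * y⁻¹) = 1 := mul_left_cancel h2
      have h4 : y * q * y⁻¹ = q := by
        rw [← q_inv H.qsq hq]
        rw [q_inv H.qsq hq]
        calc y * q * y⁻¹ = q⁻¹ * (q * (y * q * y⁻¹)) := by group
          _ = q := by rw [h3, mul_one, q_inv H.qsq hq]
      calc q * y = (y * q * y⁻¹) * y := by rw [h4]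
        _ = y * q := by group
    obtain ⟨r, hr, hr2⟩ := surj H.qsq E.yQ (fun a _ => by rw [hyy, one_mul, mul_one])
      (by rw [hC, H.cardQ]; rfl) hq hqy
    -- `x' = x r` commutes with `y`
    have hyr : y * r * y⁻¹ = q * r := by
      have h1 : y * r⁻¹ * y⁻¹ = r⁻¹ * q := by
        calc y * r⁻¹ * y⁻¹ = r⁻¹ * (r * y * r⁻¹) * y⁻¹ := by group
          _ = r⁻¹ * q := by rw [hr2]; group
      calc y * r * y⁻¹ = (y * r⁻¹ * y⁻¹)⁻¹ := by group
        _ = q⁻¹ * r := by rw [h1]; group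
        _ = q * r := by rw [q_inv H.qsq hq]
    set x' := x * r with hx'
    have hyx' : y * x' = x' * y := by
      have h1 : y * x' * y⁻¹ = x' := by
        calc y * x' * y⁻¹ = (y * x * y⁻¹) * (y * r * y⁻¹) := by rw [hx']; group
          _ = x * (q * q) * r := by rw [hyx, hyr]; group
          _ = x' := by rw [H.qsq q hq, mul_one]
      calc y * x' = (y * x' * y⁻¹) * y := by group
        _ = x' * y := by rw [h1]
    have hcx' : cq Q x = cq Q x' := cq_congr H.qsq (by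
      rw [hx']
      have : x⁻¹ * (x * r) = r := by group
      rw [this]; exact hr)
    have hx'c : ∀ a ∈ cq Q y, x' * a = a * x' := by
      intro a ha
      rw [← heq, hcx', mem_cq] at ha
      exact ha.2.symm
    have hx'n : ∀ a ∈ cq Q y, x' * a * x'⁻¹ ∈ cq Q y := by
      intro a ha
      rw [hx'c a ha]
      have : a * x' * x'⁻¹ = a := by group
      rwa [this]
    have hx'x' : x' * x' ∈ cq Q y := by
      rw [mem_cq]
      constructor
      · have h1 : x' * x' = (x * r * x⁻¹) * (x * x) * r := by rw [hx']; group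
        rw [h1, H.x2, mul_one]
        exact Q.mul_mem (H.xN r hr) hr
      · calc x' * x' * y = x' * (x' * y) := by group
          _ = x' * (y * x') := by rw [hyx']
          _ = (x' * y) * x' := by group
          _ = (y * x') * x' := by rw [hyx']
          _ = y * (x' * x') := by group
    have hx'C : x' ∉ cq Q y := by
      intro h
      apply H.xQ
      have h1 := Q.mul_mem (cq_le _ _ h) (Q.inv_mem hr)
      have h2 : x' * r⁻¹ = x := by rw [hx']; group
      rwa [h2] at h1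
    let C1 := two (cq Q y) x' hx'n hx'x'
    have hC1c : Nat.card C1 = 8 := by
      have := card_two (P := cq Q y) (y := x') (hn := hx'n) (hyy := hx'x') hx'C
      rw [hC] at this; exact this
    have hC1ab : ∀ a ∈ C1, ∀ b ∈ C1, a * b = b * a := abelian_two hab0 hx'c
    have hC1y : ∀ a ∈ C1, y * a = a * y := by
      rintro a (ha | ha)
      · exact ((mem_cq.1 ha).2).symm
      · have h1 := (mem_cq.1 ha).2
        -- `x' a` commutes with `y`
        have h2 : a = x'⁻¹ * (x' * a) := by group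
        have h3 : y * x'⁻¹ = x'⁻¹ * y := by
          calc y * x'⁻¹ = x'⁻¹ * (x' * y) * x'⁻¹ := by group
            _ = x'⁻¹ * y := by rw [← hyx']; group
        calc y * a = (y * x'⁻¹) * (x' * a) := by group
          _ = x'⁻¹ * (y * (x' * a)) := by rw [h3]; group
          _ = a * y := by rw [← h1]; group
    have hyn1 : ∀ a ∈ C1, y * a * y⁻¹ ∈ C1 := by
      intro a ha
      rw [hC1y a ha]
      have : a * y * y⁻¹ = a := by group
      rwa [this]
    have hyC1 : y ∉ C1 := by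
      rintro (h | h)
      · exact E.y_not_Q (cq_le _ _ h)
      · apply E.yP
        have h1 : y = x'⁻¹ * (x' * y) := by group
        rw [h1]
        exact mul_mem (inv_mem (mul_mem H.xP (H.QP hr))) (H.QP (cq_le _ _ h))
    have hyy1 : y * y ∈ C1 := by rw [hyy]; exact C1.one_mem
    have h1 := H.noab (B := two C1 y hyn1 hyy1) (g := g) (isPGroup_two (isPGroup_two hCp))
      (abelian_two hC1ab hC1y) (by
        intro b hb
        rw [hg]
        exact abelian_two (hn := hyn1) (hyy := hyy1) hC1ab hC1y b hb y self_mem_two)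
    rw [card_two hyC1, hC1c] at h1
    omega
  · have h8 : 8 ≤ Nat.card (cq Q y) := by
      obtain ⟨k, hk⟩ := (Nat.dvd_prime_pow Nat.prime_two (m := 4)).1 (by simpa using hdvd)
      rcases hk with ⟨hk4, hk⟩
      interval_cases k <;> omega
    have hyc : ∀ a ∈ cq Q y, y * a = a * y := fun a ha => (mem_cq.1 ha).2.symm
    have hyn : ∀ a ∈ cq Q y, y * a * y⁻¹ ∈ cq Q y := by
      intro a ha
      rw [hyc a ha]
      have : a * y * y⁻¹ = a := by group
      rwa [this]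
    have hyy1 : y * y ∈ cq Q y := by rw [hyy]; exact one_mem _
    have h1 := H.noab (B := two (cq Q y) y hyn hyy1) (g := g) (isPGroup_two hCp)
      (abelian_two hab0 hyc) (by
        intro b hb
        rw [hg]
        exact abelian_two (hn := hyn) (hyy := hyy1) hab0 hyc b hb y self_mem_two)
    rw [card_two (fun h => E.y_not_Q (cq_le _ _ h))] at h1
    omega

/-- `x` is not conjugate to `t` (in the presence of an extension). -/
theorem x_not_conj (E : Ext t x v Q S T y) {g : G} : g * t * g⁻¹ ≠ x := by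
  intro hg
  have H := E.H
  obtain ⟨r, hr, hrx⟩ := E.exists_comm
  have E' := E.mulQ hr
  set z := r⁻¹ * y with hz
  -- `C_{P₀}(x)`
  set C2 : Subgroup G := (Q ⊔ S) ⊓ centralizer ({x} : Set G) with hC2
  have hmem : ∀ a, a ∈ C2 ↔ a ∈ Q ⊔ S ∧ a * x = x * a := by
    intro a
    rw [hC2, mem_inf, mem_centralizer_singleton_iff]
  have hxn : ∀ a ∈ cq Q x, x * a * x⁻¹ ∈ cq Q x := by
    intro a ha
    have h1 : x * a * x⁻¹ = a := by rw [← (mem_cq.1 ha).2]; group
    rwa [h1]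
  have hxx : x * x ∈ cq Q x := by rw [H.x2]; exact one_mem _
  have hxC : x ∉ cq Q x := fun h => H.xQ (cq_le _ _ h)
  let D1 := two (cq Q x) x hxn hxx
  have hD1 : Nat.card D1 = 8 := by
    have := card_two (P := cq Q x) (y := x) (hn := hxn) (hyy := hxx) hxC
    rw [H.cx] at this; exact this
  have htn : ∀ a ∈ D1, t * a * t⁻¹ ∈ D1 := by
    have h0 : ∀ a ∈ cq Q x, t * a * t⁻¹ ∈ cq Q x := by
      intro a ha
      obtain ⟨ha1, ha2⟩ := mem_cq.1 ha
      refine mem_cq.2 ⟨H.tN a ha1, ?_⟩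
      rw [H.ti]
      calc (t * a * t) * x = t * a * (t * x) := by group
        _ = t * (a * x) * t := by rw [H.tx]; group
        _ = (t * x) * a * t := by rw [ha2]; group
        _ = x * (t * a * t) := by rw [H.tx]; group
    rintro a (ha | ha)
    · exact Or.inl (h0 a ha)
    · right
      have h1 : x * (t * a * t⁻¹) = t * (x * a) * t⁻¹ := by
        calc x * (t * a * t⁻¹) = (x * t) * a * t⁻¹ := by group
          _ = t * (x * a) * t⁻¹ := by rw [← H.tx]; group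
      rw [h1]; exact h0 _ ha
  have htt : t * t ∈ D1 := by rw [H.t2]; exact D1.one_mem
  have htD : t ∉ D1 := by
    rintro (h | h)
    · exact H.tQ (cq_le _ _ h)
    · apply H.txQ
      rw [H.tx]; exact cq_le _ _ h
  have hD2 : Nat.card (two D1 t htn htt) = 16 := by rw [card_two htD, hD1]
  have hle : two D1 t htn htt ≤ C2 := by
    have h0 : cq Q x ≤ C2 := by
      intro a ha
      obtain ⟨ha1, ha2⟩ := mem_cq.1 ha
      exact (hmem a).2 ⟨H.QP ha1, ha2⟩
    have hx0 : x ∈ C2 := (hmem x).2 ⟨H.xP, rfl⟩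
    have ht0 : t ∈ C2 := (hmem t).2 ⟨H.tP, H.tx⟩
    have h1 : D1 ≤ C2 := by
      rintro a (ha | ha)
      · exact h0 ha
      · have h2 : a = x⁻¹ * (x * a) := by group
        rw [h2]; exact C2.mul_mem (C2.inv_mem hx0) (h0 ha)
    rintro a (ha | ha)
    · exact h1 ha
    · have h2 : a = t⁻¹ * (t * a) := by group
      rw [h2]; exact C2.mul_mem (C2.inv_mem ht0) (h1 ha)
  have h16 : 16 ≤ Nat.card C2 := by
    have := card_le_of_le hle
    rwa [hD2] at this
  have hzn : ∀ a ∈ C2, z * a * z⁻¹ ∈ C2 := by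
    intro a ha
    obtain ⟨ha1, ha2⟩ := (hmem a).1 ha
    refine (hmem _).2 ⟨E'.yn a ha1, ?_⟩
    have h1 : z⁻¹ * x = x * z⁻¹ := by
      calc z⁻¹ * x = z⁻¹ * (x * z) * z⁻¹ := by group
        _ = x * z⁻¹ := by rw [← hrx]; group
    calc z * a * z⁻¹ * x = z * a * (z⁻¹ * x) := by group
      _ = z * (a * x) * z⁻¹ := by rw [h1]; group
      _ = (z * x) * a * z⁻¹ := by rw [ha2]; group
      _ = x * (z * a * z⁻¹) := by rw [hrx]; group
  have hzz : z * z ∈ C2 := by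
    refine (hmem _).2 ⟨E'.yy, ?_⟩
    calc z * z * x = z * (z * x) := by group
      _ = (z * x) * z := by rw [hrx, ← mul_assoc, hrx]
      _ = x * (z * z) := by rw [hrx]; group
  have hzC : z ∉ C2 := fun h => E'.yP ((hmem z).1 h).1
  have h1 := H.card_le (B := two C2 z hzn hzz) (g := g)
    (isPGroup_two (H.P02.to_le inf_le_left)) (by
      rw [hg]
      rintro b (hb | hb)
      · exact ((hmem b).1 hb).2
      · have h2 := ((hmem _).1 hb).2
        have h3 : b = z⁻¹ * (z * b) := by group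
        have h1 : z⁻¹ * x = x * z⁻¹ := by
          calc z⁻¹ * x = z⁻¹ * (x * z) * z⁻¹ := by group
            _ = x * z⁻¹ := by rw [← hrx]; group
        calc b * x = z⁻¹ * ((z * b) * x) := by group
          _ = (z⁻¹ * x) * (z * b) := by rw [h2]; group
          _ = x * b := by rw [h1]; group)
  rw [card_two hzC] at h1
  omega

/-- `y⁻¹ t y ∈ txQ`. -/
theorem yt_inv (E : Ext t x v Q S T y) : t * x * (y⁻¹ * t * y) ∈ Q := by
  have H := E.H
  obtain ⟨q1, hq1, hyt⟩ := E.yt'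
  obtain ⟨q2, hq2, hyx⟩ := E.yx'
  have h1 := E.inv_norm H.tP
  rcases H.mem_P0.1 h1 with h | h | h | h
  · exact absurd h (by
      have := H.not_conj_Q (g := y⁻¹)
      rwa [inv_inv] at this)
  · -- `y⁻¹ t y = t q`, so `t = (y t y⁻¹)(y q y⁻¹) ∈ txQ`
    exfalso
    set q := t * (y⁻¹ * t * y) with hq
    have h2 : y⁻¹ * t * y = t * q := by rw [hq, ← mul_assoc, H.t2, one_mul]
    have h3 : t = (t * x * q1) * (y * q * y⁻¹) := by
      calc t = y * (y⁻¹ * t * y) * y⁻¹ := by group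
        _ = (y * t * y⁻¹) * (y * q * y⁻¹) := by rw [h2]; group
        _ = _ := by rw [hyt]
    apply (H.disj_tx (h := t) ?_).2.1
    · rw [H.t2]; exact Q.one_mem
    · have h4 : t * x * t = t * x * ((t * x * q1) * (y * q * y⁻¹)) := by rw [← h3]
      rw [h4]
      have h5 : t * x * ((t * x * q1) * (y * q * y⁻¹)) = (t * x * (t * x)) * (q1 * (y * q * y⁻¹)) := by
        group
      rw [h5, H.txtx, one_mul]
      exact Q.mul_mem hq1 (E.yQ q h)
  · -- `y⁻¹ t y = x q`, so `t = (y x y⁻¹)(y q y⁻¹) ∈ xQ`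
    exfalso
    set q := x * (y⁻¹ * t * y) with hq
    have h2 : y⁻¹ * t * y = x * q := by rw [hq, ← mul_assoc, H.x2, one_mul]
    have h3 : t = (x * q2) * (y * q * y⁻¹) := by
      calc t = y * (y⁻¹ * t * y) * y⁻¹ := by group
        _ = (y * x * y⁻¹) * (y * q * y⁻¹) := by rw [h2]; group
        _ = _ := by rw [hyx]
    apply (H.disj_x (h := t) ?_).2.1
    · rw [H.t2]; exact Q.one_mem
    · have h4 : x * t = x * ((x * q2) * (y * q * y⁻¹)) := by rw [← h3]
      rw [h4]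
      have h5 : x * ((x * q2) * (y * q * y⁻¹)) = (x * x) * (q2 * (y * q * y⁻¹)) := by group
      rw [h5, H.x2, one_mul]
      exact Q.mul_mem hq2 (E.yQ q h)
  · exact h

/-- every involution-type element `u ∈ yP₀` satisfies the hypotheses on `y`. -/
theorem of_mem (E : Ext t x v Q S T y) {u : G} (hu : u ∉ Q ⊔ S) (hyu : y * u ∈ Q ⊔ S)
    (huu : u * u = 1) : Ext t x v Q S T u := by
  have H := E.H
  have hup : u = y⁻¹ * (y * u) := by group
  refine ⟨H, E.T2, E.PT, ?_, hu, ?_, ?_, ?_⟩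
  · rw [hup]; exact T.mul_mem (T.inv_mem E.yT) (E.PT hyu)
  · rw [huu]; exact one_mem _
  · intro p hp
    have h1 : u * p * u⁻¹ = y⁻¹ * ((y * u) * p * (y * u)⁻¹) * y := by group
    rw [h1]
    exact E.inv_norm (mul_mem (mul_mem hyu hp) (inv_mem hyu))
  · -- `u t u⁻¹ = y⁻¹ (p t p⁻¹) y`, `p t p⁻¹ = t q`
    have h1 := H.P0_t hyu
    set q := t * ((y * u) * t * (y * u)⁻¹) with hq
    have h2 : (y * u) * t * (y * u)⁻¹ = t * q := by rw [hq, ← mul_assoc, H.t2, one_mul]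
    have h3 : u * t * u⁻¹ = (y⁻¹ * t * y) * (y⁻¹ * q * y) := by
      calc u * t * u⁻¹ = y⁻¹ * ((y * u) * t * (y * u)⁻¹) * y := by group
        _ = _ := by rw [h2]; group
    have h4 : y⁻¹ * q * y ∈ Q := by
      have h5 : y⁻¹ * q * y = (y * y)⁻¹ * (y * q * y⁻¹) * (y * y) := by group
      rw [h5]
      have h6 := H.P0N (inv_mem E.yy) _ (E.yQ q h1)
      rwa [inv_inv] at h6
    rw [h3, ← mul_assoc]
    exact Q.mul_mem E.yt_inv h4

/-- `T₁ = P₀ ∪ yP₀` -/
abbrev T1 (E : Ext t x v Q S T y) : Subgroup G := two (Q ⊔ S) y E.yn E.yy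

/-- conjugates of `t` in `T₁`. -/
theorem fus (E : Ext t x v Q S T y) {g : G} (h : g * t * g⁻¹ ∈ E.T1) :
    t * (g * t * g⁻¹) ∈ Q ∨ t * x * (g * t * g⁻¹) ∈ Q := by
  have H := E.H
  have hsq : (g * t * g⁻¹) * (g * t * g⁻¹) = 1 := by
    have : (g * t * g⁻¹) * (g * t * g⁻¹) = g * (t * t) * g⁻¹ := by group
    rw [this, H.t2, mul_one, mul_inv_cancel]
  rcases h with h | h
  · rcases H.mem_P0.1 h with h1 | h1 | h1 | h1
    · exact absurd h1 H.not_conj_Q
    · exact Or.inl h1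
    · exfalso
      obtain ⟨r, hr, hr2⟩ := conj_of_invol H.qsq H.xN H.x2 H.sq_x h1 hsq
      apply E.x_not_conj (g := r⁻¹ * g)
      calc r⁻¹ * g * t * (r⁻¹ * g)⁻¹ = r⁻¹ * (g * t * g⁻¹) * r := by group
        _ = x := by rw [← hr2]; group
    · exact Or.inr h1
  · by_cases hP : g * t * g⁻¹ ∈ Q ⊔ S
    · exfalso
      apply E.yP
      have h1 := mul_mem h (inv_mem hP)
      rwa [mul_assoc, mul_inv_cancel, mul_one] at h1
    · exfalso
      exact (E.of_mem hP h hsq).not_conj hsq rfl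

/-- `T = T₁`. -/
theorem T_eq (E : Ext t x v Q S T y) : E.T1 = T := by
  have H := E.H
  have hle : E.T1 ≤ T := by
    rintro a (ha | ha)
    · exact E.PT ha
    · have h1 : a = y⁻¹ * (y * a) := by group
      rw [h1]; exact T.mul_mem (T.inv_mem E.yT) (E.PT ha)
  by_contra hne
  obtain ⟨n, hnT, hn1, hn⟩ := exists_normalizer_gt E.T2 (lt_of_le_of_ne hle hne)
  have h1 : n * t * n⁻¹ ∈ E.T1 := conj_mem_of_normalizer hn (Or.inl H.tP)
  rcases E.fus h1 with h | h
  · exact hn1 (Or.inl (H.mem_P0_of_conj E.T2 E.PT hnT h))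
  · -- `y n t n⁻¹ y⁻¹ ∈ tQ`
    apply hn1
    right
    apply H.mem_P0_of_conj E.T2 E.PT (T.mul_mem E.yT hnT)
    obtain ⟨q1, hq1, hyt⟩ := E.yt'
    obtain ⟨q2, hq2, hyx⟩ := E.yx'
    set q := t * x * (n * t * n⁻¹) with hq
    have h2 : n * t * n⁻¹ = t * x * q := by rw [hq, ← mul_assoc, H.txtx, one_mul]
    have h3 : t * (y * n * t * (y * n)⁻¹) = (t * t) * (x * q1 * x⁻¹) * (x * x) * q2 * (y * q * y⁻¹) := by
      calc t * (y * n * t * (y * n)⁻¹) = t * (y * (n * t * n⁻¹) * y⁻¹) := by group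
        _ = t * ((y * t * y⁻¹) * (y * x * y⁻¹) * (y * q * y⁻¹)) := by rw [h2]; group
        _ = _ := by rw [hyt, hyx]; group
    rw [h3, H.t2, H.x2, one_mul, mul_one]
    exact Q.mul_mem (Q.mul_mem (H.xN q1 hq1) hq2) (E.yQ q h)

end Ext

end Cfsg.Agent.StdL2.SFive.Leaf16
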