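import Cfsg.Agent.MTwelveType.SylowModel
import Cfsg.Agent.MTwelveType.Base
import Cfsg.Agent.StdL2.SFive.LeafHigh
import Cfsg.Agent.StdL2.Setup

import Cfsg.Agent.StdL2.FieldStart
import Cfsg.Agent.Transfer.PGroupNormal

/-!
# S1773, `q = 4`, `S₅`: the leaf `Q = Z₄²`

`t` inverts `Q = ⟨a, b⟩ ≃ Z₄ × Z₄`, the involution `x` commutes with `t` and interchanges `a` and `b`; the group
`T_V = Q⟨t, x⟩` of order 64 is a Sylow 2-subgroup of `N(V)`, `V = Ω₁(Q)`.

* `Data.exists_sylow` : `T_V` is a Sylow 2-subgroup of `G`;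
* `Data.isoM12` : `G` simple and `t` not conjugate to `a²` : `G ≃ M₁₂`;
* `Data.rank_le` : `L` normal, `x ∈ L`, `t ∉ L`, `|G : L| = 2` : `L` has 2-rank at most 2.
-/

set_option autoImplicit false
set_option linter.unusedSectionVars false

namespace Cfsg.Agent.StdL2.SFive.LeafZ4

open Cfsg Subgroup
open Cfsg.Agent.ClassificationK.GTwoModel Cfsg.Agent.ClassificationK.GTwoModel.T
open Cfsg.Agent.MTwelveType.SylowModel

variable {G : Type*} [Group G] {t x a b : G}

/-- The relations of `T_V`. -/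
structure Data (t x a b : G) : Prop where
  t2 : t * t = 1
  x2 : x * x = 1
  tx : t * x = x * t
  a4 : a ^ 4 = 1
  b4 : b ^ 4 = 1
  ab : a * b = b * a
  ta : t * a = a⁻¹ * t
  tb : t * b = b⁻¹ * t
  xa : x * a = b * x
  xb : x * b = a * x
  ne : a ^ 2 * b ^ 2 ≠ 1

/-- The data from an abelian group `Q` inverted by `t` and invariant under `x`. -/
theorem mk' {Q : Subgroup G} (hc : ∀ p ∈ Q, ∀ q ∈ Q, p * q = q * p) (ht : ∀ p ∈ Q, t * p * t⁻¹ = p⁻¹)
    (t2 : t * t = 1) (x2 : x * x = 1) (tx : t * x = x * t) (hx : ∀ p ∈ Q, x * p * x⁻¹ ∈ Q)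
    (ha : a ∈ Q) (a4 : a ^ 4 = 1) (hne : x * (a * a) * x⁻¹ ≠ a * a) : Data t x a (x * a * x⁻¹) := by
  have hb : x * a * x⁻¹ ∈ Q := hx a ha
  have hxi : x⁻¹ = x := inv_eq_of_mul_eq_one_right x2
  have b4 : (x * a * x⁻¹) ^ 4 = 1 := by rw [conj_pow, a4]; group
  refine ⟨t2, x2, tx, a4, b4, hc _ ha _ hb, ?_, ?_, ?_, ?_, ?_⟩
  · exact mul_inv_eq_iff_eq_mul.1 (ht a ha)
  · exact mul_inv_eq_iff_eq_mul.1 (ht _ hb)
  · group
  · calc x * (x * a * x⁻¹) = (x * x) * a * x⁻¹ := by group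
      _ = a * x := by rw [x2, hxi, one_mul]
  · intro h
    apply hne
    have h1 : (x * a * x⁻¹) ^ 2 = x * (a * a) * x⁻¹ := by rw [conj_pow, pow_two]
    have h2 : a * a * (a * a) = 1 := by
      have : a * a * (a * a) = a ^ 4 := by
        rw [show (4 : ℕ) = 2 + 2 from rfl, pow_add, pow_two]
      rw [this, a4]
    rw [h1, pow_two] at h
    have h3 : (a * a)⁻¹ = a * a := inv_eq_of_mul_eq_one_right h2
    have h4 : x * (a * a) * x⁻¹ = (a * a)⁻¹ := eq_inv_of_mul_eq_one_right h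
    rw [h4, h3]

namespace Data

/-- The homomorphism of the model of order 64. -/
noncomputable def hom (h : Data t x a b) : T (2 * 2) →* G :=
  liftHom (m := 2 * 2) h.a4 h.b4 h.ab h.t2 h.x2 h.tx h.ta h.tb h.xa h.xb

variable (h : Data t x a b)

theorem hom_apply (p : T (2 * 2)) : h.hom p = a ^ p.i.val * b ^ p.j.val * (bp t p.e * bp x p.d) := rfl

theorem hom_t : h.hom ⟨0, 0, true, false⟩ = t := by
  rw [hom_apply]; simp [bp]

theorem hom_x : h.hom ⟨0, 0, false, true⟩ = x := by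
  rw [hom_apply]; simp [bp]

theorem hom_a : h.hom ⟨1, 0, false, false⟩ = a := by
  rw [hom_apply]
  show a ^ (1 : ZMod (2 * 2)).val * b ^ (0 : ZMod (2 * 2)).val * (1 * 1) = a
  have h1 : (1 : ZMod (2 * 2)).val = 1 := by decide
  have h0 : (0 : ZMod (2 * 2)).val = 0 := by decide
  rw [h1, h0]
  simp

theorem hom_b : h.hom ⟨0, 1, false, false⟩ = b := by
  rw [hom_apply]
  show a ^ (0 : ZMod (2 * 2)).val * b ^ (1 : ZMod (2 * 2)).val * (1 * 1) = b
  have h1 : (1 : ZMod (2 * 2)).val = 1 := by decide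
  have h0 : (0 : ZMod (2 * 2)).val = 0 := by decide
  rw [h1, h0]
  simp

theorem hom_z : h.hom (z 2) = a ^ 2 * b ^ 2 := by
  rw [hom_apply]
  show a ^ (2 : ZMod (2 * 2)).val * b ^ (2 : ZMod (2 * 2)).val * (1 * 1) = _
  have h1 : (2 : ZMod (2 * 2)).val = 2 := by decide
  rw [h1]
  simp

set_option maxRecDepth 100000 in
theorem center_model : ∀ p : T (2 * 2), (∀ q : T (2 * 2), q * p = p * q) → p = 1 ∨ p = z 2 := by
  decide

theorem inj : Function.Injective h.hom := by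
  rw [← MonoidHom.ker_eq_bot_iff]
  by_contra hne
  have hp : IsPGroup 2 (T (2 * 2)) := by
    have h64 : Nat.card (T (2 * 2)) = 2 ^ 6 := by rw [card_T]; norm_num
    exact IsPGroup.of_card h64
  haveI : Fact (Nat.Prime 2) := ⟨Nat.prime_two⟩
  obtain ⟨c, hc, hcz, ho⟩ := Cfsg.Agent.Transfer.PGroupNormal.exists_mem_inf_center_orderOf hp h.hom.ker hne
  rcases center_model c (fun q => (Subgroup.mem_center_iff.1 hcz q)) with rfl | rfl
  · simp at ho
  · have h1 : h.hom (z 2) = 1 := hc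
    rw [hom_z] at h1
    exact h.ne h1

theorem isPGroup_range : IsPGroup 2 (h.hom.range : Subgroup G) := by
  have h64 : Nat.card (T (2 * 2)) = 2 ^ 6 := by rw [card_T]; norm_num
  have h1 : Nat.card h.hom.range = 2 ^ 6 := by
    rw [← h64]
    exact (Nat.card_congr (MonoidHom.ofInjective h.inj).toEquiv).symm
  exact IsPGroup.of_card h1

theorem card_range : Nat.card (h.hom.range : Subgroup G) = 64 := by
  have h64 : Nat.card (T (2 * 2)) = 64 := by rw [card_T]; norm_num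
  rw [← h64]
  exact (Nat.card_congr (MonoidHom.ofInjective h.inj).toEquiv).symm

theorem t_mem : t ∈ h.hom.range := ⟨_, h.hom_t⟩
theorem x_mem : x ∈ h.hom.range := ⟨_, h.hom_x⟩
theorem a_mem : a ∈ h.hom.range := ⟨_, h.hom_a⟩
theorem b_mem : b ∈ h.hom.range := ⟨_, h.hom_b⟩

set_option maxRecDepth 100000 in
theorem squares_model : ∀ p : T (2 * 2), (p * p) * (p * p) = 1 →
    p * p = 1 ∨ p * p = ⟨2, 0, false, false⟩ ∨ p * p = ⟨0, 2, false, false⟩ ∨
      p * p = ⟨2, 2, false, false⟩ := by decide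

/-- `V = Ω₁(Q)`, elementwise -/
def InV (a b v : G) : Prop := v = 1 ∨ v = a ^ 2 ∨ v = b ^ 2 ∨ v = a ^ 2 * b ^ 2

theorem hom_a2 : h.hom ⟨2, 0, false, false⟩ = a ^ 2 := by
  rw [hom_apply]
  show a ^ (2 : ZMod (2 * 2)).val * b ^ (0 : ZMod (2 * 2)).val * (1 * 1) = _
  have h1 : (2 : ZMod (2 * 2)).val = 2 := by decide
  have h0 : (0 : ZMod (2 * 2)).val = 0 := by decide
  rw [h1, h0]
  simp

theorem hom_b2 : h.hom ⟨0, 2, false, false⟩ = b ^ 2 := by
  rw [hom_apply]
  show a ^ (0 : ZMod (2 * 2)).val * b ^ (2 : ZMod (2 * 2)).val * (1 * 1) = _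
  have h1 : (2 : ZMod (2 * 2)).val = 2 := by decide
  have h0 : (0 : ZMod (2 * 2)).val = 0 := by decide
  rw [h1, h0]
  simp

theorem inV_of_square {v y : G} (hy : y ∈ h.hom.range) (hv : y * y = v) (hv2 : v * v = 1) :
    InV a b v := by
  obtain ⟨p, rfl⟩ := hy
  rw [← map_mul] at hv
  subst hv
  rw [← map_mul, ← map_one h.hom] at hv2
  rcases squares_model p (h.inj hv2) with e | e | e | e
  · left; rw [e, map_one]
  · right; left; rw [e, hom_a2]
  · right; right; left; rw [e, hom_b2]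
  · right; right; right
    rw [e]
    exact h.hom_z

theorem exists_square {v : G} (hv : InV a b v) : v * v = 1 ∧ ∃ y ∈ h.hom.range, y * y = v := by
  have a4 := h.a4
  have b4 := h.b4
  have ha : a ^ 2 * a ^ 2 = 1 := by rw [← pow_add]; exact a4
  have hb : b ^ 2 * b ^ 2 = 1 := by rw [← pow_add]; exact b4
  have hab : a ^ 2 * b ^ 2 = b ^ 2 * a ^ 2 := ((show Commute a b from h.ab).pow_pow 2 2).eq
  rcases hv with rfl | rfl | rfl | rfl
  · exact ⟨one_mul 1, 1, one_mem _, one_mul 1⟩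
  · exact ⟨ha, a, h.a_mem, (pow_two a).symm⟩
  · exact ⟨hb, b, h.b_mem, (pow_two b).symm⟩
  · refine ⟨?_, a * b, mul_mem h.a_mem h.b_mem, ?_⟩
    · calc a ^ 2 * b ^ 2 * (a ^ 2 * b ^ 2) = a ^ 2 * (b ^ 2 * a ^ 2) * b ^ 2 := by group
        _ = a ^ 2 * (a ^ 2 * b ^ 2) * b ^ 2 := by rw [hab]
        _ = (a ^ 2 * a ^ 2) * (b ^ 2 * b ^ 2) := by group
        _ = 1 := by rw [ha, hb, one_mul]
    · calc a * b * (a * b) = a * (b * a) * b := by group
        _ = a * (a * b) * b := by rw [h.ab]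
        _ = a ^ 2 * b ^ 2 := by rw [pow_two, pow_two]; group

/-- an element normalising `T_V` normalises `V` -/
theorem inV_conj {n v : G} (hn : n ∈ normalizer (h.hom.range : Set G)) (hv : InV a b v) :
    InV a b (n * v * n⁻¹) := by
  obtain ⟨h1, y, hy, h2⟩ := h.exists_square hv
  refine h.inV_of_square (y := n * y * n⁻¹) ((mem_normalizer_iff.1 hn y).1 hy) ?_ ?_
  · rw [← h2]; group
  · calc n * v * n⁻¹ * (n * v * n⁻¹) = n * (v * v) * n⁻¹ := by group
      _ = 1 := by rw [h1]; group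

/-- `T_V` is a Sylow 2-subgroup of `G` if it is one of `N(V)`. -/
theorem exists_sylow [Finite G]
    (hmax : ∀ R : Subgroup G, IsPGroup 2 R → h.hom.range ≤ R →
      (∀ r ∈ R, ∀ v, InV a b v → InV a b (r * v * r⁻¹)) → R ≤ h.hom.range) :
    ∃ S : Sylow 2 G, (S : Subgroup G) = h.hom.range := by
  obtain ⟨S, hS⟩ := h.isPGroup_range.exists_le_sylow
  refine ⟨S, ?_⟩
  by_contra hne
  have hlt : h.hom.range < (S : Subgroup G) := lt_of_le_of_ne hS (fun e => hne e.symm)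
  obtain ⟨n, hnS, hnT, hnN⟩ :=
    Cfsg.Agent.StdL2.FieldStart.exists_normalizer_gt S.isPGroup' hlt
  apply hnT
  refine hmax (h.hom.range ⊔ zpowers n) ?_ le_sup_left ?_ ((le_sup_right : zpowers n ≤ _) (mem_zpowers n))
  · exact S.isPGroup'.to_le (sup_le hS (by rw [zpowers_le]; exact hnS))
  · intro r hr v hv
    apply h.inV_conj _ hv
    have h1 : h.hom.range ⊔ zpowers n ≤ normalizer (h.hom.range : Set G) :=
      sup_le le_normalizer (by rw [zpowers_le]; exact hnN)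
    exact h1 hr

/-! ### the homocyclic subgroup of the model -/

/-- the homocyclic subgroup of the model -/
def MA : Subgroup (T (2 * 2)) where
  carrier := {p | p.e = false ∧ p.d = false}
  mul_mem' := by
    rintro ⟨i, j, e, d⟩ ⟨i', j', e', d'⟩ ⟨h1, h2⟩ ⟨h3, h4⟩
    simp only at h1 h2 h3 h4
    subst h1 h2 h3 h4
    exact ⟨rfl, rfl⟩
  one_mem' := ⟨rfl, rfl⟩
  inv_mem' := by
    rintro ⟨i, j, e, d⟩ ⟨h1, h2⟩
    simp only at h1 h2
    subst h1 h2
    exact ⟨rfl, rfl⟩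

theorem card_MA : Nat.card MA = 16 := by
  have e : MA ≃ ZMod (2 * 2) × ZMod (2 * 2) :=
    { toFun := fun p => (p.1.i, p.1.j)
      invFun := fun p => ⟨⟨p.1, p.2, false, false⟩, rfl, rfl⟩
      left_inv := by
        rintro ⟨⟨i, j, e, d⟩, h1, h2⟩
        simp only at h1 h2
        subst h1 h2
        rfl
      right_inv := fun p => rfl }
  rw [Nat.card_congr e, Nat.card_prod, Nat.card_zmod]

theorem hom_MA {p : T (2 * 2)} (hp : p ∈ MA) : h.hom p = a ^ p.i.val * b ^ p.j.val := by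
  rw [hom_apply, hp.1, hp.2]
  simp [bp]

/-- `Q = ⟨a, b⟩` -/
theorem map_MA [Finite G] {Q : Subgroup G} (hQ : Nat.card Q = 16) (ha : a ∈ Q) (hb : b ∈ Q) :
    MA.map h.hom = Q := by
  apply Subgroup.eq_of_le_of_card_ge
  · rintro _ ⟨p, hp, rfl⟩
    rw [h.hom_MA hp]
    exact Q.mul_mem (Q.pow_mem ha _) (Q.pow_mem hb _)
  · rw [hQ, Nat.card_congr (MA.equivMapOfInjective _ h.inj).symm.toEquiv, card_MA]

set_option maxRecDepth 100000 in
theorem sq_MA : ∀ p : T (2 * 2), p.d = false → p.e = false → p * p = 1 →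
    p = 1 ∨ p = ⟨2, 0, false, false⟩ ∨ p = ⟨0, 2, false, false⟩ ∨ p = ⟨2, 2, false, false⟩ := by
  decide

set_option maxRecDepth 100000 in
theorem comm_model : ∀ y p : T (2 * 2), y.e = false → y.d = true → y * y = 1 → p.e = false →
    p * p = 1 → p * y = y * p → p = 1 ∨ p = z 2 ∨ p = y ∨ p = y * z 2 := by
  decide

include h in
theorem inV_of_mem {Q : Subgroup G} [Finite G] (hQ : Nat.card Q = 16) (ha : a ∈ Q) (hb : b ∈ Q)
    {v : G} (hv : v ∈ Q) (hv2 : v * v = 1) : InV a b v := by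
  rw [← h.map_MA hQ ha hb] at hv
  obtain ⟨p, hp, rfl⟩ := hv
  rw [← map_mul, ← map_one h.hom] at hv2
  rcases sq_MA p hp.2 hp.1 (h.inj hv2) with e | e | e | e
  · left; rw [e, map_one]
  · right; left; rw [e, hom_a2]
  · right; right; left; rw [e, hom_b2]
  · right; right; right
    rw [e]
    exact h.hom_z

end Data

/-! ### the leaf -/

/-- The statement S1741 (all groups). -/
def S1741Stmt.{u} : Prop :=
  ∀ (X : Type u) [Group X] [Finite X] [IsSimpleGroup X] (S : Sylow 2 X) (P : Sylow 2 ↥Cfsg.Spor.M12),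
    Nonempty (↥(S : Subgroup X) ≃* ↥(P : Subgroup ↥Cfsg.Spor.M12)) →
    (∃ x y : X, orderOf x = 2 ∧ orderOf y = 2 ∧ ¬ IsConj x y) → Cfsg.Spor.IsoM12 X

theorem card_le_four {M : Type*} [Group M] [Finite M] {F : Subgroup M} {p q r s : M}
    (h : ∀ x ∈ F, x = p ∨ x = q ∨ x = r ∨ x = s) : Nat.card F ≤ 4 := by
  classical
  have h1 : (F : Set M) ⊆ (({p, q, r, s} : Finset M) : Set M) := by
    intro x hx
    simpa using h x hx
  have h2 := Set.ncard_le_ncard h1 (Finset.finite_toSet _)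
  rw [Set.ncard_coe_finset] at h2
  exact h2.trans Finset.card_le_four

section Pos

open Cfsg.Agent.StdL2.FieldStart

variable [Finite G] {V Q S : Subgroup G}

/-- A 2-group containing `P = Q⟨t⟩` meets `C(V)` in `P`. -/
theorem cen_le_P (H : Pos t V Q S) {R : Subgroup G} (hR : IsPGroup 2 R) (hPR : H.P ≤ R) {y : G}
    (hy : y ∈ R) (hyV : ∀ v ∈ V, y * v = v * y) : y ∈ H.P := by
  by_contra hyP
  set C := R ⊓ centralizer (V : Set G) with hC
  have hPC : H.P ≤ C := by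
    refine le_inf hPR ?_
    intro p hp
    rw [mem_centralizer_iff]
    intro v hv
    exact (H.PV hp hv).symm
  have hlt : H.P < C := by
    refine lt_of_le_of_ne hPC (fun e => hyP ?_)
    rw [e]
    refine mem_inf.2 ⟨hy, ?_⟩
    rw [mem_centralizer_iff]
    exact fun v hv => (hyV v hv).symm
  obtain ⟨n, hnC, hnP, hnN⟩ := exists_normalizer_gt (hR.to_le inf_le_left : IsPGroup 2 C) hlt
  have hnV : ∀ v ∈ V, n * v = v * n := fun v hv =>
    ((mem_centralizer_iff.1 (mem_inf.1 hnC).2) v hv).symm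
  have h1 : n * t * n⁻¹ ∈ H.P := (mem_normalizer_iff.1 hnN t).1 H.tP
  obtain ⟨q, hq, h2⟩ := H.cls n hnV h1
  have h3 : (q⁻¹ * n) * t = t * (q⁻¹ * n) := by
    calc (q⁻¹ * n) * t = q⁻¹ * (n * t * n⁻¹) * n := by group
      _ = t * (q⁻¹ * n) := by rw [h2]; group
  have h4 : q⁻¹ * n ∈ R := R.mul_mem (R.inv_mem (hPR (H.QP hq))) (mem_inf.1 hnC).1
  have h5 : ∀ v ∈ V, (q⁻¹ * n) * v = v * (q⁻¹ * n) := by
    intro v hv
    have h6 := H.QV q hq v hv
    calc (q⁻¹ * n) * v = q⁻¹ * (n * v) := by group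
      _ = q⁻¹ * (v * q) * (q⁻¹ * n) := by rw [hnV v hv]; group
      _ = v * (q⁻¹ * n) := by rw [← h6]; group
  obtain ⟨k, hk⟩ := hR ⟨_, h4⟩
  have h6 := H.L.cen _ h3 h5 ⟨k, by simpa using congrArg Subtype.val hk⟩
  apply hnP
  have h7 : n = q * (q⁻¹ * n) := by group
  rw [h7]
  exact H.P.mul_mem (H.QP hq) (H.WP h6)

/-- A 2-subgroup of `N(V)` containing `P⟨x⟩` is `P ∪ xP`. -/
theorem nor_le (H : Pos t V Q S) {R : Subgroup G} (hR : IsPGroup 2 R) (hPR : H.P ≤ R) (hxR : x ∈ R)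
    (hRV : ∀ r ∈ R, ∀ v ∈ V, r * v * r⁻¹ ∈ V) (hxV : ∃ v ∈ V, x * v ≠ v * x) {y : G} (hy : y ∈ R) :
    y ∈ H.P ∨ x⁻¹ * y ∈ H.P := by
  haveI : Fact (Nat.Prime 2) := ⟨Nat.prime_two⟩
  have hVR : V ≤ R := fun v hv => hPR (H.QP (H.VQ hv))
  haveI : (V.subgroupOf R).Normal := by
    constructor
    intro n hn g
    rw [mem_subgroupOf] at hn ⊢
    exact hRV g g.2 n hn
  have hne : V.subgroupOf R ≠ ⊥ := by
    intro h
    have h1 : Nat.card (V.subgroupOf R) = Nat.card V :=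
      Nat.card_congr (subgroupOfEquivOfLe hVR).toEquiv
    rw [h, card_bot, H.L.V4] at h1
    omega
  obtain ⟨⟨z, hzR⟩, hz, hzc, hz2⟩ :=
    Involutions.NormalFour.exists_mem_center_of_normal hR _ hne
  have hzV : z ∈ V := mem_subgroupOf.1 hz
  have hz1 : z ≠ 1 := by
    rintro rfl
    rw [show (⟨1, hzR⟩ : R) = 1 from rfl, orderOf_one] at hz2
    omega
  have hzR' : ∀ r ∈ R, r * z = z * r := by
    intro r hr
    exact congrArg Subtype.val ((mem_center_iff.1 hzc) ⟨r, hr⟩)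
  obtain ⟨u, hu, hu1, huz, huz2, hall⟩ := four_elts H.L.V4 H.L.vsq hzV hz1
  have hact : ∀ r ∈ R, r * u * r⁻¹ = u ∨ r * u * r⁻¹ = u * z := by
    intro r hr
    rcases hall _ (hRV r hr u hu) with e | e | e | e
    · exfalso; apply hu1
      have := congrArg (fun w => r⁻¹ * w * r) e
      simpa [mul_assoc] using this
    · exfalso; apply huz
      have h3 : r * u * r⁻¹ = r * z * r⁻¹ := by rw [e, hzR' r hr]; group
      have := congrArg (fun w => r⁻¹ * w * r) h3
      simpa [mul_assoc] using this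
    · exact Or.inl e
    · exact Or.inr e
  have hcen : ∀ r, r * z = z * r → r * u * r⁻¹ = u → ∀ v ∈ V, r * v = v * r := by
    intro r hrz hru v hv
    have hru' : r * u = u * r := by
      have := congrArg (fun w => w * r) hru
      simpa [mul_assoc] using this
    rcases hall v hv with rfl | rfl | rfl | rfl
    · simp
    · exact hrz
    · exact hru'
    · rw [← mul_assoc, hru', mul_assoc, hrz, mul_assoc]
  have hxu : x * u * x⁻¹ = u * z := by
    rcases hact x hxR with e | e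
    · exfalso
      obtain ⟨v, hv, hv'⟩ := hxV
      exact hv' (hcen x (hzR' x hxR) e v hv)
    · exact e
  rcases hact y hy with e | e
  · exact Or.inl (cen_le_P H hR hPR hy (hcen y (hzR' y hy) e))
  · right
    refine cen_le_P H hR hPR (R.mul_mem (R.inv_mem hxR) hy) (hcen _ (hzR' _ (R.mul_mem (R.inv_mem hxR) hy)) ?_)
    calc x⁻¹ * y * u * (x⁻¹ * y)⁻¹ = x⁻¹ * (y * u * y⁻¹) * x := by group
      _ = x⁻¹ * (x * u * x⁻¹) * x := by rw [e, hxu]
      _ = u := by group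

/-- hypotheses of the leaf -/
structure Leaf (t x : G) (V Q S : Subgroup G) : Prop where
  H : Pos t V Q S
  hQ : Nat.card Q = 16
  hc : ∀ p ∈ Q, ∀ q ∈ Q, p * q = q * p
  inv : ∀ q ∈ Q, t * q * t⁻¹ = q⁻¹
  hsq : ∀ q ∈ Q, q * q ∈ V
  hx : x ∈ S
  x2 : x * x = 1
  hxW : x ∉ H.L.W

/-- every element of `V` is a square in `Q` -/
theorem exists_root (Z : Leaf t x V Q S) {v : G} (hv : v ∈ V) : ∃ q ∈ Q, q * q = v := by
  let f : Q →* V :=
    { toFun := fun q => ⟨(q : G) * q, Z.hsq q q.2⟩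
      map_one' := Subtype.ext (one_mul 1)
      map_mul' := by
        intro p q
        apply Subtype.ext
        show (p : G) * q * ((p : G) * q) = (p : G) * p * ((q : G) * q)
        have h1 := Z.hc q q.2 p p.2
        calc (p : G) * q * ((p : G) * q) = (p : G) * ((q : G) * p) * q := by group
          _ = (p : G) * p * ((q : G) * q) := by rw [h1]; group }
  have hker : f.ker = V.subgroupOf Q := by
    ext ⟨q, hq⟩
    rw [MonoidHom.mem_ker, mem_subgroupOf]
    constructor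
    · intro h
      have h1 : q * q = 1 := congrArg Subtype.val h
      apply Z.H.fixQ hq
      have h2 := Z.inv q hq
      have h3 : q⁻¹ = q := inv_eq_of_mul_eq_one_right h1
      rw [h3, mul_inv_eq_iff_eq_mul] at h2
      exact h2.symm
    · intro h
      exact Subtype.ext (Z.H.L.vsq q h)
  have h1 := f.ker.card_eq_card_quotient_mul_card_subgroup
  have hk4 : Nat.card f.ker = 4 := by
    rw [hker, Nat.card_congr (subgroupOfEquivOfLe Z.H.VQ).toEquiv, Z.H.L.V4]
  rw [Z.hQ, hk4, Nat.card_congr (QuotientGroup.quotientKerEquivRange f).toEquiv] at h1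
  have h2 : f.range = ⊤ := by
    apply Subgroup.eq_top_of_card_eq
    rw [Z.H.L.V4]
    omega
  obtain ⟨q, hq⟩ := (MonoidHom.range_eq_top.1 h2) ⟨v, hv⟩
  exact ⟨q, q.2, congrArg Subtype.val hq⟩

theorem exists_data (Z : Leaf t x V Q S) : ∃ a ∈ Q, x * a * x⁻¹ ∈ Q ∧ Data t x a (x * a * x⁻¹) := by
  have hmove : ∃ v ∈ V, x * v ≠ v * x := by
    by_contra hcon
    push Not at hcon
    exact Z.hxW (Z.H.cenS Z.hx hcon)
  obtain ⟨v, hv, hxv⟩ := hmove
  obtain ⟨a, ha, hav⟩ := exists_root Z hv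
  refine ⟨a, ha, Z.H.SQ x Z.hx a ha, ?_⟩
  refine mk' Z.hc Z.inv Z.H.L.t2 Z.x2 (Z.H.St Z.hx).symm (Z.H.SQ x Z.hx) ha ?_ ?_
  · have h1 : a ^ 4 = (a * a) * (a * a) := by
      rw [show (4 : ℕ) = 2 + 2 from rfl, pow_add, pow_two]
    rw [h1, hav, Z.H.L.vsq v hv]
  · rw [hav]
    intro h
    exact hxv (mul_inv_eq_iff_eq_mul.1 h)

theorem range_eq (Z : Leaf t x V Q S) {a b : G} (ha : a ∈ Q) (hb : b ∈ Q) (D : Data t x a b) :
    D.hom.range = Q ⊔ S := by
  apply le_antisymm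
  · rintro _ ⟨p, rfl⟩
    have hQT : Q ≤ Q ⊔ S := le_sup_left
    have hST : S ≤ Q ⊔ S := le_sup_right
    rw [D.hom_apply]
    refine mul_mem (mul_mem (pow_mem (hQT ha) _) (pow_mem (hQT hb) _)) (mul_mem ?_ ?_)
    · cases p.e
      · exact one_mem _
      · exact hST Z.H.tS
    · cases p.d
      · exact one_mem _
      · exact hST Z.hx
  · have hQr : Q ≤ D.hom.range := by
      rw [← D.map_MA Z.hQ ha hb]
      rintro _ ⟨p, -, rfl⟩
      exact ⟨p, rfl⟩
    refine sup_le hQr ?_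
    have hW : Z.H.L.W ≤ D.hom.range := by
      rintro w (hw | hw)
      · exact hQr (Z.H.VQ hw)
      · have h1 := D.hom.range.mul_mem D.t_mem (hQr (Z.H.VQ hw))
        rwa [← mul_assoc, Z.H.L.t2, one_mul] at h1
    intro s hs
    by_cases hsW : s ∈ Z.H.L.W
    · exact hW hsW
    · have h1 := hW (Z.H.mul_mem_W Z.hx hs Z.hxW hsW)
      have h2 := D.hom.range.mul_mem D.x_mem h1
      rwa [mul_inv_cancel_left] at h2

/-- `T = QS` is a Sylow 2-subgroup -/
theorem exists_sylow (Z : Leaf t x V Q S) {a b : G} (ha : a ∈ Q) (hb : b ∈ Q) (D : Data t x a b) :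
    ∃ R : Sylow 2 G, (R : Subgroup G) = D.hom.range := by
  have hr := range_eq Z ha hb D
  have hQr : Q ≤ D.hom.range := hr ▸ le_sup_left
  have hPr : Z.H.P ≤ D.hom.range := by
    rintro w (hw | hw)
    · exact hQr hw
    · have h1 := D.hom.range.mul_mem D.t_mem (hQr hw)
      rwa [← mul_assoc, Z.H.L.t2, one_mul] at h1
  refine D.exists_sylow ?_
  intro R hR hrR hRV y hy
  have hRV' : ∀ r ∈ R, ∀ v ∈ V, r * v * r⁻¹ ∈ V := by
    intro r hr' v hv
    have h1 : Data.InV a b v := D.inV_of_mem Z.hQ ha hb (Z.H.VQ hv) (Z.H.L.vsq v hv)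
    have h2 := hRV r hr' v h1
    have ha2 : a ^ 2 ∈ V := by rw [pow_two]; exact Z.hsq a ha
    have hb2 : b ^ 2 ∈ V := by rw [pow_two]; exact Z.hsq b hb
    rcases h2 with e | e | e | e
    · rw [e]; exact V.one_mem
    · rw [e]; exact ha2
    · rw [e]; exact hb2
    · rw [e]; exact V.mul_mem ha2 hb2
  have hmove : ∃ v ∈ V, x * v ≠ v * x := by
    by_contra hcon
    push Not at hcon
    exact Z.hxW (Z.H.cenS Z.hx hcon)
  rcases nor_le Z.H hR (hPr.trans hrR) (hrR D.x_mem) hRV' hmove hy with h | h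
  · exact hPr h
  · have h2 := D.hom.range.mul_mem D.x_mem (hPr h)
    rwa [mul_inv_cancel_left] at h2

theorem not_isConj (Z : Leaf t x V Q S) {v : G} (hv : v ∈ V) : ¬ IsConj t v := by
  intro h
  obtain ⟨g, hg⟩ := isConj_iff.1 h
  obtain ⟨k, hk, hkS⟩ := Z.H.into_S hg (F := Z.H.P) (isPGroup_dbl Z.H.L.t2 Z.H.tn Z.H.Q2)
    (fun f hf => Z.H.PV hf hv)
  have h1 : Z.H.P.map (MulAut.conj k).toMonoidHom ≤ S := by
    rintro _ ⟨f, hf, rfl⟩
    exact hkS f hf
  have h2 := Subgroup.card_le_of_le h1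
  rw [Nat.card_congr (Z.H.P.equivMapOfInjective _ (MulAut.conj k).injective).symm.toEquiv,
    Z.H.card_S] at h2
  have h3 : Nat.card Z.H.P = 2 * Nat.card Q := card_dbl Z.H.L.t2 Z.H.tn Z.H.tQ
  rw [h3, Z.hQ] at h2
  omega

/-- `G` simple: `G ≃ M₁₂`. -/
theorem alpha.{u} {G : Type u} [Group G] [Finite G] {t x : G} {V Q S : Subgroup G} [IsSimpleGroup G]
    (h1741 : S1741Stmt.{u}) (Z : Leaf t x V Q S) : Cfsg.Spor.IsoM12 G := by
  obtain ⟨a, ha, hb, D⟩ := exists_data Z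
  obtain ⟨R, hR⟩ := exists_sylow Z ha hb D
  have P : Sylow 2 ↥Cfsg.Spor.M12 := default
  obtain ⟨e⟩ := exists_equiv P
  refine h1741 G R P ⟨((MulEquiv.subgroupCongr hR).trans (MonoidHom.ofInjective D.inj).symm).trans e⟩
    ⟨t, a * a, ?_, ?_, not_isConj Z (Z.hsq a ha)⟩
  · exact orderOf_eq_prime (by rw [pow_two]; exact Z.H.L.t2) Z.H.L.t1
  · refine orderOf_eq_prime (by rw [pow_two]; exact Z.H.L.vsq _ (Z.hsq a ha)) ?_
    intro h
    apply D.ne
    have h1 : (x * a * x⁻¹) ^ 2 = x * (a * a) * x⁻¹ := by rw [conj_pow, pow_two]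
    rw [h1, pow_two, h]
    group

/-- elementary abelian subgroups of `Q⟨x⟩` have order at most 4. -/
theorem card_elem_le {a b : G} (D : Data t x a b) {L : Subgroup G} (hxL : x ∈ L) (htL : t ∉ L)
    (haL : a ∈ L) (hbL : b ∈ L) {F : Subgroup G} (hF : F ≤ D.hom.range) (hFL : F ≤ L)
    (hFc : ∀ p ∈ F, ∀ q ∈ F, p * q = q * p) (hF2 : ∀ p ∈ F, p * p = 1) : Nat.card F ≤ 4 := by
  set F' := F.comap D.hom with hF'
  have h1 : F'.map D.hom = F := by
    rw [hF', Subgroup.map_comap_eq, inf_eq_right.2 hF]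
  have h2 : Nat.card F = Nat.card F' := by
    rw [← h1]
    exact Nat.card_congr (F'.equivMapOfInjective _ D.inj).symm.toEquiv
  rw [h2]
  have hsq : ∀ p ∈ F', p * p = 1 := by
    intro p hp
    apply D.inj
    rw [map_mul, map_one]
    exact hF2 _ hp
  have hcm : ∀ p ∈ F', ∀ q ∈ F', p * q = q * p := by
    intro p hp q hq
    apply D.inj
    rw [map_mul, map_mul]
    exact hFc _ hp _ hq
  have he : ∀ p ∈ F', p.e = false := by
    intro p hp
    by_contra hcon
    have hpe : p.e = true := by simpa using hcon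
    apply htL
    have h3 : D.hom p ∈ L := hFL hp
    rw [D.hom_apply, hpe] at h3
    have h4 : a ^ p.i.val * b ^ p.j.val ∈ L := L.mul_mem (L.pow_mem haL _) (L.pow_mem hbL _)
    have h5 := L.mul_mem (L.inv_mem h4) h3
    rw [inv_mul_cancel_left] at h5
    have h6 : bp x p.d ∈ L := by
      cases p.d
      · exact L.one_mem
      · exact hxL
    have h7 := L.mul_mem h5 (L.inv_mem h6)
    rw [mul_inv_cancel_right] at h7
    exact h7
  by_cases hd : ∃ y ∈ F', y.d = true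
  · obtain ⟨y, hy, hyd⟩ := hd
    exact card_le_four (fun p hp => Data.comm_model y p (he y hy) hyd (hsq y hy) (he p hp) (hsq p hp)
      (hcm p hp y hy))
  · push Not at hd
    exact card_le_four (fun p hp => Data.sq_MA p (by simpa using hd p hp) (he p hp) (hsq p hp))

open Cfsg.Agent.StdL2.Setup

theorem beta_aux {L A : Subgroup G} (C : Conf L A t) (htL : t ∉ L) (hQL : Q ≤ L)
    (Z : Leaf t x V Q S) (hxL : x ∈ L) : PRankLE 2 2 ↥L := by
  obtain ⟨a, ha, hb, D⟩ := exists_data Z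
  obtain ⟨R, hR⟩ := exists_sylow Z ha hb D
  have hn := C.normal
  intro E hE hE2
  have hEc := hE.is_comm.comm
  -- `E` as a subgroup of `G`
  set E' := E.map L.subtype with hE'
  have hc1 : Nat.card E' = Nat.card E :=
    Nat.card_congr (E.equivMapOfInjective _ L.subtype_injective).symm.toEquiv
  have hEp : IsPGroup 2 E' := by
    rintro ⟨_, e, he, rfl⟩
    refine ⟨1, ?_⟩
    apply Subtype.ext
    have := congrArg Subtype.val (hE2 e he)
    simpa using this
  obtain ⟨R', hR'⟩ := hEp.exists_le_sylow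
  obtain ⟨g, hg⟩ := MulAction.exists_smul_eq G R' R
  set F := E'.map (MulAut.conj g).toMonoidHom with hF
  have hc2 : Nat.card F = Nat.card E' :=
    Nat.card_congr (E'.equivMapOfInjective _ (MulAut.conj g).injective).symm.toEquiv
  rw [← hc1, ← hc2]
  refine card_elem_le (F := F) D hxL htL (hQL ha) (hQL hb) ?_ ?_ ?_ ?_
  · rw [← hR, ← hg]
    rintro _ ⟨e, he, rfl⟩
    rw [Sylow.coe_subgroup_smul]
    exact Subgroup.smul_mem_pointwise_smul _ _ _ (hR' he)
  · rintro _ ⟨_, ⟨e, he, rfl⟩, rfl⟩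
    exact hn.conj_mem _ e.2 g
  · rintro _ ⟨_, ⟨e, he, rfl⟩, rfl⟩ _ ⟨_, ⟨f, hf, rfl⟩, rfl⟩
    have h1 := hEc ⟨e, he⟩ ⟨f, hf⟩
    have h2 : (e : L) * f = f * e := congrArg Subtype.val h1
    have h3 : (e : G) * f = f * e := congrArg Subtype.val h2
    show (g * (e : G) * g⁻¹) * (g * (f : G) * g⁻¹) = (g * (f : G) * g⁻¹) * (g * (e : G) * g⁻¹)
    calc (g * (e : G) * g⁻¹) * (g * (f : G) * g⁻¹) = g * ((e : G) * f) * g⁻¹ := by group
      _ = g * ((f : G) * e) * g⁻¹ := by rw [h3]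
      _ = _ := by group
  · rintro _ ⟨_, ⟨e, he, rfl⟩, rfl⟩
    have h1 := hE2 e he
    have h2 : (e : L) * e = 1 := by rw [← pow_two]; exact h1
    have h3 : (e : G) * e = 1 := congrArg Subtype.val h2
    show (g * (e : G) * g⁻¹) * (g * (e : G) * g⁻¹) = 1
    calc (g * (e : G) * g⁻¹) * (g * (e : G) * g⁻¹) = g * ((e : G) * e) * g⁻¹ := by group
      _ = 1 := by rw [h3]; group

/-- `t ∉ L`: `L` has 2-rank at most 2. -/
theorem beta {L A : Subgroup G} (C : Conf L A t) (htL : t ∉ L) (hQL : Q ≤ L)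
    (Z : Leaf t x V Q S) : PRankLE 2 2 ↥L := by
  have hn := C.normal
  by_cases hxL : x ∈ L
  · exact beta_aux C htL hQL Z hxL
  · -- `t x ∈ L`
    have htx : t * x ∈ L := by
      have h1 : x ∈ L ⊔ zpowers t := by rw [C.gen]; exact mem_top x
      obtain ⟨l, hl, k, hk, hlk⟩ := Subgroup.mem_sup_of_normal_left.1 h1
      obtain ⟨n, rfl⟩ := mem_zpowers_iff.1 hk
      have ht2 : t ^ (2 : ℤ) = 1 := by
        rw [show (2 : ℤ) = ((2 : ℕ) : ℤ) from rfl, zpow_natCast, pow_two]; exact Z.H.L.t2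
      rcases Int.even_or_odd' n with ⟨c, rfl | rfl⟩
      · exfalso
        apply hxL
        rw [zpow_mul, ht2, one_zpow, mul_one] at hlk
        rw [← hlk]; exact hl
      · rw [zpow_add, zpow_mul, ht2, one_zpow, one_mul, zpow_one] at hlk
        have h2 : t * x = t * l * t⁻¹ := by rw [← hlk, Z.H.L.tinv]; group
        rw [h2]
        exact hn.conj_mem l hl t
    have Z' : Leaf t (t * x) V Q S :=
      { H := Z.H
        hQ := Z.hQ
        hc := Z.hc
        inv := Z.inv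
        hsq := Z.hsq
        hx := S.mul_mem Z.H.tS Z.hx
        x2 := by
          have h1 := Z.H.St Z.hx
          calc t * x * (t * x) = t * (x * t) * x := by group
            _ = (t * t) * (x * x) := by rw [h1]; group
            _ = 1 := by rw [Z.H.L.t2, Z.x2, one_mul]
        hxW := by
          intro h
          apply Z.hxW
          have h1 := Z.H.L.W.mul_mem Z.H.L.tW h
          rwa [← mul_assoc, Z.H.L.t2, one_mul] at h1 }
    exact beta_aux C htL hQL Z' htx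

end Pos

end Cfsg.Agent.StdL2.SFive.LeafZ4
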