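import Cfsg.Agent.StdL2.SFive.DispQ
import Cfsg.Agent.StdL2.SFive.LeafZ4
import Cfsg.Agent.StdL2.SFive.Leaf16

/-!
# S1773, `q = 4`, `S₅`, dispatcher: `m = 2`

If `|Q| = 16` then either `Q` is elementary abelian (`Leaf16.Leaf`) or `t` inverts `Q ≃ Z₄²` (`LeafZ4.Leaf`).
-/

set_option autoImplicit false
set_option linter.unusedSectionVars false
set_option linter.style.haveILetI false

open Subgroup

namespace Cfsg.Agent.StdL2.SFive

open Cfsg.Agent.StdL2.FieldStart Cfsg.Agent.StdL2.Setup Cfsg.Agent.StdL2.Assemble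
open LeafTools (cq mem_cq cq_le q_comm q_inv)

variable {G : Type*} [Group G] [Finite G] {A V Q S : Subgroup G} {t d x : G}

namespace Stg

theorem two_eq (L : Loc t V) (St : Stg t V Q) (D : Tri t V Q d) (hQ : Nat.card Q = 16) :
    St.two L = Q := by
  have hne : Q ≠ V := by
    rintro rfl
    rw [L.V4] at hQ; omega
  exact Subgroup.eq_of_le_of_card_ge (fun q hq => hq.1) (by rw [hQ, St.card_two L D hne])

/-- same value of `[·, t]` modulo `V` -/
theorem comm_congr (L : Loc t V) (St : Stg t V Q) {a b : G} (ha : a ∈ St.two L)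
    (hb : b ∈ St.two L) (h : a⁻¹ * b ∈ V) : b * t * b⁻¹ * t⁻¹ = a * t * a⁻¹ * t⁻¹ := by
  have h1 := St.comm_mul L ha ((St.two L).mul_mem ((St.two L).inv_mem ha) hb)
  rw [mul_inv_cancel_left] at h1
  have h2 : (a⁻¹ * b) * t * (a⁻¹ * b)⁻¹ * t⁻¹ = 1 := by
    rw [L.vt _ h]; group
  rw [h1, h2, mul_one]

theorem congr_of_comm (L : Loc t V) (St : Stg t V Q) {a b : G} (ha : a ∈ St.two L)
    (hb : b ∈ St.two L) (h : b * t * b⁻¹ * t⁻¹ = a * t * a⁻¹ * t⁻¹) : a⁻¹ * b ∈ V := by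
  have h1 := St.comm_mul L ha ((St.two L).mul_mem ((St.two L).inv_mem ha) hb)
  rw [mul_inv_cancel_left, h, left_eq_mul] at h1
  exact St.mem_V_of L (Q.mul_mem (Q.inv_mem ha.1) hb.1) h1

/-- involutions of `Q` are in `V` if `Q` is not elementary abelian. -/
theorem sq_inj (L : Loc t V) (St : Stg t V Q) (D : Tri t V Q d) (hne : Q ≠ V) {q0 : G}
    (hq0 : q0 ∈ St.two L) (h0 : q0 * q0 ≠ 1) {r : G} (hr : r ∈ St.two L) (hrr : r * r = 1) :
    r ∈ V := by
  have tP := St.tP L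
  by_contra hrV
  have ha1 : r * t * r⁻¹ * t⁻¹ ≠ 1 := fun h => hrV (St.mem_V_of L hr.1 h)
  obtain ⟨h3, h4, h5⟩ := D.third L (hr.2 t tP) ha1
  have hab := St.abelian_two L D hne
  have hb : d * r * d⁻¹ ∈ St.two L := St.conj_two L D r hr
  have hfb : d * r * d⁻¹ * t * (d * r * d⁻¹)⁻¹ * t⁻¹ = d * (r * t * r⁻¹ * t⁻¹) * d⁻¹ :=
    comm_conj D.dt r
  have hbb : d * r * d⁻¹ * (d * r * d⁻¹) = 1 := by
    have : d * r * d⁻¹ * (d * r * d⁻¹) = d * (r * r) * d⁻¹ := by group
    rw [this, hrr]; group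
  have hsq : ∀ a ∈ St.two L, ∀ b ∈ St.two L, a * a = 1 → b * b = 1 → a * b * (a * b) = 1 := by
    intro a ha b hb haa hbb
    calc a * b * (a * b) = a * (b * a) * b := by group
      _ = (a * a) * (b * b) := by rw [← hab a ha b hb]; group
      _ = 1 := by rw [haa, hbb, one_mul]
  have hVm : ∀ v ∈ V, v ∈ St.two L := fun v hv => St.V_two L hv
  apply h0
  have key : ∀ a ∈ St.two L, a * a = 1 → a⁻¹ * q0 ∈ V → q0 * q0 = 1 := by
    intro a ha haa h
    have e : q0 = a * (a⁻¹ * q0) := by group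
    rw [e]
    exact hsq a ha _ (hVm _ h) haa (L.vsq _ h)
  rcases St.hom_cases L hr hb hq0 ha1 (by rw [hfb]; exact h4) (by rw [hfb]; exact h5) with
    h | h | h | h
  · exact L.vsq _ h
  · exact key _ hr hrr h
  · exact key _ hb hbb h
  · exact key _ ((St.two L).mul_mem hr hb) (hsq _ hr _ hb hrr hbb) h

end Stg

namespace Pos

theorem mem_one_or (H : Pos t V Q S) {v0 : G} (hv0 : v0 ∈ V) (h0 : v0 ≠ 1)
    (hc : ∀ s ∈ S, s * v0 = v0 * s) {s : G} (hs : s ∈ S) (hsW : s ∉ H.L.W) {v : G} (hv : v ∈ V)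
    (hsv : s * v * s⁻¹ = v) : v = 1 ∨ v = v0 := by
  by_contra hcon
  push Not at hcon
  have h1 := H.swap hv0 h0 hc hs hsW hv hcon.1 hcon.2
  rw [hsv, left_eq_mul] at h1
  exact h0 h1

/-- `t` inverts `Q`. -/
theorem inv_of (H : Pos t V Q S) (St : Stg t V Q) (D : Tri t V Q d) (hQ : Nat.card Q = 16)
    (hx : x ∈ S) (hxW : x ∉ H.L.W) {q0 : G} (hq0 : q0 ∈ Q) (h0 : q0 * q0 ≠ 1) :
    ∀ q ∈ Q, t * q * t⁻¹ = q⁻¹ := by
  have L := H.L
  have hne : Q ≠ V := by
    rintro rfl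
    rw [L.V4] at hQ; omega
  have heq := St.two_eq L D hQ
  have tP := St.tP L
  have hmem : ∀ q ∈ Q, q ∈ St.two L := fun q hq => by rw [heq]; exact hq
  have hab := St.abelian_two L D hne
  obtain ⟨v0, hv0, hv01, hv0c⟩ := H.exists_v0
  obtain ⟨i, hi⟩ := D.trans L (St.sq_two L (hmem _ hq0)) h0 hv0 hv01
  set q := d ^ i * q0 * (d ^ i)⁻¹ with hqdef
  have hqQ : q ∈ Q := pow_conj_mem D.dQ i q0 hq0
  have hqq : q * q = v0 := by rw [← hi, hqdef]; group
  have hq2 := hmem q hqQ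
  -- injectivity of squaring modulo `V`
  have hinj : ∀ a ∈ Q, ∀ b ∈ Q, a * a = b * b → a⁻¹ * b ∈ V := by
    intro a ha b hb h
    refine St.sq_inj L D hne (hmem _ hq0) h0 (hmem _ (Q.mul_mem (Q.inv_mem ha) hb)) ?_
    have hc : a⁻¹ * b = b * a⁻¹ := hab _ (hmem _ (Q.inv_mem ha)) _ (hmem _ hb)
    calc a⁻¹ * b * (a⁻¹ * b) = a⁻¹ * (b * a⁻¹) * b := by group
      _ = (a * a)⁻¹ * (b * b) := by rw [← hc]; group
      _ = 1 := by rw [h, inv_mul_cancel]
  -- `[q, t] = v0`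
  have hxq : x * q * x⁻¹ ∈ Q := H.SQ x hx q hqQ
  have h1 : q⁻¹ * (x * q * x⁻¹) ∈ V := by
    apply hinj q hqQ _ hxq
    have : x * q * x⁻¹ * (x * q * x⁻¹) = x * (q * q) * x⁻¹ := by group
    rw [this, hqq, hv0c x hx, mul_inv_cancel_right]
  have h2 := St.comm_congr L hq2 (hmem _ hxq) h1
  rw [Stg.comm_conj (H.St hx) q] at h2
  have h3 : q * t * q⁻¹ * t⁻¹ = v0 := by
    rcases H.mem_one_or hv0 hv01 hv0c hx hxW (hq2.2 t tP) h2 with h | h
    · exfalso
      have h4 := St.mem_V_of L hqQ h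
      rw [L.vsq q h4] at hqq
      exact hv01 hqq.symm
    · exact h
  -- everywhere
  intro r hr
  have h5 : r * t * r⁻¹ * t⁻¹ = r * r := by
    by_cases hrr : r * r = 1
    · have h6 := St.sq_inj L D hne (hmem _ hq0) h0 (hmem _ hr) hrr
      rw [hrr, L.vt _ h6]; group
    · obtain ⟨j, hj⟩ := D.trans L hv0 hv01 (St.sq_two L (hmem _ hr)) hrr
      have hq'Q : d ^ j * q * (d ^ j)⁻¹ ∈ Q := pow_conj_mem D.dQ j q hqQ
      have h6 : d ^ j * q * (d ^ j)⁻¹ * (d ^ j * q * (d ^ j)⁻¹) = r * r := by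
        have : d ^ j * q * (d ^ j)⁻¹ * (d ^ j * q * (d ^ j)⁻¹) = d ^ j * (q * q) * (d ^ j)⁻¹ := by
          group
        rw [this, hqq, hj]
      have h7 := St.comm_congr L (hmem _ hq'Q) (hmem _ hr) (hinj _ hq'Q _ hr h6)
      rw [h7, Stg.comm_conj (Commute.pow_left (show Commute d t from D.dt) j) q, h3, hj]
  -- `r t r⁻¹ t⁻¹ = r r`
  have h8 : t * r⁻¹ * t⁻¹ = r := by
    have : t * r⁻¹ * t⁻¹ = r⁻¹ * (r * t * r⁻¹ * t⁻¹) := by group
    rw [this, h5]; group
  have h9 : t * r * t⁻¹ = (t * r⁻¹ * t⁻¹)⁻¹ := by group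
  rw [h9, h8]

theorem card_cq (H : Pos t V Q S) (St : Stg t V Q) (D : Tri t V Q d) (hQ : Nat.card Q = 16)
    (qsq : ∀ q ∈ Q, q * q = 1) {y : G} (hy : y ∈ S) (hyW : y ∉ H.L.W) (hyy : y * y = 1) :
    Nat.card (cq Q y) = 4 := by
  have L := H.L
  have heq := St.two_eq L D hQ
  have tP := St.tP L
  have hmem : ∀ q ∈ Q, q ∈ St.two L := fun q hq => by rw [heq]; exact hq
  obtain ⟨v0, hv0, hv01, hv0c⟩ := H.exists_v0
  have hyi : y⁻¹ = y := inv_of_sq hyy
  -- upper bound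
  have hup : Nat.card (cq Q y) ≤ 4 := by
    have h1 := card_le_two_mul (cq Q y) V (by
      intro a ha b hb haV hbV
      obtain ⟨haQ, hay⟩ := mem_cq.1 ha
      obtain ⟨hbQ, hby⟩ := mem_cq.1 hb
      have hval : ∀ c ∈ Q, c * y = y * c → c ∉ V → c * t * c⁻¹ * t⁻¹ = v0 := by
        intro c hc hcy hcV
        have e : y * c * y⁻¹ = c := by rw [← hcy, mul_inv_cancel_right]
        have h2 := Stg.comm_conj (H.St hy) c
        rw [e] at h2
        rcases H.mem_one_or hv0 hv01 hv0c hy hyW ((hmem c hc).2 t tP) h2.symm with h | h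
        · exact absurd (St.mem_V_of L hc h) hcV
        · exact h
      exact St.congr_of_comm L (hmem a haQ) (hmem b hbQ)
        ((hval b hbQ hby hbV).trans (hval a haQ hay haV).symm))
    have h2 : Nat.card (cq Q y ⊓ V : Subgroup G) ≤ 2 := by
      have h3 : ((cq Q y ⊓ V : Subgroup G) : Set G) ⊆ ({1, v0} : Set G) := by
        rintro v ⟨hv, hvV⟩
        obtain ⟨-, hvy⟩ := mem_cq.1 hv
        have e : y * v * y⁻¹ = v := by rw [← hvy, mul_inv_cancel_right]
        exact H.mem_one_or hv0 hv01 hv0c hy hyW hvV e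
      have h4 := Set.ncard_le_ncard h3 (Set.toFinite _)
      rw [Set.ncard_pair (Ne.symm hv01)] at h4
      exact h4
    omega
  -- lower bound
  have hlow : 16 ≤ Nat.card (cq Q y) * Nat.card (cq Q y) := by
    let f : Q →* Q :=
      { toFun := fun q => ⟨y * q * y⁻¹ * (q : G)⁻¹, Q.mul_mem (H.SQ y hy q q.2) (Q.inv_mem q.2)⟩
        map_one' := Subtype.ext (by show y * (1 : G) * y⁻¹ * (1 : G)⁻¹ = 1; group)
        map_mul' := by
          intro a b
          refine Subtype.ext ?_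
          show y * ((a : G) * b) * y⁻¹ * ((a : G) * b)⁻¹ =
            y * a * y⁻¹ * (a : G)⁻¹ * (y * b * y⁻¹ * (b : G)⁻¹)
          have h1 : (a : G)⁻¹ * (y * b * y⁻¹ * (b : G)⁻¹) = (y * b * y⁻¹ * (b : G)⁻¹) * (a : G)⁻¹ :=
            q_comm qsq (Q.inv_mem a.2) (Q.mul_mem (H.SQ y hy b b.2) (Q.inv_mem b.2))
          calc y * ((a : G) * b) * y⁻¹ * ((a : G) * b)⁻¹
              = y * a * y⁻¹ * ((y * b * y⁻¹ * (b : G)⁻¹) * (a : G)⁻¹) := by group
            _ = y * a * y⁻¹ * ((a : G)⁻¹ * (y * b * y⁻¹ * (b : G)⁻¹)) := by rw [h1]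
            _ = _ := by group }
    have hk : f.ker = (cq Q y).subgroupOf Q := by
      ext q
      rw [MonoidHom.mem_ker, mem_subgroupOf, mem_cq]
      constructor
      · intro h
        have h1 : y * (q : G) * y⁻¹ * (q : G)⁻¹ = 1 := congrArg Subtype.val h
        refine ⟨q.2, ?_⟩
        have h2 : y * (q : G) = (y * (q : G) * y⁻¹ * (q : G)⁻¹) * ((q : G) * y) := by group
        rw [h2, h1, one_mul]
      · rintro ⟨-, h⟩
        refine Subtype.ext ?_
        show y * (q : G) * y⁻¹ * (q : G)⁻¹ = 1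
        rw [← h]; group
    have hr : Nat.card f.range ≤ Nat.card (cq Q y) := by
      refine Nat.card_le_card_of_injective
        (fun z : f.range => (⟨((z : Q) : G), ?_⟩ : cq Q y)) ?_
      · obtain ⟨q, hq⟩ := z.2
        refine mem_cq.2 ⟨(z : Q).2, ?_⟩
        have h1 : ((z : Q) : G) = y * (q : G) * y⁻¹ * (q : G)⁻¹ := (congrArg Subtype.val hq).symm
        have h2 : y * ((z : Q) : G) * y⁻¹ = ((z : Q) : G)⁻¹ := by
          rw [h1, hyi]
          calc y * (y * (q : G) * y * (q : G)⁻¹) * y = (y * y) * (q : G) * y * (q : G)⁻¹ * y := by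
                group
            _ = (q : G) * y * (q : G)⁻¹ * y := by rw [hyy, one_mul]
            _ = (q : G) * y⁻¹ * (q : G)⁻¹ * y⁻¹ := by rw [hyi]
            _ = (y * (q : G) * y * (q : G)⁻¹)⁻¹ := by group
        rw [q_inv qsq (z : Q).2] at h2
        exact (mul_inv_eq_iff_eq_mul.1 h2).symm
      · intro a b hab
        have : ((a : Q) : G) = ((b : Q) : G) := congrArg (fun z : cq Q y => (z : G)) hab
        exact Subtype.ext (Subtype.ext this)
    have h1 := f.ker.card_mul_index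
    rw [index_ker, hk, Nat.card_congr (subgroupOfEquivOfLe (cq_le Q y)).toEquiv, hQ] at h1
    calc 16 = Nat.card (cq Q y) * Nat.card f.range := h1.symm
      _ ≤ _ := Nat.mul_le_mul_left _ hr
  nlinarith

/-- **`m = 2`**. -/
theorem leaf_two (H : Pos t V Q S) (St : Stg t V Q) (D : Tri t V Q d) (hQ : Nat.card Q = 16)
    (hx : x ∈ S) (hxW : x ∉ H.L.W) (hxx : x * x = 1) :
    LeafZ4.Leaf t x V Q S ∨ ∃ v, Leaf16.Leaf t x v Q S := by
  have L := H.L
  have hne : Q ≠ V := by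
    rintro rfl
    rw [L.V4] at hQ; omega
  have heq := St.two_eq L D hQ
  have hmem : ∀ q ∈ Q, q ∈ St.two L := fun q hq => by rw [heq]; exact hq
  by_cases hq : ∃ q0 ∈ Q, q0 * q0 ≠ 1
  · obtain ⟨q0, hq0, h0⟩ := hq
    left
    exact ⟨H, hQ, fun p hp q hq => St.abelian_two L D hne p (hmem p hp) q (hmem q hq),
      H.inv_of St D hQ hx hxW hq0 h0, fun q hq => St.sq_two L (hmem q hq), hx, hxx, hxW⟩
  · push Not at hq
    right
    obtain ⟨v0, hv0, hv01, hv0c⟩ := H.exists_v0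
    have htx : t * x = x * t := (H.St hx).symm
    have hCt : cq Q t = V := by
      ext v
      rw [mem_cq]
      exact ⟨fun h => H.fixQ h.1 h.2, fun h => ⟨H.VQ h, L.vt v h⟩⟩
    have htxS : t * x ∈ S := S.mul_mem H.tS hx
    have htxW : t * x ∉ H.L.W := by
      intro h
      apply hxW
      have := H.L.W.mul_mem H.L.tW h
      rwa [← mul_assoc, L.t2, one_mul] at this
    have htxx : t * x * (t * x) = 1 := by
      calc t * x * (t * x) = t * (x * t) * x := by group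
        _ = (t * t) * (x * x) := by rw [← htx]; group
        _ = 1 := by rw [L.t2, hxx, one_mul]
    obtain ⟨s, hs, v, hv, hsv⟩ := H.out
    refine ⟨v0, ⟨L.t2, hxx, htx, hq, hQ, H.S2, fun s hs => H.St hs, ?_, H.tS, hx, H.card_S,
      fun h => hsv (h s hs v (H.VS hv)), H.SQ, ?_, by rw [hCt, L.V4],
      H.card_cq St D hQ hq hx hxW hxx, H.card_cq St D hQ hq htxS htxW htxx, H.VQ hv0, hv01,
      L.vt v0 hv0, (hv0c x hx).symm, ?_, ?_⟩⟩
    · intro P hP hSP hPt
      exact H.Syl.2.2 P hP hSP (fun p hp => mem_centralizer_singleton_iff.2 (hPt p hp))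
    · intro s hs
      by_cases hsW : s ∈ H.L.W
      · rcases hsW with h | h
        · exact Or.inl (H.VQ h)
        · exact Or.inr (Or.inl (H.VQ h))
      · have h1 := H.mul_mem_W hx hs hxW hsW
        rw [inv_of_sq hxx] at h1
        rcases h1 with h | h
        · exact Or.inr (Or.inr (Or.inl (H.VQ h)))
        · refine Or.inr (Or.inr (Or.inr (H.VQ ?_)))
          rwa [mul_assoc]
    · intro q hq' hqt hqx
      exact H.mem_one_or hv0 hv01 hv0c hx hxW (H.fixQ hq' hqt)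
        (by rw [← hqx, mul_inv_cancel_right])
    · intro c hc
      -- `c x c⁻¹` commutes with `t`
      have hct : c * x * c⁻¹ * t = t * (c * x * c⁻¹) := by
        have h1 : c⁻¹ * t = t * c⁻¹ := by
          calc c⁻¹ * t = c⁻¹ * (t * c) * c⁻¹ := by group
            _ = t * c⁻¹ := by rw [← hc]; group
        calc c * x * c⁻¹ * t = c * (x * t) * c⁻¹ := by rw [mul_assoc, h1]; group
          _ = (c * t) * x * c⁻¹ := by rw [← htx]; group
          _ = t * (c * x * c⁻¹) := by rw [hc]; group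
      have hci : c⁻¹ * t = t * c⁻¹ := by
        calc c⁻¹ * t = c⁻¹ * (t * c) * c⁻¹ := by group
          _ = t * c⁻¹ := by rw [← hc]; group
      constructor
      · intro h
        have h1 := H.fixQ h hct
        have h2 := H.vcl c⁻¹ hci _ h1
        have e : c⁻¹ * (c * x * c⁻¹) * c⁻¹⁻¹ = x := by group
        rw [e] at h2
        exact hxW (Or.inl (h2 hx))
      · intro h
        have hct' : t * (c * x * c⁻¹) * t = t * (t * (c * x * c⁻¹)) := by
          rw [mul_assoc, hct]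
        have h1 := H.fixQ h hct'
        have h2 := H.vcl c⁻¹ hci _ h1
        have e : c⁻¹ * (t * (c * x * c⁻¹)) * c⁻¹⁻¹ = t * x := by
          calc c⁻¹ * (t * (c * x * c⁻¹)) * c⁻¹⁻¹ = (c⁻¹ * t) * c * x := by group
            _ = t * x := by rw [hci]; group
        rw [e] at h2
        exact hxW (Or.inr (h2 htxS))

end Pos

end Cfsg.Agent.StdL2.SFive
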