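import Cfsg.Agent.StdL2.SFive.Leaf16
import Cfsg.Agent.StdL2.Ends
import Cfsg.Agent.StdSz.EndClosed
import Cfsg.Agent.StdU3.TransferTE

/-!
# S1773, `q = 4`, `N(A)/C(A) = S₅`: the leaf `Q = E₁₆`, conclusions

`alpha`: `G` simple is impossible.  `beta`: `G = L⟨t⟩`, `t ∉ L`: `L` is of Lie type.
-/

set_option autoImplicit false
set_option linter.unusedSectionVars false

namespace Cfsg.Agent.StdL2.SFive.Leaf16

open Subgroup Cfsg.Agent.StdL2.FieldStart Cfsg.Agent.StdL2.SFive.LeafTools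
open Cfsg.Agent.StdL2.Setup Cfsg.Agent.StdL2.Assemble
open Cfsg.Agent.StdSz
open scoped commutatorElement

universe u

/-- In a simple group with a strongly embedded subgroup all involutions are conjugate. -/
theorem conj_of_embedded {L : Type*} [Group L] [Finite L] [IsSimpleGroup L] {H : Subgroup L}
    (hH : Cfsg.IsStronglyEmbedded H) (a b : L) (ha : orderOf a = 2) (hb : orderOf b = 2) :
    IsConj a b := by
  have hfact : Fact (Nat.Prime 2) := ⟨Nat.prime_two⟩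
  have h2 : 2 ∣ Nat.card H := hH.2.1.two_dvd
  obtain ⟨s, hs⟩ := exists_prime_orderOf_dvd_card' 2 h2
  have hs' : orderOf (s : L) = 2 := by rw [orderOf_coe]; exact hs
  obtain ⟨u, hu, huH⟩ : ∃ u : L, orderOf u = 2 ∧ u ∉ H := by
    by_contra hcon
    push Not at hcon
    have h3 : normalClosure ({(s : L)} : Set L) ≤ H := by
      rw [normalClosure, closure_le]
      intro x hx
      rw [Group.mem_conjugatesOfSet_iff] at hx
      obtain ⟨a, ha, hax⟩ := hx
      rw [Set.mem_singleton_iff] at ha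
      subst ha
      obtain ⟨c, hc⟩ := isConj_iff.mp hax
      apply hcon
      rw [← hc]
      have : orderOf (c * (s : L) * c⁻¹) = orderOf (s : L) := (MulAut.conj c).orderOf_eq (s : L)
      rw [this, hs']
    have h4 : (normalClosure ({(s : L)} : Set L)).Normal := normalClosure_normal
    rcases h4.eq_bot_or_eq_top with h5 | h5
    · have h6 : (s : L) ∈ normalClosure ({(s : L)} : Set L) :=
        subset_normalClosure (Set.mem_singleton _)
      rw [h5, mem_bot] at h6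
      rw [h6, orderOf_one] at hs'
      omega
    · rw [h5] at h3
      exact hH.1 (top_le_iff.mp h3)
  exact (Cfsg.Agent.S1225.result H hH u hu huH s s hs' s.2 hs' s.2).2 a b ha hb

namespace Leaf

variable {G : Type u} [Group G] [Finite G] {t x v : G} {Q S : Subgroup G}

theorem xxQ (H : Leaf t x v Q S) : x * x ∈ Q := by rw [H.x2]; exact Q.one_mem

/-- `Q⟨x⟩` -/
abbrev QX (H : Leaf t x v Q S) : Subgroup G := two Q x H.xN H.xxQ

theorem QX_le (H : Leaf t x v Q S) : H.QX ≤ H.P0 := by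
  rintro a (ha | ha)
  · exact H.QP ha
  · exact H.mem_P0.2 (Or.inr (Or.inr (Or.inl ha)))

theorem t_not_QX (H : Leaf t x v Q S) : t ∉ H.QX := by
  rintro (h | h)
  · exact H.tQ h
  · apply H.txQ
    rw [H.tx]; exact h

theorem QX_cov (H : Leaf t x v Q S) {g : G} (hg : g ∈ H.P0) : g ∈ H.QX ∨ t * g ∈ H.QX := by
  rcases H.mem_P0.1 hg with h | h | h | h
  · exact Or.inl (Or.inl h)
  · exact Or.inr (Or.inl h)
  · exact Or.inl (Or.inr h)
  · right; right
    rw [← mul_assoc, ← H.tx]; exact h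

theorem relIndex_QX (H : Leaf t x v Q S) : H.QX.relIndex H.P0 = 2 :=
  relIndex_two_of H.tP H.t_not_QX (fun _ hg => H.QX_cov hg)

theorem card_QX (H : Leaf t x v Q S) : Nat.card H.QX = 32 := by
  rw [card_two H.xQ, H.cardQ]

/-- `t ~ x` if `P₀` is Sylow in a group without subgroups of index 2. -/
theorem conj_x (H : Leaf t x v Q S) (T : Sylow 2 G) (hT : (T : Subgroup G) = H.P0)
    (hN : ¬ ∃ M : Subgroup G, M.Normal ∧ M.index = 2 ∧ t ∉ M) : ∃ g, g * t * g⁻¹ = x := by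
  rcases Cfsg.Agent.Transfer.ThompsonTransfer.thompson_transfer T H.QX (by rw [hT]; exact H.QX_le)
    (by rw [hT]; exact H.relIndex_QX) t (by rw [pow_two]; exact H.t2) with h | ⟨g, hg⟩
  · exact absurd h hN
  · have hsq : (g * t * g⁻¹) * (g * t * g⁻¹) = 1 := by
      have : (g * t * g⁻¹) * (g * t * g⁻¹) = g * (t * t) * g⁻¹ := by group
      rw [this, H.t2, mul_one, mul_inv_cancel]
    rcases hg with h | h
    · exact absurd h H.not_conj_Q
    · obtain ⟨r, hr, hr2⟩ := conj_of_invol H.qsq H.xN H.x2 H.sq_x h hsq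
      refine ⟨r⁻¹ * g, ?_⟩
      calc r⁻¹ * g * t * (r⁻¹ * g)⁻¹ = r⁻¹ * (g * t * g⁻¹) * r := by group
        _ = x := by rw [← hr2]; group

/-- the case where `P₀` is Sylow in the simple group `G`. -/
theorem false_of_eq [IsSimpleGroup G] (gold : EndClosed.Gold.{u}) (H : Leaf t x v Q S)
    (T : Sylow 2 G) (hT : (T : Subgroup G) = H.P0)
    (hN : ¬ ∃ M : Subgroup G, M.Normal ∧ M.index = 2 ∧ t ∉ M) : False := by
  obtain ⟨g1, hg1⟩ := H.conj_x T hT hN
  obtain ⟨g2, hg2⟩ := H.swap.conj_x T hT hN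
  -- every involution of `P₀ ∖ Q` is conjugate to `t`
  have key : ∀ h ∈ H.P0, h * h = 1 → h ∉ Q → ∃ g, g * t * g⁻¹ = h := by
    intro h hP hh hQ
    rcases H.mem_P0.1 hP with h1 | h1 | h1 | h1
    · exact absurd h1 hQ
    · obtain ⟨r, hr, hr2⟩ := conj_of_invol H.qsq H.tN H.t2 H.sq_t h1 hh
      exact ⟨r, hr2⟩
    · obtain ⟨r, hr, hr2⟩ := conj_of_invol H.qsq H.xN H.x2 H.sq_x h1 hh
      refine ⟨r * g1, ?_⟩
      rw [← hr2, ← hg1]; group
    · obtain ⟨r, hr, hr2⟩ := conj_of_invol H.qsq H.txN H.txtx H.sq_tx h1 hh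
      refine ⟨r * g2, ?_⟩
      rw [← hr2, ← hg2]; group
  have hsc : Cfsg.IsStronglyClosed Q (T : Subgroup G) := by
    refine ⟨by rw [hT]; exact H.QP, ?_⟩
    intro q hq g hg
    by_contra hcon
    rw [hT] at hg
    obtain ⟨k, hk⟩ := key _ hg (by
      have : (g * q * g⁻¹) * (g * q * g⁻¹) = g * (q * q) * g⁻¹ := by group
      rw [this, H.qsq q hq, mul_one, mul_inv_cancel]) hcon
    apply H.not_conj_Q (g := g⁻¹ * k)
    have h1 : g⁻¹ * k * t * (g⁻¹ * k)⁻¹ = q := by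
      calc g⁻¹ * k * t * (g⁻¹ * k)⁻¹ = g⁻¹ * (k * t * k⁻¹) * g := by group
        _ = q := by rw [hk]; group
    rw [h1]; exact hq
  have hne : Q ≠ ⊥ := by
    intro h
    have := H.vQ
    rw [h, mem_bot] at this
    exact H.v1 this
  have hcomm : IsMulCommutative Q := ⟨⟨fun a b => Subtype.ext (q_comm H.qsq a.2 b.2)⟩⟩
  rcases gold T Q hne hcomm hsc with h | ⟨K, hK⟩
  · apply H.nonab
    intro a ha b hb
    have haT : a ∈ (T : Subgroup G) := by rw [hT]; exact H.SP ha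
    have hbT : b ∈ (T : Subgroup G) := by rw [hT]; exact H.SP hb
    exact congrArg Subtype.val (h.is_comm.comm ⟨a, haT⟩ ⟨b, hbT⟩)
  · have hot : orderOf t = 2 := orderOf_eq_prime (by rw [pow_two]; exact H.t2) (by
      rintro rfl; exact H.tQ Q.one_mem)
    have hov : orderOf v = 2 := orderOf_eq_prime (by rw [pow_two]; exact H.qsq v H.vQ) H.v1
    obtain ⟨g, hg⟩ := isConj_iff.1 (conj_of_embedded hK t v hot hov)
    exact H.not_conj_Q (g := g) (by rw [hg]; exact H.vQ)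

end Leaf

namespace Ext

variable {G : Type u} [Group G] [Finite G] {t x v y : G} {Q S T : Subgroup G}

theorem yn' (E : Ext t x v Q S T y) : ∀ p ∈ E.H.QX, y * p * y⁻¹ ∈ E.H.QX := by
  have H := E.H
  obtain ⟨q2, hq2, hyx⟩ := E.yx'
  rintro p (hp | hp)
  · exact Or.inl (E.yQ p hp)
  · right
    set c := x * p with hc
    have h0 : p = x * c := by rw [hc, ← mul_assoc, H.x2, one_mul]
    have h1 : x * (y * p * y⁻¹) = (x * x) * (q2 * (y * c * y⁻¹)) := by
      calc x * (y * p * y⁻¹) = x * ((y * x * y⁻¹) * (y * c * y⁻¹)) := by rw [h0]; group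
        _ = _ := by rw [hyx]; group
    rw [h1, H.x2, one_mul]
    exact Q.mul_mem hq2 (E.yQ c hp)

theorem yy_QX (E : Ext t x v Q S T y) : y * y ∈ E.H.QX := by
  rcases E.yy' with h | h
  · exact Or.inl h
  · exact Or.inr h

/-- `U = Q⟨x,y⟩` -/
abbrev U (E : Ext t x v Q S T y) : Subgroup G := two E.H.QX y E.yn' E.yy_QX

theorem QX_le_T (E : Ext t x v Q S T y) : E.H.QX ≤ T := E.H.QX_le.trans E.PT

theorem U_le (E : Ext t x v Q S T y) : E.U ≤ T := by
  rintro a (ha | ha)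
  · exact E.QX_le_T ha
  · have h1 : a = y⁻¹ * (y * a) := by group
    rw [h1]; exact T.mul_mem (T.inv_mem E.yT) (E.QX_le_T ha)

theorem y_not_QX (E : Ext t x v Q S T y) : y ∉ E.H.QX := fun h => E.yP (E.H.QX_le h)

theorem card_U (E : Ext t x v Q S T y) : Nat.card E.U = 64 := by
  rw [card_two E.y_not_QX, E.H.card_QX]

/-- the elements of `U` in `P₀` are in `Q⟨x⟩` -/
theorem mem_QX_of (E : Ext t x v Q S T y) {h : G} (hU : h ∈ E.U) (hP : h ∈ Q ⊔ S) : h ∈ E.H.QX := by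
  rcases hU with h1 | h1
  · exact h1
  · exfalso
    apply E.yP
    have h2 := mul_mem (E.H.QX_le h1) (inv_mem hP)
    rwa [mul_assoc, mul_inv_cancel, mul_one] at h2

theorem tT (E : Ext t x v Q S T y) : t ∈ T := E.PT E.H.tP

theorem t_not_U (E : Ext t x v Q S T y) : t ∉ E.U := fun h =>
  E.H.t_not_QX (E.mem_QX_of h E.H.tP)

theorem relIndex_U (E : Ext t x v Q S T y) : E.U.relIndex T = 2 := by
  have H := E.H
  obtain ⟨q1, hq1, hyt⟩ := E.yt'
  refine relIndex_two_of E.tT E.t_not_U (fun g hg => ?_)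
  rw [← E.T_eq] at hg
  rcases hg with hg | hg
  · rcases H.QX_cov hg with h | h
    · exact Or.inl (Or.inl h)
    · exact Or.inr (Or.inl h)
  · rcases H.QX_cov hg with h | h
    · exact Or.inl (Or.inr h)
    · right; right
      -- `y t g = (t x q1 t⁻¹) (t y g)`
      have h1 : y * (t * g) = (t * x * q1) * (y * g) := by
        calc y * (t * g) = (y * t * y⁻¹) * (y * g) := by group
          _ = _ := by rw [hyt]
      have h2 : (t * x * q1) * (y * g) = (x * (t * q1 * t⁻¹)) * (t * (y * g)) := by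
        rw [H.tx]; group
      rw [h1, h2]
      have hx : x ∈ H.QX := self_mem_two
      exact H.QX.mul_mem (H.QX.mul_mem hx (le_two (H.tN q1 hq1))) h

/-- no conjugate of `t` is in `U`. -/
theorem fus_U (E : Ext t x v Q S T y) (g : G) : g * t * g⁻¹ ∉ E.U := by
  intro h
  have H := E.H
  have hT : g * t * g⁻¹ ∈ E.T1 := by rw [E.T_eq]; exact E.U_le h
  rcases E.fus hT with h1 | h1
  · have hP : g * t * g⁻¹ ∈ Q ⊔ S := H.mem_P0.2 (Or.inr (Or.inl h1))
    rcases E.mem_QX_of h hP with h2 | h2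
    · exact (H.disj_t h1).1 h2
    · exact (H.disj_t h1).2.1 h2
  · have hP : g * t * g⁻¹ ∈ Q ⊔ S := H.mem_P0.2 (Or.inr (Or.inr (Or.inr h1)))
    rcases E.mem_QX_of h hP with h2 | h2
    · exact (H.disj_tx h1).1 h2
    · exact (H.disj_tx h1).2.2 h2

/-- conjugates of `t` in `T` are `T`-conjugate to `t`. -/
theorem conj_T (E : Ext t x v Q S T y) {g : G} (h : g * t * g⁻¹ ∈ T) :
    ∃ s ∈ T, s * t * s⁻¹ = g * t * g⁻¹ := by
  have H := E.H
  have hsq : (g * t * g⁻¹) * (g * t * g⁻¹) = 1 := by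
    have : (g * t * g⁻¹) * (g * t * g⁻¹) = g * (t * t) * g⁻¹ := by group
    rw [this, H.t2, mul_one, mul_inv_cancel]
  have hT : g * t * g⁻¹ ∈ E.T1 := by rw [E.T_eq]; exact h
  rcases E.fus hT with h1 | h1
  · obtain ⟨r, hr, hr2⟩ := conj_of_invol H.qsq H.tN H.t2 H.sq_t h1 hsq
    exact ⟨r, E.PT (H.QP hr), hr2⟩
  · obtain ⟨r, hr, hr2⟩ := conj_of_invol H.qsq H.txN H.txtx H.sq_tx h1 hsq
    obtain ⟨r', hr', hr2'⟩ := conj_of_invol H.qsq H.txN H.txtx H.sq_tx E.yt (by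
      have : (y * t * y⁻¹) * (y * t * y⁻¹) = y * (t * t) * y⁻¹ := by group
      rw [this, H.t2, mul_one, mul_inv_cancel])
    refine ⟨r * r'⁻¹ * y, T.mul_mem (T.mul_mem (E.PT (H.QP hr)) (T.inv_mem (E.PT (H.QP hr')))) E.yT, ?_⟩
    calc r * r'⁻¹ * y * t * (r * r'⁻¹ * y)⁻¹ = r * (r'⁻¹ * (y * t * y⁻¹) * r') * r⁻¹ := by group
      _ = r * (t * x) * r⁻¹ := by rw [← hr2']; group
      _ = _ := hr2

theorem alpha (E : Ext t x v Q S T y) (T' : Sylow 2 G) (hT : (T' : Subgroup G) = T)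
    (hN : ¬ ∃ M : Subgroup G, M.Normal ∧ M.index = 2 ∧ t ∉ M) : False := by
  rcases Cfsg.Agent.Transfer.ThompsonTransfer.thompson_transfer T' E.U (by rw [hT]; exact E.U_le)
    (by rw [hT]; exact E.relIndex_U) t (by rw [pow_two]; exact E.H.t2) with h | ⟨g, hg⟩
  · exact hN h
  · exact E.fus_U g hg

end Ext

/-- **Case (alpha)**: `G` simple is impossible. -/
theorem alpha {G : Type u} [Group G] [Finite G] [IsSimpleGroup G] (gold : EndClosed.Gold.{u})
    {t x v : G} {Q S : Subgroup G} (H : Leaf t x v Q S) : False := by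
  have hN : ¬ ∃ M : Subgroup G, M.Normal ∧ M.index = 2 ∧ t ∉ M := by
    rintro ⟨M, hM, hi, -⟩
    rcases IsSimpleGroup.eq_bot_or_eq_top_of_normal M hM with h | h
    · rw [h, index_bot] at hi
      have h1 := Subgroup.card_le_card_group S
      rw [H.cardS, hi] at h1
      omega
    · rw [h, index_top] at hi
      omega
  obtain ⟨T, hT⟩ := H.P02.exists_le_sylow
  by_cases he : Q ⊔ S = (T : Subgroup G)
  · exact H.false_of_eq gold T he.symm hN
  · rcases H.exists_ext T.isPGroup' hT he with ⟨y, E⟩ | ⟨y, E⟩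
    · exact E.alpha T rfl hN
    · exact E.alpha T rfl hN

/-- class two from generators. -/
theorem class_two {G : Type*} [Group G] {U W : Subgroup G} (hWn : ∀ w ∈ W, ∀ u ∈ U, u * w * u⁻¹ ∈ W)
    (gens : Set G) (hg : gens ⊆ U) (hgen : ∀ Z : Subgroup G, gens ⊆ Z → U ≤ Z)
    (hcomm : ∀ a ∈ gens, ∀ b ∈ gens, a * b * a⁻¹ * b⁻¹ ∈ W) :
    ∀ a ∈ U, ∀ b ∈ U, a * b * a⁻¹ * b⁻¹ ∈ W := by
  have key : ∀ a ∈ U, (∀ b ∈ gens, a * b * a⁻¹ * b⁻¹ ∈ W) → ∀ b ∈ U, a * b * a⁻¹ * b⁻¹ ∈ W := by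
    intro a ha hab
    let Z : Subgroup G :=
      { carrier := {b | b ∈ U ∧ a * b * a⁻¹ * b⁻¹ ∈ W}
        one_mem' := ⟨U.one_mem, by simp⟩
        mul_mem' := by
          rintro b c ⟨hb, hb'⟩ ⟨hc, hc'⟩
          refine ⟨U.mul_mem hb hc, ?_⟩
          have h1 : a * (b * c) * a⁻¹ * (b * c)⁻¹ =
            (a * b * a⁻¹ * b⁻¹) * (b * (a * c * a⁻¹ * c⁻¹) * b⁻¹) := by group
          rw [h1]; exact W.mul_mem hb' (hWn _ hc' b hb)
        inv_mem' := by
          rintro b ⟨hb, hb'⟩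
          refine ⟨U.inv_mem hb, ?_⟩
          have h1 : a * b⁻¹ * a⁻¹ * b⁻¹⁻¹ = b⁻¹ * (a * b * a⁻¹ * b⁻¹)⁻¹ * b⁻¹⁻¹ := by group
          rw [h1]; exact hWn _ (W.inv_mem hb') _ (U.inv_mem hb) }
    intro b hb
    exact (hgen Z (fun c hc => ⟨hg hc, hab c hc⟩) hb).2
  intro a ha
  refine key a ha (fun b hb => ?_)
  have h1 := key b (hg hb) (fun c hc => hcomm b hb c hc) a ha
  have h2 : a * b * a⁻¹ * b⁻¹ = (b * a * b⁻¹ * a⁻¹)⁻¹ := by group
  rw [h2]; exact W.inv_mem h1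

namespace Leaf

variable {G : Type u} [Group G] [Finite G] {t x v : G} {Q S : Subgroup G}

/-- `[x,q] ∈ C_Q(x)` -/
theorem comm_x (H : Leaf t x v Q S) {q : G} (hq : q ∈ Q) : x * q * x⁻¹ * q⁻¹ ∈ cq Q x := by
  have ha : x * q * x⁻¹ * q⁻¹ ∈ Q := Q.mul_mem (H.xN q hq) (Q.inv_mem hq)
  have h1 : x * (x * q * x⁻¹ * q⁻¹) * x⁻¹ = (x * q * x⁻¹ * q⁻¹)⁻¹ := by
    calc x * (x * q * x⁻¹ * q⁻¹) * x⁻¹ = (x * x) * q * x⁻¹ * q⁻¹ * x⁻¹ := by group
      _ = q * x⁻¹ * q⁻¹ * x⁻¹ := by rw [H.x2, one_mul]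
      _ = q * x * q⁻¹ * x⁻¹ := by rw [H.xi]
      _ = (x * q * x⁻¹ * q⁻¹)⁻¹ := by group
  rw [q_inv H.qsq ha] at h1
  refine mem_cq.2 ⟨ha, ?_⟩
  calc (x * q * x⁻¹ * q⁻¹) * x = (x * (x * q * x⁻¹ * q⁻¹) * x⁻¹) * x := by rw [h1]
    _ = x * (x * q * x⁻¹ * q⁻¹) := by group

theorem comm_x' (H : Leaf t x v Q S) {q : G} (hq : q ∈ Q) : q * x * q⁻¹ * x⁻¹ ∈ cq Q x := by
  have h1 := (cq Q x).inv_mem (H.comm_x hq)
  have h2 : (x * q * x⁻¹ * q⁻¹)⁻¹ = q * x * q⁻¹ * x⁻¹ := by group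
  rwa [h2] at h1

theorem gen_QX (H : Leaf t x v Q S) (Z : Subgroup G) (h : (Q : Set G) ∪ {x} ⊆ Z) : H.QX ≤ Z := by
  rintro a (ha | ha)
  · exact h (Or.inl ha)
  · have h1 : a = x⁻¹ * (x * a) := by group
    rw [h1]
    exact Z.mul_mem (Z.inv_mem (h (Or.inr rfl))) (h (Or.inl ha))

/-- `Q⟨x⟩` has class two. -/
theorem class_QX (H : Leaf t x v Q S) : ∀ a ∈ H.QX, ∀ b ∈ H.QX, ∀ z ∈ H.QX,
    (a * b * a⁻¹ * b⁻¹) * z = z * (a * b * a⁻¹ * b⁻¹) := by
  have hc : ∀ w ∈ cq Q x, ∀ u ∈ H.QX, w * u = u * w := by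
    rintro w hw u (hu | hu)
    · exact q_comm H.qsq (cq_le _ _ hw) hu
    · obtain ⟨hw1, hw2⟩ := mem_cq.1 hw
      have h1 := q_comm H.qsq hw1 hu
      calc w * u = (w * x⁻¹) * (x * u) := by group
        _ = (w * x) * (x * u) := by rw [H.xi]
        _ = x * (w * (x * u)) := by rw [hw2]; group
        _ = x * (x * u) * w := by rw [h1]; group
        _ = u * w := by rw [← mul_assoc x x, H.x2, one_mul]
  have h1 := class_two (U := H.QX) (W := cq Q x) (fun w hw u hu => by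
      rw [← hc w hw u hu]
      have : w * u * u⁻¹ = w := by group
      rwa [this]) ((Q : Set G) ∪ {x}) (by
      rintro a (ha | ha)
      · exact le_two ha
      · rw [Set.mem_singleton_iff] at ha
        rw [ha]; exact self_mem_two) (H.gen_QX) (by
      rintro a (ha | ha) b (hb | hb)
      · have h2 := q_comm H.qsq ha hb
        have h3 : a * b * a⁻¹ * b⁻¹ = 1 := by rw [h2]; group
        rw [h3]; exact one_mem _
      · rw [Set.mem_singleton_iff] at hb
        rw [hb]; exact H.comm_x' ha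
      · rw [Set.mem_singleton_iff] at ha
        rw [ha]; exact H.comm_x hb
      · rw [Set.mem_singleton_iff] at ha hb
        rw [ha, hb]
        have h3 : x * x * x⁻¹ * x⁻¹ = 1 := by group
        rw [h3]; exact one_mem _)
  intro a ha b hb z hz
  exact hc _ (h1 a ha b hb) z hz

end Leaf

namespace Ext

variable {G : Type u} [Group G] [Finite G] {t x v y : G} {Q S T : Subgroup G}

/-- `y` may be replaced by `ty`. -/
theorem mulT (E : Ext t x v Q S T y) : Ext t x v Q S T (t * y) := by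
  have H := E.H
  refine ⟨H, E.T2, E.PT, T.mul_mem E.tT E.yT, ?_, ?_, ?_, ?_⟩
  · intro h
    apply E.yP
    have h1 := mul_mem (inv_mem H.tP) h
    rwa [inv_mul_cancel_left] at h1
  · have h1 : t * y * (t * y) = t * (y * t * y⁻¹) * (y * y) := by group
    rw [h1]
    exact mul_mem (mul_mem H.tP (E.yn _ H.tP)) E.yy
  · intro p hp
    have h1 : t * y * p * (t * y)⁻¹ = t * (y * p * y⁻¹) * t⁻¹ := by group
    rw [h1]
    exact mul_mem (mul_mem H.tP (E.yn p hp)) (inv_mem H.tP)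
  · obtain ⟨q1, hq1, hyt⟩ := E.yt'
    have h1 : t * x * (t * y * t * (t * y)⁻¹) = (t * x) * (t * (t * x * q1) * t⁻¹) := by
      calc t * x * (t * y * t * (t * y)⁻¹) = (t * x) * (t * (y * t * y⁻¹) * t⁻¹) := by group
        _ = _ := by rw [hyt]
    have h2 : (t * x) * (t * (t * x * q1) * t⁻¹) = ((t * x) * (t * x)) * (t * q1 * t⁻¹) := by
      calc (t * x) * (t * (t * x * q1) * t⁻¹) = (t * x) * ((t * t) * x * q1 * t⁻¹) := by group
        _ = (t * x) * (x * q1 * t⁻¹) := by rw [H.t2, one_mul]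
        _ = t * (x * x) * q1 * t⁻¹ := by group
        _ = t * q1 * t⁻¹ := by rw [H.x2, mul_one]
        _ = _ := by rw [H.txtx, one_mul]
    rw [h1, h2, H.txtx, one_mul]
    exact H.tN q1 hq1

/-- `[y,q] ∈ C_Q(x)` if `y² ∈ Q` and `y` commutes with `x`. -/
theorem comm_y (E : Ext t x v Q S T y) (hyQ : y * y ∈ Q) (hyx : y * x = x * y) {q : G} (hq : q ∈ Q) :
    y * q * y⁻¹ * q⁻¹ ∈ cq Q x := by
  have H := E.H
  have hVC : cq Q x ≤ cq Q y := by
    intro w hw
    rw [mem_cq] at hw ⊢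
    exact ⟨hw.1, E.cvx hyQ hw.1 hw.2⟩
  have hdvd : Nat.card (cq Q y) ∣ 16 := H.cardQ ▸ card_dvd_of_le (cq_le Q y)
  have h4 : 4 ≤ Nat.card (cq Q y) := by
    have := card_le_of_le hVC
    rwa [H.cx] at this
  have hcQ : ∀ r ∈ Q, y * r * y⁻¹ * r⁻¹ ∈ Q := fun r hr => Q.mul_mem (E.yQ r hr) (Q.inv_mem hr)
  by_cases hC : Nat.card (cq Q y) = 4
  · have heq : cq Q x = cq Q y := eq_of_le_of_card_ge hVC (by rw [hC, H.cx])
    rw [heq, mem_cq]
    refine ⟨hcQ q hq, ?_⟩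
    have h1 : y * (y * q * y⁻¹ * q⁻¹) * y⁻¹ = (y * q * y⁻¹ * q⁻¹)⁻¹ := by
      have h2 := q_comm H.qsq hyQ hq
      calc y * (y * q * y⁻¹ * q⁻¹) * y⁻¹ = (y * y * q) * (y * y)⁻¹ * (y * q⁻¹ * y⁻¹) := by group
        _ = (y * q * y⁻¹ * q⁻¹)⁻¹ := by rw [h2]; group
    rw [q_inv H.qsq (hcQ q hq)] at h1
    calc (y * q * y⁻¹ * q⁻¹) * y = (y * (y * q * y⁻¹ * q⁻¹) * y⁻¹) * y := by rw [h1]
      _ = y * (y * q * y⁻¹ * q⁻¹) := by group
  · have h8 : 8 ≤ Nat.card (cq Q y) := by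
      obtain ⟨k, hk⟩ := (Nat.dvd_prime_pow Nat.prime_two (m := 4)).1 (by simpa using hdvd)
      rcases hk with ⟨hk4, hk⟩
      interval_cases k <;> omega
    have back : ∀ r ∈ Q, y * r * y⁻¹ * r⁻¹ = 1 → r ∈ cq Q y := by
      intro r hr h
      refine mem_cq.2 ⟨hr, ?_⟩
      calc r * y = (y * r * y⁻¹ * r⁻¹)⁻¹ * (y * r) := by group
        _ = y * r := by rw [h]; group
    -- `x` commutes with `[y,q]`
    refine mem_cq.2 ⟨hcQ q hq, ?_⟩
    have hxx : x * (y * q * y⁻¹ * q⁻¹) * x⁻¹ = y * (x * q * x⁻¹) * y⁻¹ * (x * q * x⁻¹)⁻¹ := by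
      have h1 : y⁻¹ * x = x * y⁻¹ := by
        calc y⁻¹ * x = y⁻¹ * (x * y) * y⁻¹ := by group
          _ = x * y⁻¹ := by rw [← hyx]; group
      calc x * (y * q * y⁻¹ * q⁻¹) * x⁻¹ = (x * y) * q * y⁻¹ * q⁻¹ * x⁻¹ := by group
        _ = y * x * q * (x⁻¹ * (x * y⁻¹)) * q⁻¹ * x⁻¹ := by rw [← hyx]; group
        _ = y * (x * q * x⁻¹) * y⁻¹ * (x * q * x⁻¹)⁻¹ := by rw [← h1]; group
    by_cases hqC : q ∈ cq Q y
    · have h1 : y * q * y⁻¹ * q⁻¹ = 1 := by rw [← (mem_cq.1 hqC).2]; group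
      rw [h1, one_mul, mul_one]
    · have hxq : x * q * x⁻¹ ∉ cq Q y := by
        intro h
        apply hqC
        apply back q hq
        have h1 : y * (x * q * x⁻¹) * y⁻¹ * (x * q * x⁻¹)⁻¹ = 1 := by rw [← (mem_cq.1 h).2]; group
        rw [h1] at hxx
        calc y * q * y⁻¹ * q⁻¹ = x⁻¹ * (x * (y * q * y⁻¹ * q⁻¹) * x⁻¹) * x := by group
          _ = 1 := by rw [hxx]; group
      -- index two
      have hidx : ((cq Q y).subgroupOf Q).index = 2 := by
        have h1 := card_mul_index ((cq Q y).subgroupOf Q)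
        have h2 : Nat.card ((cq Q y).subgroupOf Q) = Nat.card (cq Q y) :=
          Nat.card_congr (subgroupOfEquivOfLe (cq_le Q y)).toEquiv
        rw [h2, H.cardQ] at h1
        have h3 : ((cq Q y).subgroupOf Q).index ≠ 1 := by
          intro h
          rw [index_eq_one, subgroupOf_eq_top] at h
          exact hqC (h hq)
        have h5 : ((cq Q y).subgroupOf Q).index ≤ 2 := by
          by_contra hcon
          have : 8 * 3 ≤ Nat.card (cq Q y) * ((cq Q y).subgroupOf Q).index :=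
            Nat.mul_le_mul h8 (by omega)
          omega
        have h6 : ((cq Q y).subgroupOf Q).index ≠ 0 := by
          intro h; rw [h] at h1; omega
        omega
      have hprod : (x * q * x⁻¹) * q⁻¹ ∈ cq Q y := by
        have h1 := (mul_mem_iff_of_index_two hidx (a := ⟨x * q * x⁻¹, H.xN q hq⟩)
          (b := ⟨q⁻¹, Q.inv_mem hq⟩)).2 (by
            constructor
            · intro h; exact absurd h hxq
            · intro h
              exact absurd (by simpa using (cq Q y).inv_mem h) hqC)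
        exact h1
      -- `[y, x q x⁻¹] = [y,q]`
      have h7 : y * (x * q * x⁻¹) * y⁻¹ * (x * q * x⁻¹)⁻¹ = y * q * y⁻¹ * q⁻¹ := by
        set m := (x * q * x⁻¹) * q⁻¹ with hm
        have h8 : x * q * x⁻¹ = m * q := by rw [hm]; group
        obtain ⟨hm1, hm2⟩ := mem_cq.1 hprod
        have h9 := q_comm H.qsq hm1 (E.yQ q hq)
        have h10 := q_comm H.qsq (Q.inv_mem hm1) (Q.inv_mem hq)
        rw [h8]
        calc y * (m * q) * y⁻¹ * (m * q)⁻¹ = (y * m) * q * y⁻¹ * (q⁻¹ * m⁻¹) := by group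
          _ = m * (y * q * y⁻¹) * (q⁻¹ * m⁻¹) := by rw [← hm2]; group
          _ = (y * q * y⁻¹) * m * (m⁻¹ * q⁻¹) := by rw [h9, h10]
          _ = y * q * y⁻¹ * q⁻¹ := by group
      rw [h7] at hxx
      calc (y * q * y⁻¹ * q⁻¹) * x = (x * (y * q * y⁻¹ * q⁻¹) * x⁻¹) * x := by rw [hxx]
        _ = x * (y * q * y⁻¹ * q⁻¹) := by group

theorem gen_U (E : Ext t x v Q S T y) (Z : Subgroup G) (h : ((Q : Set G) ∪ {x}) ∪ {y} ⊆ Z) :
    E.U ≤ Z := by
  have h0 : E.H.QX ≤ Z := E.H.gen_QX Z (fun a ha => h (Or.inl ha))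
  rintro a (ha | ha)
  · exact h0 ha
  · have h1 : a = y⁻¹ * (y * a) := by group
    rw [h1]
    exact Z.mul_mem (Z.inv_mem (h (Or.inr rfl))) (h0 ha)

theorem gens_le (E : Ext t x v Q S T y) : ((Q : Set G) ∪ {x}) ∪ {y} ⊆ (E.U : Set G) := by
  rintro a ((ha | ha) | ha)
  · exact le_two (le_two ha)
  · rw [Set.mem_singleton_iff] at ha
    rw [ha]; exact le_two self_mem_two
  · rw [Set.mem_singleton_iff] at ha
    rw [ha]; exact self_mem_two

/-- `U` has class two if `y² ∈ Q`. -/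
theorem class_U (E : Ext t x v Q S T y) (hyQ : y * y ∈ Q) (hyx : y * x = x * y) :
    ∀ a ∈ E.U, ∀ b ∈ E.U, ∀ z ∈ E.U, (a * b * a⁻¹ * b⁻¹) * z = z * (a * b * a⁻¹ * b⁻¹) := by
  have H := E.H
  have hc : ∀ w ∈ cq Q x, ∀ u ∈ E.U, w * u = u * w := by
    intro w hw u hu
    have h1 : E.U ≤ centralizer ({w} : Set G) := by
      apply E.gen_U
      rintro a ((ha | ha) | ha)
      · exact mem_centralizer_singleton_iff.2 (q_comm H.qsq ha (cq_le _ _ hw))
      · rw [Set.mem_singleton_iff] at ha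
        rw [ha]
        exact mem_centralizer_singleton_iff.2 ((mem_cq.1 hw).2).symm
      · rw [Set.mem_singleton_iff] at ha
        rw [ha]
        exact mem_centralizer_singleton_iff.2 (E.cvx hyQ (mem_cq.1 hw).1 (mem_cq.1 hw).2).symm
    exact (mem_centralizer_singleton_iff.1 (h1 hu)).symm
  have hxy : x * y * x⁻¹ * y⁻¹ = 1 := by rw [← hyx]; group
  have hyx' : y * x * y⁻¹ * x⁻¹ = 1 := by rw [hyx]; group
  have h1 := class_two (U := E.U) (W := cq Q x) (fun w hw u hu => by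
      rw [← hc w hw u hu]
      have : w * u * u⁻¹ = w := by group
      rwa [this]) (((Q : Set G) ∪ {x}) ∪ {y}) E.gens_le E.gen_U (by
      have inv : ∀ a b : G, a * b * a⁻¹ * b⁻¹ ∈ cq Q x → b * a * b⁻¹ * a⁻¹ ∈ cq Q x := by
        intro a b h
        have h2 : b * a * b⁻¹ * a⁻¹ = (a * b * a⁻¹ * b⁻¹)⁻¹ := by group
        rw [h2]; exact (cq Q x).inv_mem h
      rintro a ((ha | ha) | ha) b ((hb | hb) | hb)
      · have h2 := q_comm H.qsq ha hb
        have h3 : a * b * a⁻¹ * b⁻¹ = 1 := by rw [h2]; group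
        rw [h3]; exact one_mem _
      · rw [Set.mem_singleton_iff] at hb
        rw [hb]; exact H.comm_x' ha
      · rw [Set.mem_singleton_iff] at hb
        rw [hb]; exact inv _ _ (E.comm_y hyQ hyx ha)
      · rw [Set.mem_singleton_iff] at ha
        rw [ha]; exact H.comm_x hb
      · rw [Set.mem_singleton_iff] at ha hb
        rw [ha, hb]
        have h3 : x * x * x⁻¹ * x⁻¹ = 1 := by group
        rw [h3]; exact one_mem _
      · rw [Set.mem_singleton_iff] at ha hb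
        rw [ha, hb, hxy]; exact one_mem _
      · rw [Set.mem_singleton_iff] at ha
        rw [ha]; exact E.comm_y hyQ hyx hb
      · rw [Set.mem_singleton_iff] at ha hb
        rw [ha, hb, hyx']; exact one_mem _
      · rw [Set.mem_singleton_iff] at ha hb
        rw [ha, hb]
        have h3 : y * y * y⁻¹ * y⁻¹ = 1 := by group
        rw [h3]; exact one_mem _)
  intro a ha b hb z hz
  exact hc _ (h1 a ha b hb) z hz

theorem U_norm (E : Ext t x v Q S T y) {u : G} (hu : u ∈ T) : ∀ q ∈ Q, u * q * u⁻¹ ∈ Q := by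
  intro q hq
  rw [← E.T_eq] at hu
  rcases hu with h | h
  · exact E.H.P0N h q hq
  · have h1 : u * q * u⁻¹ = (y * y)⁻¹ * (y * ((y * u) * q * (y * u)⁻¹) * y⁻¹) * (y * y) := by group
    rw [h1]
    have h2 := E.yQ _ (E.H.P0N h q hq)
    have h3 := E.H.P0N (inv_mem E.yy) _ h2
    rwa [inv_inv] at h3

/-- `U/Q` is abelian if `y² ∈ xQ`. -/
theorem comm_U (E : Ext t x v Q S T y) (hyx : y * x = x * y) :
    ∀ a ∈ E.U, ∀ b ∈ E.U, a * b * a⁻¹ * b⁻¹ ∈ Q := by
  have H := E.H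
  have hxy : x * y * x⁻¹ * y⁻¹ = 1 := by rw [← hyx]; group
  have hyx' : y * x * y⁻¹ * x⁻¹ = 1 := by rw [hyx]; group
  refine class_two (U := E.U) (W := Q) (fun w hw u hu => E.U_norm (E.U_le hu) w hw)
    (((Q : Set G) ∪ {x}) ∪ {y}) E.gens_le E.gen_U ?_
  have hn : ∀ a ∈ Q, ∀ u ∈ E.U, u * a * u⁻¹ * a⁻¹ ∈ Q := fun a ha u hu =>
    Q.mul_mem (E.U_norm (E.U_le hu) a ha) (Q.inv_mem ha)
  have hn' : ∀ a ∈ Q, ∀ u ∈ E.U, a * u * a⁻¹ * u⁻¹ ∈ Q := fun a ha u hu => by
    have h2 : a * u * a⁻¹ * u⁻¹ = (u * a * u⁻¹ * a⁻¹)⁻¹ := by group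
    rw [h2]; exact Q.inv_mem (hn a ha u hu)
  rintro a ((ha | ha) | ha) b hb
  · exact hn' a ha b (E.gens_le hb)
  all_goals
    rw [Set.mem_singleton_iff] at ha
    rcases hb with (hb | hb) | hb
    · exact hn b hb a (by rw [ha]; first | exact le_two self_mem_two | exact self_mem_two)
    all_goals
      rw [Set.mem_singleton_iff] at hb
      rw [ha, hb]
      first
        | (rw [hxy]; exact Q.one_mem)
        | (rw [hyx']; exact Q.one_mem)
        | (have h3 : x * x * x⁻¹ * x⁻¹ = 1 := by group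
           rw [h3]; exact Q.one_mem)
        | (have h3 : y * y * y⁻¹ * y⁻¹ = 1 := by group
           rw [h3]; exact Q.one_mem)

/-- involutions of `U` are in `Q ∪ xQ` if `y² ∈ xQ`. -/
theorem invol_U (E : Ext t x v Q S T y) (hyx : y * x = x * y) (hyy : x * (y * y) ∈ Q) {h : G}
    (hU : h ∈ E.U) (hh : h * h = 1) : h ∈ E.H.QX := by
  have H := E.H
  rcases hU with h1 | h1
  · exact h1
  · exfalso
    -- `p = y h ∈ Q⟨x⟩`, `p² ∈ Q`
    set p := y * h with hp
    have hpU : p ∈ E.U := le_two h1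
    have hpp : p * p ∈ Q := by
      rcases h1 with h2 | h2
      · exact Q.mul_mem h2 h2
      · have h3 : p * p = (x⁻¹ * (x * p) * x⁻¹⁻¹) * (x * x)⁻¹ * (x * p) := by group
        rw [h3, H.x2, inv_one, mul_one, inv_inv]
        have h4 := H.xN _ h2
        rw [H.xi] at h4 ⊢
        exact Q.mul_mem h4 h2
    have hyU : y ∈ E.U := self_mem_two
    have hhU : h ∈ E.U := Or.inr h1
    have hhi : h⁻¹ = h := inv_eq_of_mul_eq_one_left hh
    have h5 := E.comm_U hyx y hyU h hhU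
    have h6 : y * y = h⁻¹ * ((y * h * y⁻¹ * h⁻¹)⁻¹ * (p * p)) * h⁻¹ := by rw [hp]; group
    have h7 : y * y ∈ Q := by
      rw [h6]
      have h8 := E.U_norm (E.U_le (inv_mem hhU)) _ (Q.mul_mem (Q.inv_mem h5) hpp)
      rw [inv_inv] at h8
      nth_rewrite 3 [hhi]
      exact h8
    exact (H.disj_x hyy).1 h7

end Ext

section Beta

variable {G : Type u} [Group G] [Finite G] {L A : Subgroup G} {t x v y : G} {Q S T : Subgroup G}

theorem mem_or (C : Conf L A t) (g : G) : g ∈ L ∨ t * g ∈ L := by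
  have hn := C.normal
  have htt := Ends.sq_eq_one C
  have hg : g ∈ zpowers t ⊔ L := by rw [sup_comm, C.gen]; exact mem_top g
  obtain ⟨z, hz, l, hl, rfl⟩ := mem_sup_of_normal_right.1 hg
  obtain ⟨n, rfl⟩ := mem_zpowers_iff.1 hz
  have ht2 : t ^ (2 : ℤ) = 1 := by rw [zpow_two]; exact htt
  rcases Int.even_or_odd' n with ⟨k, rfl | rfl⟩
  · left
    rw [zpow_mul, ht2, one_zpow, one_mul]; exact hl
  · right
    rw [zpow_add, zpow_mul, ht2, one_zpow, one_mul, zpow_one, ← mul_assoc, htt, one_mul]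
    exact hl

theorem QX_le_L (H : Leaf t x v Q S) (hQL : Q ≤ L) (hxL : x ∈ L) : H.QX ≤ L := by
  rintro a (ha | ha)
  · exact hQL ha
  · have h1 : a = x⁻¹ * (x * a) := by group
    rw [h1]; exact L.mul_mem (L.inv_mem hxL) (hQL ha)

theorem U_le_L (E : Ext t x v Q S T y) (hQL : Q ≤ L) (hxL : x ∈ L) (hyL : y ∈ L) : E.U ≤ L := by
  rintro a (ha | ha)
  · exact QX_le_L E.H hQL hxL ha
  · have h1 : a = y⁻¹ * (y * a) := by group
    rw [h1]; exact L.mul_mem (L.inv_mem hyL) (QX_le_L E.H hQL hxL ha)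

theorem conj_not_mem (C : Conf L A t) (htL : t ∉ L) (g : G) : g * t * g⁻¹ ∉ L := by
  intro h
  have hn := C.normal
  apply htL
  have h1 := hn.conj_mem _ h g⁻¹
  have h2 : g⁻¹ * (g * t * g⁻¹) * g⁻¹⁻¹ = t := by group
  rwa [h2] at h1

/-- the case `y² ∈ xQ`: contradiction by transfer. -/
theorem false_of_four (C : Conf L A t) (htL : t ∉ L) (hQL : Q ≤ L) (hxL : x ∈ L)
    (E : Ext t x v Q S T y) (hyL : y ∈ L) (hyx : y * x = x * y) (hyy : x * (y * y) ∈ Q)
    (T' : Sylow 2 G) (hT : (T' : Subgroup G) = T) : False := by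
  classical
  have H := E.H
  have hn := C.normal
  have hsimple := C.simple
  have hUL := U_le_L E hQL hxL hyL
  have hinf : T ⊓ L = E.U := by
    have := Ends.inf_eq (U := E.U) T' (by rw [hT]; exact E.U_le) (by rw [hT]; exact E.relIndex_U)
      (by rw [hT]; exact E.tT) hUL htL
    rwa [hT] at this
  have hodd : Odd (T.subgroupOf L).index := by
    apply Cfsg.Agent.StdU3.TransferTE.odd_index_subgroupOf
    rw [← hT]
    have : Fact (Nat.Prime 2) := ⟨Nat.prime_two⟩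
    rw [← Nat.not_even_iff_odd, even_iff_two_dvd]
    exact T'.not_dvd_index
  have hperf : (⟨x, hxL⟩ : L) ∈ commutator L := by
    have h1 : commutator L = ⊤ := by
      rcases IsSimpleGroup.eq_bot_or_eq_top_of_normal (commutator L) inferInstance with h | h
      · exfalso
        apply C.not_comm
        refine ⟨⟨fun a b => ?_⟩⟩
        have h2 : ⁅a, b⁆ ∈ commutator L := commutator_mem_commutator (mem_top a) (mem_top b)
        rw [h, mem_bot, commutatorElement_eq_one_iff_mul_comm] at h2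
        exact h2
      · exact h
    rw [h1]; exact mem_top _
  have hinv : ∀ g : G, g ∈ L → g⁻¹ * x * g ∈ T → g⁻¹ * x * g ∈ H.QX := by
    intro g hg h
    have h1 : g⁻¹ * x * g ∈ L := L.mul_mem (L.mul_mem (L.inv_mem hg) hxL) hg
    have h2 : g⁻¹ * x * g ∈ E.U := by
      rw [← hinf]; exact mem_inf.2 ⟨h, h1⟩
    refine E.invol_U hyx hyy h2 ?_
    have h3 : g⁻¹ * x * g * (g⁻¹ * x * g) = g⁻¹ * (x * x) * g := by group
    rw [h3, H.x2, mul_one, inv_mul_cancel]
  obtain ⟨g, hgL, hgR, hgbad⟩ := Cfsg.Agent.StdU3.TransferTE.exists_bad L T Q hodd t E.tT H.t2 x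
    (E.PT H.xP) hxL H.x2 H.tx (zpowers x) (zpowers_le.2 hxL)
    (H.P02.to_le (zpowers_le.2 H.xP)) (by
      intro r hr
      obtain ⟨n, rfl⟩ := mem_zpowers_iff.1 hr
      have h1 : t * x ^ n * t⁻¹ = x ^ n := by
        have h2 : Commute t (x ^ n) := (show Commute t x from H.tx).zpow_right n
        rw [h2.eq]; group
      rw [h1]; exact hr) (mem_zpowers x) (by
      intro r hr
      obtain ⟨n, rfl⟩ := mem_zpowers_iff.1 hr
      exact ((Commute.refl x).zpow_left n).eq) (by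
      intro a ha b hb
      rw [hinf] at ha hb
      exact E.comm_U hyx a ha b hb) (by
      intro g hg hx ht
      -- `g⁻¹ t g = s t s⁻¹`
      obtain ⟨s, hs, hst⟩ := E.conj_T (g := g⁻¹) (by rw [inv_inv]; exact ht)
      rw [inv_inv] at hst
      have hc : (g * s)⁻¹ * t = t * (g * s)⁻¹ := by
        calc (g * s)⁻¹ * t = s⁻¹ * (g⁻¹ * t * g) * g⁻¹ := by group
          _ = t * (g * s)⁻¹ := by rw [← hst]; group
      have hout := (H.outer (g * s)⁻¹ hc).1
      rcases hinv g hg hx with h1 | h1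
      · exfalso
        apply hout
        have h2 : (g * s)⁻¹ * x * (g * s)⁻¹⁻¹ = s⁻¹ * (g⁻¹ * x * g) * s⁻¹⁻¹ := by group
        rw [h2]
        exact E.U_norm (T.inv_mem hs) _ h1
      · rw [H.xi]; exact h1) H.xQ hperf
  apply hgbad
  have hmem := hinv g hgL (hgR x (mem_zpowers x))
  set h := g⁻¹ * x * g with hh
  rcases hmem with h1 | h1
  · exact Q.mul_mem h1 (H.tN h h1)
  · -- `h = x c`
    set c := x * h with hc
    have h2 : h = x * c := by rw [hc, ← mul_assoc, H.x2, one_mul]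
    have h3 : h * (t * h * t⁻¹) = (x * c * x⁻¹) * (x * x) * (t * c * t⁻¹) := by
      calc h * (t * h * t⁻¹) = x * c * (t * x) * c * t⁻¹ := by rw [h2]; group
        _ = (x * c * x⁻¹) * (x * x) * (t * c * t⁻¹) := by rw [H.tx]; group
    rw [h3, H.x2, mul_one]
    exact Q.mul_mem (H.xN c h1) (H.tN c h1)

theorem beta_ext (h0506 : Ends.S0506Stmt.{u}) (h1170 : Out.S1170Stmt.{u}) (C : Conf L A t)
    (h3A : 3 ∣ Nat.card A) (htL : t ∉ L) (hQL : Q ≤ L) (E : Ext t x v Q S T y)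
    (T' : Sylow 2 G) (hT : (T' : Subgroup G) = T) : Lie2 ↥L ∧ t ∉ L := by
  have H := E.H
  have hn := C.normal
  -- `x ∈ L`
  have hxL : x ∈ L := by
    obtain ⟨q1, hq1, hyt⟩ := E.yt'
    have h1 : t * (y * t * y⁻¹) ∈ L := by
      have h2 : t * (y * t * y⁻¹) = ⁅t, y⁆ := by
        rw [commutatorElement_def, H.ti]; group
      rw [h2]
      exact Ends.commutator_le_L C (commutator_mem_commutator (mem_top _) (mem_top _))
    have h3 : x = t * (y * t * y⁻¹) * q1⁻¹ := by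
      calc x = (t * t) * x := by rw [H.t2, one_mul]
        _ = t * (t * x * q1) * q1⁻¹ := by group
        _ = _ := by rw [hyt]
    rw [h3]; exact L.mul_mem h1 (L.inv_mem (hQL hq1))
  -- `y ∈ L`
  obtain ⟨y1, E1, hy1⟩ : ∃ y1, Ext t x v Q S T y1 ∧ y1 ∈ L := by
    rcases mem_or C y with h | h
    · exact ⟨y, E, h⟩
    · exact ⟨t * y, E.mulT, h⟩
  obtain ⟨r, hr, hrx⟩ := E1.exists_comm
  have E2 := E1.mulQ hr
  have hy2 : r⁻¹ * y1 ∈ L := L.mul_mem (L.inv_mem (hQL hr)) hy1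
  have hUL := U_le_L E2 hQL hxL hy2
  rcases E2.yy' with h | h
  · refine Ends.lie2_of_end h0506 h1170 C h3A T' (U := E2.U) (by rw [hT]; exact E2.U_le)
      (by rw [hT]; exact E2.relIndex_U) (by rw [hT]; exact E2.tT)
      (fun g hg => conj_not_mem C htL g (hUL hg)) hUL (by rw [E2.card_U]; norm_num)
      (E2.class_U h hrx)
  · exact (false_of_four C htL hQL hxL E2 hy2 hrx h T' hT).elim

theorem beta_eq (h0506 : Ends.S0506Stmt.{u}) (h1170 : Out.S1170Stmt.{u}) (C : Conf L A t)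
    (h3A : 3 ∣ Nat.card A) (htL : t ∉ L) (hQL : Q ≤ L) (H : Leaf t x v Q S) (hxL : x ∈ L)
    (T' : Sylow 2 G) (hT : (T' : Subgroup G) = H.P0) : Lie2 ↥L ∧ t ∉ L := by
  have hUL := QX_le_L H hQL hxL
  exact Ends.lie2_of_end h0506 h1170 C h3A T' (U := H.QX) (by rw [hT]; exact H.QX_le)
      (by rw [hT]; exact H.relIndex_QX) (by rw [hT]; exact H.tP)
      (fun g hg => conj_not_mem C htL g (hUL hg)) hUL (by rw [H.card_QX]; norm_num)
      H.class_QX

/-- **Case (beta)**. -/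
theorem beta (h0506 : Ends.S0506Stmt.{u}) (h1170 : Out.S1170Stmt.{u}) (C : Conf L A t)
    (h3A : 3 ∣ Nat.card A) (htL : t ∉ L) (hQL : Q ≤ L) (H : Leaf t x v Q S) :
    Lie2 ↥L ∧ t ∉ L := by
  obtain ⟨T, hT⟩ := H.P02.exists_le_sylow
  by_cases he : Q ⊔ S = (T : Subgroup G)
  · rcases mem_or C x with h | h
    · exact beta_eq h0506 h1170 C h3A htL hQL H h T he.symm
    · exact beta_eq h0506 h1170 C h3A htL hQL H.swap h T he.symm
  · rcases H.exists_ext T.isPGroup' hT he with ⟨y, E⟩ | ⟨y, E⟩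
    · exact beta_ext h0506 h1170 C h3A htL hQL E T rfl
    · exact beta_ext h0506 h1170 C h3A htL hQL E T rfl

end Beta

end Cfsg.Agent.StdL2.SFive.Leaf16
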