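import Cfsg.Agent.StdL2.SFive.LeafHigh

/-!
# S1773, `q = 4`: the leaf `S/V = 2²`, `|Q| > 16`

`card_invol`: a coset `yQ` of an involution `y ∈ QS - P` contains at most `√|Q|` involutions.
-/

set_option autoImplicit false
set_option linter.unusedSectionVars false
set_option linter.style.haveILetI false

open Subgroup

namespace Cfsg.Agent.StdL2.SFive

open Cfsg.Agent.StdL2.FieldStart

namespace Pos

variable {G : Type*} [Group G] [Finite G] {t : G} {V Q S : Subgroup G}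

/-- the commutator of `s ∈ S - W` and `d` acts on `V` as `d`. -/
theorem comm_act (H : Pos t V Q S) {d : G} (D : Tri t V Q d) {s : G} (hs : s ∈ S)
    (hsW : s ∉ H.L.W) : ∀ v ∈ V, (s * d * s⁻¹ * d⁻¹) * v * (s * d * s⁻¹ * d⁻¹)⁻¹ = d * v * d⁻¹ := by
  obtain ⟨v0, hv0, h0, hc⟩ := H.exists_v0
  set u := d * v0 * d⁻¹ with hu
  have huV : u ∈ V := D.dV v0 hv0
  have hu1 : u ≠ 1 := fun e => h0 (by
    have := congrArg (fun z => d⁻¹ * z * d) e
    simpa [hu, mul_assoc] using this)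
  have hu0 : u ≠ v0 := fun e => h0 (D.fix v0 hv0 (hu ▸ e))
  obtain ⟨w, hw, hw1, hw0, hwc, hw4⟩ := four_elts H.L.V4 H.L.vsq hv0 h0
  have huv0 : u * v0 ∈ V := V.mul_mem huV hv0
  have huv1 : u * v0 ≠ 1 := fun e => hu0 (by
    rw [← H.L.vinv hv0]; exact eq_inv_of_mul_eq_one_left e)
  have huv2 : u * v0 ≠ v0 := fun e => hu1 (by
    have : u * v0 = 1 * v0 := by rw [e, one_mul]
    exact mul_right_cancel this)
  have huv3 : u * v0 ≠ u := fun e => h0 (by
    have : u * v0 = u * 1 := by rw [e, mul_one]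
    exact mul_left_cancel this)
  have hcm : u * v0 = v0 * u := H.L.vcomm huV hv0
  have hall : ∀ x ∈ V, x = 1 ∨ x = v0 ∨ x = u ∨ x = u * v0 := by
    intro x hx
    rcases hw4 u huV with h | h | h | h
    · exact absurd h hu1
    · exact absurd h hu0
    · rw [h]; exact hw4 x hx
    · rcases hw4 x hx with h' | h' | h' | h'
      · exact Or.inl h'
      · exact Or.inr (Or.inl h')
      · right; right; right
        rw [h', h, mul_assoc, H.L.vsq v0 hv0, mul_one]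
      · right; right; left
        rw [h', h]
  -- `d u d⁻¹ = u v0`
  have hdu : d * u * d⁻¹ = u * v0 := by
    rcases hall _ (D.dV u huV) with h | h | h | h
    · exfalso; apply hu1
      have := congrArg (fun z => d⁻¹ * z * d) h
      simpa [mul_assoc] using this
    · exfalso
      apply huv1
      apply D.fix _ huv0
      have e : d * (u * v0) * d⁻¹ = (d * u * d⁻¹) * (d * v0 * d⁻¹) := by group
      rw [e, h, ← hu, hcm]
    · exfalso; exact hu1 (D.fix u huV h)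
    · exact h
  have hduv : d * (u * v0) * d⁻¹ = v0 := by
    have e : d * (u * v0) * d⁻¹ = (d * u * d⁻¹) * (d * v0 * d⁻¹) := by group
    rw [e, hdu, ← hu, mul_assoc, ← hcm, ← mul_assoc, H.L.vsq u huV, one_mul]
  -- inverse
  have hd0 : d⁻¹ * v0 * d = u * v0 := by
    have : d⁻¹ * (d * (u * v0) * d⁻¹) * d = u * v0 := by group
    rwa [hduv] at this
  have hd1 : d⁻¹ * u * d = v0 := by rw [hu]; group
  have hs' : ∀ k, k ∈ S → k ∉ H.L.W → k * v0 * k⁻¹ = v0 ∧ k * u * k⁻¹ = u * v0 ∧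
      k * (u * v0) * k⁻¹ = u := by
    intro k hk hkW
    have h1 : k * v0 * k⁻¹ = v0 := by rw [hc k hk]; group
    have h2 := H.swap hv0 h0 hc hk hkW huV hu1 hu0
    refine ⟨h1, h2, ?_⟩
    have e : k * (u * v0) * k⁻¹ = (k * u * k⁻¹) * (k * v0 * k⁻¹) := by group
    rw [e, h1, h2, mul_assoc, H.L.vsq v0 hv0, mul_one]
  obtain ⟨a1, a2, a3⟩ := hs' s hs hsW
  obtain ⟨b1, b2, b3⟩ := hs' s⁻¹ (S.inv_mem hs) (fun h => hsW (H.invW h))
  rw [inv_inv] at b1 b2 b3
  have e0 : ∀ v : G, (s * d * s⁻¹ * d⁻¹) * v * (s * d * s⁻¹ * d⁻¹)⁻¹ =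
      s * (d * (s⁻¹ * (d⁻¹ * v * d) * s) * d⁻¹) * s⁻¹ := by intro v; group
  have k0 : (s * d * s⁻¹ * d⁻¹) * v0 * (s * d * s⁻¹ * d⁻¹)⁻¹ = d * v0 * d⁻¹ := by
    rw [e0, hd0, b3, hdu, a3]
  have k1 : (s * d * s⁻¹ * d⁻¹) * u * (s * d * s⁻¹ * d⁻¹)⁻¹ = d * u * d⁻¹ := by
    rw [e0, hd1, b1, ← hu, a2, hdu]
  intro v hv
  rcases hall v hv with rfl | rfl | rfl | rfl
  · simp
  · exact k0
  · exact k1
  · have e1 : ∀ g : G, g * (u * v0) * g⁻¹ = (g * u * g⁻¹) * (g * v0 * g⁻¹) := by intro g; group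
    rw [e1, e1 d, k0, k1]

/-- the commutator of `s ∈ S - W` and `d` acts without fixed points on `Q`, and so does every element
of its `Q`-coset -/
theorem fpf (H : Pos t V Q S) (St : Stg t V Q) {d : G} (D : Tri t V Q d) {s : G} (hs : s ∈ S)
    (hsW : s ∉ H.L.W) {f : G} (hf : f * (s * d * s⁻¹ * d⁻¹)⁻¹ ∈ Q) {q : G} (hq : q ∈ Q)
    (hqf : q * f * q⁻¹ = f) : q = 1 := by
  set e := s * d * s⁻¹ * d⁻¹ with he
  have hdN : d ∈ normalizer (Q : Set G) := Fld.conj_mem_norm D.dQ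
  have hsN : s ∈ normalizer (Q : Set G) := Fld.conj_mem_norm (H.SQ s hs)
  have heN : e ∈ normalizer (Q : Set G) := (normalizer _).mul_mem ((normalizer _).mul_mem
    ((normalizer _).mul_mem hsN hdN) ((normalizer _).inv_mem hsN)) ((normalizer _).inv_mem hdN)
  have heQ : ∀ q ∈ Q, e * q * e⁻¹ ∈ Q := fun q hq => (mem_normalizer_iff.1 heN q).1 hq
  have het : e * t = t * e := by
    have c1 : Commute s t := H.St hs
    have c2 : Commute d t := D.dt
    exact (((c1.mul_left c2).mul_left c1.inv_left).mul_left c2.inv_left)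
  have hmv : ∃ v ∈ V, d * v * d⁻¹ ≠ v := by
    obtain ⟨v0, hv0, h0, -⟩ := H.exists_v0
    exact ⟨v0, hv0, fun h => h0 (D.fix v0 hv0 h)⟩
  obtain ⟨r, r1, r2, r3, r4⟩ := exists_three H.L.V4 D.dV hmv D.d3 het (H.comm_act D hs hsW)
  have D' : Tri t V Q (e ^ r) := ⟨r1, r2, pow_conj_mem heQ r, r3, r4⟩
  -- `C_Q(e) = 1`
  have hCe : ∀ q ∈ Q, e * q * e⁻¹ = q → q = 1 := by
    intro q hq h
    apply D'.fixQ H.L St hq
    have hc : Commute e q := by
      show e * q = q * e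
      have := congrArg (fun z => z * e) h
      simpa [mul_assoc] using this
    rw [(hc.pow_left r).eq]; group
  -- every element of `Qe` is conjugate to `e`
  let φ : Q → Q := fun r => ⟨r * (e * (r : G)⁻¹ * e⁻¹), Q.mul_mem r.2 (heQ _ (Q.inv_mem r.2))⟩
  have hφ : Function.Injective φ := by
    intro a b hab
    have h1 : (a : G) * (e * (a : G)⁻¹ * e⁻¹) = b * (e * (b : G)⁻¹ * e⁻¹) :=
      congrArg Subtype.val hab
    have h2 : ((b : G)⁻¹ * a) = 1 := by
      apply hCe _ (Q.mul_mem (Q.inv_mem b.2) a.2)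
      have h3 : (a : G) * e * (a : G)⁻¹ = b * e * (b : G)⁻¹ := by
        have := congrArg (fun z => z * e) h1
        simpa [mul_assoc] using this
      have h4 : e * ((b : G)⁻¹ * a) * e⁻¹ = (b : G)⁻¹ * (b * e * (b : G)⁻¹) * a * e⁻¹ := by group
      rw [h4, ← h3]; group
    exact Subtype.ext (inv_mul_eq_one.1 h2).symm
  have hφs := Finite.surjective_of_injective hφ
  obtain ⟨a, ha⟩ := hφs ⟨_, hf⟩
  have ha' : (a : G) * (e * (a : G)⁻¹ * e⁻¹) = f * e⁻¹ := congrArg Subtype.val ha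
  have hfe : f = a * e * (a : G)⁻¹ := by
    have := congrArg (fun z => z * e) ha'
    simp only [inv_mul_cancel_right] at this
    rw [← this]; group
  have h5 : (a : G)⁻¹ * q * a = 1 := by
    apply hCe _ (Q.mul_mem (Q.mul_mem (Q.inv_mem a.2) hq) a.2)
    rw [hfe] at hqf
    have h6 : q * (a * e * (a : G)⁻¹) = (a * e * (a : G)⁻¹) * q := by
      have := congrArg (fun z => z * q) hqf
      simpa [mul_assoc] using this
    calc e * ((a : G)⁻¹ * q * a) * e⁻¹ = (a : G)⁻¹ * ((a * e * (a : G)⁻¹) * q) * a * e⁻¹ := by group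
      _ = (a : G)⁻¹ * (q * (a * e * (a : G)⁻¹)) * a * e⁻¹ := by rw [h6]
      _ = (a : G)⁻¹ * q * a := by group
  have h7 : q = a * ((a : G)⁻¹ * q * a) * (a : G)⁻¹ := by group
  rw [h7, h5]; group

/-- the number of involutions in the coset `yQ` -/
theorem card_invol (H : Pos t V Q S) (St : Stg t V Q) {d : G} (D : Tri t V Q d) {y : G}
    (hy : y ∈ Q ⊔ S) (hyP : y ∉ H.P) :
    {z | z * z = 1 ∧ y⁻¹ * z ∈ Q}.ncard ^ 2 ≤ Nat.card Q := by
  classical
  obtain ⟨k, hk, hkW, hky⟩ := H.mem_T_out hy hyP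
  set X := {z | z * z = 1 ∧ y⁻¹ * z ∈ Q} with hX
  have hs : k⁻¹ ∈ S := S.inv_mem hk
  have hsW : k⁻¹ ∉ H.L.W := fun h => hkW (H.invW h)
  have hX1 : ∀ z ∈ X, k * z ∈ Q := by
    intro z hz
    have h1 := Q.mul_mem hky hz.2
    have e : k * y * (y⁻¹ * z) = k * z := by group
    rwa [e] at h1
  set e := k⁻¹ * d * k⁻¹⁻¹ * d⁻¹ with he
  have hmem : ∀ z ∈ X, ∀ z' ∈ X, z * (d * z'⁻¹ * d⁻¹) * e⁻¹ ∈ Q := by
    intro z hz z' hz'
    have h1 := H.SQ _ hs _ (Q.mul_mem (hX1 z hz) (D.dQ _ (Q.inv_mem (hX1 z' hz'))))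
    have h2 : k⁻¹ * (k * z * (d * (k * z')⁻¹ * d⁻¹)) * k⁻¹⁻¹ = z * (d * z'⁻¹ * d⁻¹) * e⁻¹ := by
      rw [he]; group
    rwa [h2] at h1
  let ψ : X × X → Q := fun p => ⟨p.1 * (d * (p.2 : G)⁻¹ * d⁻¹) * e⁻¹, hmem _ p.1.2 _ p.2.2⟩
  have hψ : Function.Injective ψ := by
    rintro ⟨a, b⟩ ⟨a', b'⟩ hab
    have h1 : (a : G) * (d * (b : G)⁻¹ * d⁻¹) * e⁻¹ = a' * (d * (b' : G)⁻¹ * d⁻¹) * e⁻¹ :=
      congrArg Subtype.val hab
    have h2 : (a : G) * (d * (b : G)⁻¹ * d⁻¹) = a' * (d * (b' : G)⁻¹ * d⁻¹) :=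
      mul_right_cancel h1
    set f := (a : G) * (d * (b : G)⁻¹ * d⁻¹) with hf
    have hinv : ∀ a b : X, (a : G) * ((a : G) * (d * (b : G)⁻¹ * d⁻¹)) * (a : G)⁻¹ =
        ((a : G) * (d * (b : G)⁻¹ * d⁻¹))⁻¹ := by
      intro a b
      have ha : (a : G) * a = 1 := a.2.1
      have hb : (b : G) * b = 1 := b.2.1
      have ha' : (a : G)⁻¹ = a := inv_eq_of_mul_eq_one_left ha
      have hb' : (b : G)⁻¹ = b := inv_eq_of_mul_eq_one_left hb
      calc (a : G) * ((a : G) * (d * (b : G)⁻¹ * d⁻¹)) * (a : G)⁻¹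
          = ((a : G) * a) * (d * (b : G)⁻¹ * d⁻¹) * (a : G)⁻¹ := by group
        _ = d * (b : G)⁻¹ * d⁻¹ * (a : G)⁻¹ := by rw [ha, one_mul]
        _ = d * (b : G) * d⁻¹ * (a : G)⁻¹ := by rw [hb']
        _ = ((a : G) * (d * (b : G)⁻¹ * d⁻¹))⁻¹ := by group
    have i1 := hinv a b
    have i2 := hinv a' b'
    rw [← h2] at i2
    have h3 : (a : G)⁻¹ * a' = 1 := by
      refine H.fpf St D hs hsW (f := f) (hmem _ a.2 _ b.2) ?_ ?_
      · have h4 := Q.mul_mem (Q.inv_mem a.2.2) a'.2.2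
        have e1 : (y⁻¹ * (a : G))⁻¹ * (y⁻¹ * (a' : G)) = (a : G)⁻¹ * a' := by group
        rwa [e1] at h4
      · have h5 : (a' : G) * f * (a' : G)⁻¹ = a * f * (a : G)⁻¹ := by rw [i2, ← i1]
        calc (a : G)⁻¹ * a' * f * ((a : G)⁻¹ * a')⁻¹
            = (a : G)⁻¹ * ((a' : G) * f * (a' : G)⁻¹) * a := by group
          _ = (a : G)⁻¹ * (a * f * (a : G)⁻¹) * a := by rw [h5]
          _ = f := by group
    have h4 : (a : G) = a' := inv_mul_eq_one.1 h3
    have h5 : (b : G) = b' := by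
      rw [hf, h4] at h2
      have h6 := mul_left_cancel h2
      have h7 := mul_left_cancel (mul_right_cancel h6)
      exact inv_injective h7
    exact Prod.ext (Subtype.ext h4) (Subtype.ext h5)
  have := Nat.card_le_card_of_injective _ hψ
  rw [Nat.card_prod] at this
  have h8 : Nat.card X = X.ncard := rfl
  rw [h8] at this
  rw [pow_two]
  exact this

theorem card_P (H : Pos t V Q S) : Nat.card H.P = 2 * Nat.card Q := card_dbl _ _ H.tQ

theorem P_le_T (H : Pos t V Q S) : H.P ≤ Q ⊔ S := by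
  have hQT : Q ≤ Q ⊔ S := le_sup_left
  have hST : S ≤ Q ⊔ S := le_sup_right
  rintro x (h | h)
  · exact hQT h
  · have h1 := mul_mem (hST H.tS) (hQT h)
    rwa [← mul_assoc, H.L.t2, one_mul] at h1

theorem P_cap_S (H : Pos t V Q S) {z : G} (hz : z ∈ H.P) (hzS : z ∈ S) : z ∈ H.L.W :=
  H.P_cen hz (H.St hzS)

theorem card_T_ge (H : Pos t V Q S) : 4 * Nat.card Q ≤ Nat.card (Q ⊔ S : Subgroup G) := by
  have h1 : Nat.card H.P ∣ Nat.card (Q ⊔ S : Subgroup G) := Subgroup.card_dvd_of_le H.P_le_T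
  rw [H.card_P] at h1
  have h2 : Nat.card (Q ⊔ S : Subgroup G) ≠ 2 * Nat.card Q := by
    intro h2
    obtain ⟨s, hs, hsW⟩ := H.exists_out
    apply hsW
    have h4 : H.P = Q ⊔ S := Subgroup.eq_of_le_of_card_ge H.P_le_T (by rw [h2, H.card_P])
    exact H.P_cap_S (h4 ▸ (le_sup_right : S ≤ Q ⊔ S) hs) hs
  have h3 : 0 < Nat.card (Q ⊔ S : Subgroup G) := Nat.card_pos
  have h4 : 0 < Nat.card Q := Nat.card_pos
  obtain ⟨k, hk⟩ := h1
  have hk0 : k ≠ 0 := by rintro rfl; omega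
  have hk1 : k ≠ 1 := by rintro rfl; omega
  have hk2 : 2 ≤ k := by omega
  calc 4 * Nat.card Q = 2 * Nat.card Q * 2 := by ring
    _ ≤ 2 * Nat.card Q * k := Nat.mul_le_mul_left _ hk2
    _ = _ := hk.symm

/-- centralisers of the involutions outside `P` are big -/
theorem card_cen_sq (H : Pos t V Q S) (St : Stg t V Q) {d : G} (D : Tri t V Q d) {y : G}
    (hy : y ∈ Q ⊔ S) (hyP : y ∉ H.P) (hyy : y * y = 1) :
    16 * Nat.card Q ≤ Nat.card ((Q ⊔ S) ⊓ centralizer {y} : Subgroup G) ^ 2 := by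
  have h1 := H.card_invol St D hy hyP
  set X := {z | z * z = 1 ∧ y⁻¹ * z ∈ Q} with hX
  have h2 := ncard_cls (Q ⊔ S) y
  have h3 : SFive.cls (Q ⊔ S) y ⊆ X := by
    rintro _ ⟨k, hk, rfl⟩
    refine ⟨?_, ?_⟩
    · have e : k * y * k⁻¹ * (k * y * k⁻¹) = k * (y * y) * k⁻¹ := by group
      rw [e, hyy]; group
    · have h4 := H.comm_Q (inv_mem hy) hk
      have e : y⁻¹ * k * y⁻¹⁻¹ * k⁻¹ = y⁻¹ * (k * y * k⁻¹) := by group
      rwa [e] at h4
  have h4 := Set.ncard_le_ncard h3 (Set.toFinite _)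
  have h5 := H.card_T_ge
  set c := (SFive.cls (Q ⊔ S) y).ncard with hc
  set m := Nat.card ((Q ⊔ S) ⊓ centralizer {y} : Subgroup G) with hm
  have h6 : 0 < Nat.card Q := Nat.card_pos
  have h7 : c ^ 2 ≤ Nat.card Q := le_trans (Nat.pow_le_pow_left h4 2) h1
  have h8 : (4 * Nat.card Q) ^ 2 ≤ (c * m) ^ 2 := Nat.pow_le_pow_left (by rw [h2]; exact h5) 2
  have h9 : (c * m) ^ 2 ≤ Nat.card Q * m ^ 2 := by
    rw [mul_pow]; exact Nat.mul_le_mul_right _ h7
  have h10 : Nat.card Q * (16 * Nat.card Q) ≤ Nat.card Q * m ^ 2 := by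
    calc Nat.card Q * (16 * Nat.card Q) = (4 * Nat.card Q) ^ 2 := by ring
      _ ≤ _ := h8.trans h9
  exact Nat.le_of_mul_le_mul_left h10 h6

theorem card_le_S (H : Pos t V Q S) {g : G} {F : Subgroup G} (hF : IsPGroup 2 F)
    (hFx : ∀ f ∈ F, f * (g * t * g⁻¹) = (g * t * g⁻¹) * f) : Nat.card F ≤ 16 := by
  obtain ⟨h, -, hh⟩ := H.into_S rfl hF hFx
  rw [← H.card_S]
  refine Nat.card_le_card_of_injective (fun x : F => (⟨h * x * h⁻¹, hh x x.2⟩ : S)) ?_
  intro x y hxy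
  have : h * (x : G) * h⁻¹ = h * (y : G) * h⁻¹ := congrArg (fun z : S => (z : G)) hxy
  exact Subtype.ext (mul_left_cancel (mul_right_cancel this))

theorem not_out (H : Pos t V Q S) (St : Stg t V Q) {d : G} (D : Tri t V Q d)
    (h16 : 16 < Nat.card Q) {y : G} (hy : y ∈ Q ⊔ S) (hyP : y ∉ H.P) (g : G) :
    g * t * g⁻¹ ≠ y := by
  rintro rfl
  have h1 := H.card_cen_sq St D hy hyP (by
    have : (g * t * g⁻¹) * (g * t * g⁻¹) = g * (t * t) * g⁻¹ := by group
    rw [this, H.L.t2]; group)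
  have h2 := H.card_le_S (g := g) (F := ((Q ⊔ S) ⊓ centralizer {g * t * g⁻¹} : Subgroup G))
    (H.T2.to_le inf_le_left) (fun f hf => mem_centralizer_singleton_iff.1 (mem_inf.1 hf).2)
  nlinarith

/-- an abelian 2-subgroup of order at least 16 does not centralise a conjugate of `t` -/
theorem no_abelian (H : Pos t V Q S) {g : G} {F : Subgroup G} (hF : IsPGroup 2 F)
    (hFx : ∀ f ∈ F, f * (g * t * g⁻¹) = (g * t * g⁻¹) * f)
    (hab : ∀ a ∈ F, ∀ b ∈ F, a * b = b * a) : Nat.card F < 16 := by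
  by_contra hcon
  push Not at hcon
  obtain ⟨h, -, hh⟩ := H.into_S rfl hF hFx
  have hle : F.map (MulAut.conj h).toMonoidHom ≤ S := by
    rintro _ ⟨f, hf, rfl⟩
    exact hh f hf
  have hcard : Nat.card (F.map (MulAut.conj h).toMonoidHom) = Nat.card F :=
    card_map_of_injective (MulAut.conj h).injective
  have heq : F.map (MulAut.conj h).toMonoidHom = S :=
    Subgroup.eq_of_le_of_card_ge hle (by rw [hcard, H.card_S]; exact hcon)
  obtain ⟨s, hs, w, hw, hsw⟩ := H.out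
  apply hsw
  rw [← heq] at hs
  have hw' : w ∈ S := H.VS hw
  rw [← heq] at hw'
  obtain ⟨a, ha, rfl⟩ := hs
  obtain ⟨b, hb, rfl⟩ := hw'
  rw [← map_mul, ← map_mul, hab a ha b hb]

/-- **Leaf (C), `|Q| > 16`**. -/
theorem leafHigh (H : Pos t V Q S) (St : Stg t V Q) {d : G} (D : Tri t V Q d)
    (h16 : 16 < Nat.card Q) (hQ2 : ∃ Q2 : Subgroup G, Q2 ≤ Q ∧ V ≤ Q2 ∧ Nat.card Q2 = 16 ∧
      (∀ a ∈ Q2, ∀ b ∈ Q2, a * b = b * a) ∧ ∀ u ∈ Q2, ∀ p ∈ H.P, u * p * u⁻¹ * p⁻¹ ∈ V)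
    (gen : commutator G ⊔ zpowers t = ⊤) (VG : V ≤ commutator G) : False := by
  have hne : Q ≠ V := by
    intro h
    rw [h, H.L.V4] at h16
    omega
  have hE : ∀ y ∈ S, y ∉ H.L.W → ∀ g : G, g * t * g⁻¹ ≠ y := by
    intro y hy hyW g
    refine H.not_out St D h16 ((le_sup_right : S ≤ Q ⊔ S) hy) (fun h => hyW (H.P_cap_S h hy)) g
  have hsq : ∀ g : G, (g * t * g⁻¹) * (g * t * g⁻¹) = 1 := by
    intro g
    have : (g * t * g⁻¹) * (g * t * g⁻¹) = g * (t * t) * g⁻¹ := by group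
    rw [this, H.L.t2]; group
  refine H.end_false ?_ gen VG
  intro g hg
  have hP : g * t * g⁻¹ ∈ H.P := by
    by_contra hcon
    exact H.not_out St D h16 hg hcon g rfl
  set x := g * t * g⁻¹ with hx
  have hxV : ∀ v ∈ V, x * v = v * x := fun v hv => H.PV hP hv
  obtain ⟨Q2, hQ2Q, hVQ2, hQ2c, hQ2a, hQ2P⟩ := hQ2
  -- the homomorphism `Q2 → V`
  let φ : Q2 →* V :=
    { toFun := fun u => ⟨u * x * (u : G)⁻¹ * x⁻¹, hQ2P u u.2 x hP⟩
      map_one' := Subtype.ext (by simp)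
      map_mul' := fun a b => Subtype.ext (by
        show (a * b : G) * x * (a * b : G)⁻¹ * x⁻¹ =
          (a * x * (a : G)⁻¹ * x⁻¹) * (b * x * (b : G)⁻¹ * x⁻¹)
        have h1 := H.QV _ (hQ2Q a.2) _ (hQ2P b b.2 x hP)
        have h2 := H.L.vcomm (hQ2P a a.2 x hP) (hQ2P b b.2 x hP)
        calc (a * b : G) * x * (a * b : G)⁻¹ * x⁻¹
            = a * (b * x * (b : G)⁻¹ * x⁻¹) * x * (a : G)⁻¹ * x⁻¹ := by group
          _ = (b * x * (b : G)⁻¹ * x⁻¹) * (a * x * (a : G)⁻¹ * x⁻¹) := by rw [h1]; group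
          _ = _ := h2.symm) }
  have hφ : ∀ u : Q2, ((φ u : V) : G) = u * x * (u : G)⁻¹ * x⁻¹ := fun u => rfl
  -- the kernel
  set K := (Q2 ⊓ centralizer {x} : Subgroup G) with hK
  have hker : Nat.card φ.ker = Nat.card K := by
    refine Nat.card_congr ⟨fun r => ⟨((r : Q2) : G), ?_⟩, fun r => ⟨⟨(r : G), (mem_inf.1 r.2).1⟩, ?_⟩,
      fun r => rfl, fun r => rfl⟩
    · refine mem_inf.2 ⟨(r : Q2).2, mem_centralizer_singleton_iff.2 ?_⟩
      have h1 : ((φ (r : Q2) : V) : G) = 1 := by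
        have := r.2
        rw [MonoidHom.mem_ker] at this
        rw [this]; rfl
      rw [hφ] at h1
      have := congrArg (fun z => z * (x * ((r : Q2) : G))) h1
      simpa [mul_assoc] using this
    · rw [MonoidHom.mem_ker]
      apply Subtype.ext
      rw [hφ]
      show (r : G) * x * (r : G)⁻¹ * x⁻¹ = 1
      rw [mem_centralizer_singleton_iff.1 (mem_inf.1 r.2).2]; group
  have hVK : V ≤ K := by
    intro v hv
    exact mem_inf.2 ⟨hVQ2 hv, mem_centralizer_singleton_iff.2 (hxV v hv).symm⟩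
  have hKQ : K ≤ Q := inf_le_left.trans hQ2Q
  have hK2 : IsPGroup 2 K := H.Q2.to_le hKQ
  have hKx : ∀ k ∈ K, k * x = x * k := fun k hk => mem_centralizer_singleton_iff.1 (mem_inf.1 hk).2
  have hKab : ∀ a ∈ K, ∀ b ∈ K, a * b = b * a := fun a ha b hb =>
    hQ2a a (mem_inf.1 ha).1 b (mem_inf.1 hb).1
  have hK4 : Nat.card K = 4 := by
    have h1 : Nat.card V ∣ Nat.card K := Subgroup.card_dvd_of_le hVK
    have h2 : Nat.card K ∣ Nat.card Q2 := Subgroup.card_dvd_of_le inf_le_left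
    rw [H.L.V4] at h1
    rw [hQ2c] at h2
    by_contra hne4
    have hK0 : 0 < Nat.card K := Nat.card_pos
    have h8 : 8 ≤ Nat.card K := by
      obtain ⟨k, hk⟩ := h1
      omega
    by_cases hxK : x ∈ K
    · -- `x ∈ Q2`, so `Q2` centralises `x`
      have h3 : Q2 ≤ K := by
        intro a ha
        exact mem_inf.2 ⟨ha, mem_centralizer_singleton_iff.2 (hQ2a a ha x (mem_inf.1 hxK).1)⟩
      have h4 := Subgroup.card_le_of_le h3
      have h5 := H.no_abelian (g := g) hK2 hKx hKab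
      omega
    · have hxn : ∀ k ∈ K, x * k * x⁻¹ ∈ K := by
        intro k hk
        rw [← hKx k hk, mul_inv_cancel_right]; exact hk
      have h6 : Nat.card (dbl x K (hsq g) hxn) = 2 * Nat.card K := card_dbl _ _ hxK
      have hdab : ∀ a ∈ dbl x K (hsq g) hxn, a * x = x * a ∧ ∀ b ∈ K, a * b = b * a := by
        rintro a (ha | ha)
        · exact ⟨hKx a ha, fun b hb => hKab a ha b hb⟩
        · have e : a = x * (x * a) := by rw [← mul_assoc, hsq g, one_mul]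
          refine ⟨?_, ?_⟩
          · have h7 := hKx _ ha
            rw [mul_assoc] at h7
            exact mul_left_cancel h7
          · intro b hb
            have h7 := hKab _ ha b hb
            have h8 := hKx b hb
            have h9 : x * (a * b) = x * (b * a) := by
              rw [← mul_assoc, h7, ← mul_assoc, h8, mul_assoc]
            exact mul_left_cancel h9
      have h5 := H.no_abelian (g := g) (F := dbl x K (hsq g) hxn) (isPGroup_dbl _ _ hK2)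
        (fun a ha => (hdab a ha).1) (by
          rintro a ha b (hb | hb)
          · exact (hdab a ha).2 b hb
          · have h7 := (hdab a ha).2 _ hb
            have h8 := (hdab a ha).1
            have h9 : x * (a * b) = x * (b * a) := by
              rw [← mul_assoc, ← h8, mul_assoc, h7, mul_assoc]
            exact mul_left_cancel h9)
      omega
  -- surjectivity
  have hran : Function.Surjective φ := by
    rw [← MonoidHom.range_eq_top]
    apply Subgroup.eq_top_of_card_eq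
    have h1 := card_mul_index φ.ker
    rw [index_ker, hker, hK4, hQ2c] at h1
    rw [H.L.V4]
    omega
  have hxv : ∀ v ∈ V, ∃ u : G, u * x * u⁻¹ = v * x := by
    intro v hv
    obtain ⟨u, hu⟩ := hran ⟨v, hv⟩
    refine ⟨u, ?_⟩
    have h1 : (u : G) * x * (u : G)⁻¹ * x⁻¹ = v := by rw [← hφ, hu]
    rw [← h1]; group
  obtain ⟨h, hht, hh⟩ := H.into_S hx.symm (isPGroup_dbl (hsq g) (dblV hxV) (H.Q2.to_le H.VQ))
    (by
      rintro f (hf | hf)
      · exact (hxV f hf).symm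
      · have h1 := hxV _ hf
        have h2 : f = x * (x * f) := by rw [← mul_assoc, hsq g, one_mul]
        rw [h2, mul_assoc, ← h1])
  obtain ⟨q, hq, hqt⟩ := H.conj_P hne hE hP hht (by
    intro v hv
    obtain ⟨u, hu⟩ := hxv v hv
    have h1 : h * (v * x) * h⁻¹ ∈ S := by
      refine hh _ (Or.inr ?_)
      rw [← hxV v hv, ← mul_assoc, hsq g, one_mul]
      exact hv
    have h2 : h * (v * x) * h⁻¹ ∈ H.L.W := by
      by_contra hcon
      refine hE _ h1 hcon (h * u * g) ?_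
      rw [← hu, hx]; group
    have h3 := H.L.W.mul_mem h2 H.L.tW
    have e : h * (v * x) * h⁻¹ * t = h * v * h⁻¹ * (t * t) := by
      rw [← hht]; group
    rwa [e, H.L.t2, mul_one] at h3)
  exact ⟨q, (le_sup_left : Q ≤ Q ⊔ S) hq, hqt⟩

end Pos

end Cfsg.Agent.StdL2.SFive
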