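import Cfsg.Agent.StdL2.SFive.LeafOne

/-!
# S1773, `q = 4`: the leaf `Q = V`, `S = ⟨t⟩ × D₈`, `S` not Sylow in `G`

The Sylow subgroup is `S⟨n⟩` with `t ^ n = t v₀`, `n² = v₀`, and `V V^n ⟨n⟩` has index 2 and contains no
conjugate of `t`.
-/

set_option autoImplicit false
set_option linter.unusedSectionVars false
set_option linter.style.haveILetI false

open Subgroup

namespace Cfsg.Agent.StdL2.SFive

open Cfsg.Agent.StdL2.FieldStart

namespace LeafOne

variable {G : Type*} [Group G] [Finite G] {t : G} {V S : Subgroup G} {v0 u x : G}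

/-- an element `n` of `N(S)` with `t ^ n = t v₀` -/
structure Mv {H : Pos t V V S} (F : Fr H v0 u x) (n : G) : Prop where
  nS : ∀ s ∈ S, n * s * n⁻¹ ∈ S
  nt : n * t * n⁻¹ = t * v0

namespace Mv

variable {H : Pos t V V S} {F : Fr H v0 u x} {n : G}

theorem of_not_mem (F : Fr H v0 u x) {R : Subgroup G} (hR : IsPGroup 2 R) (hSR : S ≤ R)
    (hn : n ∈ R) (hnS : n ∉ S) (h : ∀ s ∈ S, n * s * n⁻¹ ∈ S) : Mv F n := by
  refine ⟨h, (F.norm_t h).resolve_left ?_⟩
  intro h1
  apply hnS
  apply H.cen_mem hR hSR hn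
  have := congrArg (fun z => z * n) h1
  simpa [mul_assoc] using this

theorem nv (N : Mv F n) : n * v0 * n⁻¹ = v0 := F.norm_v0 N.nS

theorem norm (N : Mv F n) : n ∈ normalizer (S : Set G) := Fld.conj_mem_norm N.nS

theorem nS' (N : Mv F n) {s : G} (hs : s ∈ S) : n⁻¹ * s * n ∈ S := by
  have := (mem_normalizer_iff.1 ((normalizer (S : Set G)).inv_mem N.norm) s).1 hs
  rwa [inv_inv] at this

theorem ntv (N : Mv F n) : n * (t * v0) * n⁻¹ = t := by
  have e : n * (t * v0) * n⁻¹ = (n * t * n⁻¹) * (n * v0 * n⁻¹) := by group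
  rw [e, N.nt, N.nv, mul_assoc, F.vv, mul_one]

theorem not_norm (N : Mv F n) : n ∉ normalizer (H.L.W : Set G) := by
  intro h
  have h1 := H.fix_of_eq h
  rw [N.nt] at h1
  apply F.v01
  have : t * v0 = t * 1 := by rw [mul_one]; exact h1
  exact mul_left_cancel this

theorem exists_out (N : Mv F n) : ∃ w ∈ H.L.W, n * w * n⁻¹ ∉ H.L.W := by
  by_contra hcon
  push Not at hcon
  exact N.not_norm (Fld.conj_mem_norm hcon)

theorem conj_sq {g z : G} (h : z * z = 1) : (g * z * g⁻¹) * (g * z * g⁻¹) = 1 := by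
  have e : (g * z * g⁻¹) * (g * z * g⁻¹) = g * (z * z) * g⁻¹ := by group
  rw [e, h]; group

/-- `W ^ n = X₀` -/
theorem map_W (N : Mv F n) : H.L.W.map (MulAut.conj n).toMonoidHom =
    (S ⊓ centralizer {x} : Subgroup G) := by
  obtain ⟨w, hw, hwW⟩ := N.exists_out
  refine F.eq_X0 ?_ ?_ ?_ (y := n * w * n⁻¹) ⟨w, hw, rfl⟩ hwW
  · rintro _ ⟨z, hz, rfl⟩
    exact N.nS z (H.WS hz)
  · rintro _ ⟨z, hz, rfl⟩
    exact conj_sq (H.L.Wsq hz)
  · rw [card_map_of_injective (MulAut.conj n).injective, H.L.card_W]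

theorem W_X0 (N : Mv F n) {w : G} (hw : w ∈ H.L.W) :
    n * w * n⁻¹ ∈ (S ⊓ centralizer {x} : Subgroup G) := by
  rw [← N.map_W]
  exact ⟨w, hw, rfl⟩

theorem xX0 (F : Fr H v0 u x) : x ∈ (S ⊓ centralizer {x} : Subgroup G) :=
  F.mem_X0.2 (Or.inr (Or.inl F.xx))

/-- `X₀ ^ n = W` -/
theorem X0_W (N : Mv F n) {z : G} (hz : z ∈ (S ⊓ centralizer {x} : Subgroup G)) :
    n * z * n⁻¹ ∈ H.L.W := by
  by_contra hcon
  have h1 : (S ⊓ centralizer {x} : Subgroup G).map (MulAut.conj n).toMonoidHom =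
      (S ⊓ centralizer {x} : Subgroup G) := by
    refine F.eq_X0 ?_ ?_ ?_ (y := n * z * n⁻¹) ⟨z, hz, rfl⟩ hcon
    · rintro _ ⟨a, ha, rfl⟩
      exact N.nS a (mem_inf.1 ha).1
    · rintro _ ⟨a, ha, rfl⟩
      exact conj_sq (F.X0_sq ha)
    · rw [card_map_of_injective (MulAut.conj n).injective, F.card_X0]
  have h2 : H.L.W = (S ⊓ centralizer {x} : Subgroup G) := by
    apply map_injective (f := (MulAut.conj n).toMonoidHom) (MulAut.conj n).injective
    rw [N.map_W]
    exact h1.symm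
  exact F.xW (h2 ▸ xX0 F)

/-- an element of `Z` fixed by `n` is in `⟨v₀⟩` -/
theorem fixZ (N : Mv F n) {z : G} (hz : F.IsZ z) (h : n * z * n⁻¹ = z) : z = 1 ∨ z = v0 := by
  rcases hz with hz | hz | hz | hz
  · exact Or.inl hz
  · exact Or.inr hz
  · exfalso
    rw [hz, N.nt] at h
    apply F.v01
    have : t * v0 = t * 1 := by rw [mul_one]; exact h
    exact mul_left_cancel this
  · exfalso
    rw [hz, N.ntv] at h
    apply F.v01
    have : t * 1 = t * v0 := by rw [mul_one]; exact h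
    exact (mul_left_cancel this).symm

/-- elements in `W ∪ X₀` fixed by `n` are in `⟨v₀⟩` -/
theorem fix (N : Mv F n) {z : G}
    (hz : z ∈ H.L.W ∨ z ∈ (S ⊓ centralizer {x} : Subgroup G)) (h : n * z * n⁻¹ = z) :
    z = 1 ∨ z = v0 := by
  have h1 : z ∈ H.L.W ∧ z ∈ (S ⊓ centralizer {x} : Subgroup G) := by
    rcases hz with hz | hz
    · refine ⟨hz, ?_⟩
      have := N.W_X0 hz
      rwa [h] at this
    · refine ⟨?_, hz⟩
      have := N.X0_W hz
      rwa [h] at this
  refine N.fixZ ?_ h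
  exact F.W_cx h1.1 F.xS F.xW (mem_centralizer_singleton_iff.1 (mem_inf.1 h1.2).2).symm

/-- involutions of `S` fixed by `n` -/
theorem fix_invol (N : Mv F n) {z : G} (hz : z ∈ S) (hzz : z * z = 1) (h : n * z * n⁻¹ = z) :
    z = 1 ∨ z = v0 := by
  refine N.fix ?_ h
  by_cases hzW : z ∈ H.L.W
  · exact Or.inl hzW
  · exact Or.inr (F.mem_X0.2 (Or.inr (F.invol hz hzW hzz)))

/-- the element `y = u ^ n` -/
theorem y_mem (N : Mv F n) : n * u * n⁻¹ ∈ S ∧ n * u * n⁻¹ ∉ H.L.W := by
  refine ⟨N.nS u (H.VS F.uV), ?_⟩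
  intro h
  have h1 := N.W_X0 (H.L.VW F.uV)
  have h2 : F.IsZ (n * u * n⁻¹) :=
    F.W_cx h F.xS F.xW (mem_centralizer_singleton_iff.1 (mem_inf.1 h1).2).symm
  have hn : ∀ a b : G, n * a * n⁻¹ = n * b * n⁻¹ → a = b := fun a b hab =>
    mul_left_cancel (mul_right_cancel hab)
  rcases h2 with h2 | h2 | h2 | h2
  · apply F.u1
    apply hn
    rw [h2]; group
  · apply F.u0
    apply hn
    rw [h2, N.nv]
  · have h3 : u = t * v0 := hn _ _ (by rw [h2, N.ntv])
    apply H.L.tV
    have h4 := V.mul_mem F.uV F.v0V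
    rwa [h3, mul_assoc, F.vv, mul_one] at h4
  · have h3 : u = t := hn _ _ (by rw [h2, N.nt])
    exact H.L.tV (h3 ▸ F.uV)

/-- the frame with `x = u ^ n` -/
theorem frame (N : Mv F n) : Fr H v0 u (n * u * n⁻¹) where
  v0V := F.v0V
  v01 := F.v01
  v0c := F.v0c
  uV := F.uV
  u1 := F.u1
  u0 := F.u0
  xS := N.y_mem.1
  xW := N.y_mem.2
  xx := conj_sq F.uu

theorem mul_S (N : Mv F n) {k : G} (hk : k ∈ S) : Mv F (n * k) where
  nS := by
    intro s hs
    have e : n * k * s * (n * k)⁻¹ = n * (k * s * k⁻¹) * n⁻¹ := by group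
    rw [e]
    exact N.nS _ (S.mul_mem (S.mul_mem hk hs) (S.inv_mem hk))
  nt := by
    have e : n * k * t * (n * k)⁻¹ = n * (k * t) * k⁻¹ * n⁻¹ := by group
    rw [e, H.St hk, ← N.nt]; group

theorem sq_mem (N : Mv F n) {R : Subgroup G} (hR : IsPGroup 2 R) (hSR : S ≤ R) (hn : n ∈ R) :
    n * n ∈ S := by
  apply H.cen_mem hR hSR (mul_mem hn hn)
  have e : (n * n) * t * (n * n)⁻¹ = n * (n * t * n⁻¹) * n⁻¹ := by group
  rw [N.nt, N.ntv] at e
  have := congrArg (fun z => z * (n * n)) e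
  simpa [mul_assoc] using this

/-- one may choose `n` with `n² = v₀` -/
theorem exists_good (N : Mv F n) {R : Subgroup G} (hR : IsPGroup 2 R) (hSR : S ≤ R) (hn : n ∈ R)
    (hnS : n ∉ S) : ∃ m ∈ R, m ∉ S ∧ Mv F m ∧ m * m = v0 := by
  -- it is enough to have `m² ∈ ⟨v₀⟩`
  have red : ∀ m ∈ R, m ∉ S → Mv F m → (m * m = 1 ∨ m * m = v0) →
      ∃ m ∈ R, m ∉ S ∧ Mv F m ∧ m * m = v0 := by
    intro m hm hmS M h
    rcases h with h | h
    · refine ⟨m * t, mul_mem hm (hSR H.tS), ?_, M.mul_S H.tS, ?_⟩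
      · intro h1
        apply hmS
        have := S.mul_mem h1 (S.inv_mem H.tS)
        rwa [mul_inv_cancel_right] at this
      · calc m * t * (m * t) = (m * t * m⁻¹) * (m * m) * t := by group
          _ = v0 := by
            rw [M.nt, h, mul_one, ← F.vt, mul_assoc, H.L.t2, mul_one]
    · exact ⟨m, hm, hmS, M, h⟩
  have hs := N.sq_mem hR hSR hn
  set s := n * n with hsd
  have hfix : n * s * n⁻¹ = s := by rw [hsd]; group
  set y := n * u * n⁻¹ with hy
  have F1 : Fr H v0 u y := N.frame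
  have N1 : Mv F1 n := ⟨N.nS, N.nt⟩
  by_cases hsW : s ∈ H.L.W
  · exact red n hn hnS N (N.fix (Or.inl hsW) hfix)
  by_cases hZ : F1.IsZ (y * s)
  · exact red n hn hnS N (N1.fix (Or.inr (F1.mem_X0.2 (Or.inr hZ))) hfix)
  have hw := F1.dec hs hsW
  have hse : s = y * (y * s) := by rw [← mul_assoc, F1.xx, one_mul]
  have hnu : n * u ∉ S := by
    intro h1
    apply hnS
    have := S.mul_mem h1 (S.inv_mem (H.VS F.uV))
    rwa [mul_inv_cancel_right] at this
  have hnuR : n * u ∈ R := mul_mem hn (hSR (H.VS F.uV))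
  have hsqnu : (n * u) * (n * u) = y * s * u := by rw [hy, hsd]; group
  have hyu := F1.xu
  -- `n y n⁻¹ = s u s⁻¹`
  have hny : n * y * n⁻¹ = s * u * s⁻¹ := by rw [hy, hsd]; group
  rcases hw with hw | hw
  · rcases F.V4 hw with h | h | h | h
    · exact absurd (Or.inl h) hZ
    · exact absurd (Or.inr (Or.inl h)) hZ
    · refine red (n * u) hnuR hnu (N.mul_S (H.VS F.uV)) (Or.inl ?_)
      rw [hsqnu, h, F.uu]
    · refine red (n * u) hnuR hnu (N.mul_S (H.VS F.uV)) (Or.inr ?_)
      rw [hsqnu, h, F.uv, mul_assoc, F.uu, mul_one]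
  · exfalso
    have hw' : y * s = t * (t * (y * s)) := by rw [← mul_assoc t t, H.L.t2, one_mul]
    -- `s = t y a` with `a ∈ V`
    set a := t * (y * s) with ha
    have hs2 : s = t * (y * a) := by
      calc s = y * (y * s) := hse
        _ = y * (t * a) := by rw [hw']
        _ = (y * t) * a := by group
        _ = t * (y * a) := by rw [F1.xt]; group
    have hat : a * t = t * a := H.L.vt a hw
    have hau : a * u = u * a := H.L.vcomm hw F.uV
    have hsu : s * u * s⁻¹ = u * v0 := by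
      have h1 : s * u = (u * v0) * s := by
        calc s * u = t * (y * (a * u)) := by rw [hs2]; group
          _ = t * (y * u) * a := by rw [hau]; group
          _ = (t * (u * v0)) * (y * a) := by rw [hyu]; group
          _ = ((u * v0) * t) * (y * a) := by rw [H.L.vt _ (V.mul_mem F.uV F.v0V)]
          _ = (u * v0) * s := by rw [hs2]; group
      rw [h1, mul_inv_cancel_right]
    -- apply `n` to `s = t y a`
    have h1 : n * s * n⁻¹ = (n * t * n⁻¹) * (n * y * n⁻¹) * (n * a * n⁻¹) := by rw [hs2]; group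
    rw [hfix, N.nt, hny, hsu] at h1
    -- `s = (t v0)(u v0)(n a n⁻¹) = t u (n a n⁻¹)`
    have h2 : (t * v0) * (u * v0) = t * u := by
      calc (t * v0) * (u * v0) = t * (v0 * u) * v0 := by group
        _ = t * u * (v0 * v0) := by rw [← F.uv]; group
        _ = t * u := by rw [F.vv, mul_one]
    rw [h2, hs2] at h1
    have h3 : y * a = u * (n * a * n⁻¹) := by
      have : t * (y * a) = t * (u * (n * a * n⁻¹)) := by rw [h1]; group
      exact mul_left_cancel this
    rcases F.V4 hw with h | h | h | h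
    · -- `a = 1`
      apply F1.xW
      rw [h] at h3
      have h4 : y = u := by simpa using h3
      rw [h4]; exact Or.inl F.uV
    · rw [h, N.nv] at h3
      apply F1.xW
      rw [mul_right_cancel h3]; exact Or.inl F.uV
    · rw [h, ← hy, hyu] at h3
      apply F.v01
      have h4 := mul_right_cancel h3
      have : u * v0 = u * 1 := by rw [mul_one]; exact h4
      exact mul_left_cancel this
    · have h5 : n * (u * v0) * n⁻¹ = y * v0 := by
        have : n * (u * v0) * n⁻¹ = (n * u * n⁻¹) * (n * v0 * n⁻¹) := by group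
        rw [this, N.nv]
      rw [h, h5, ← mul_assoc, ← mul_assoc, hyu] at h3
      apply F.v01
      have h4 := mul_right_cancel (mul_right_cancel h3)
      have : u * v0 = u * 1 := by rw [mul_one]; exact h4
      exact mul_left_cancel this

end Mv

/-- `S` is generated by `W` and `X₀` -/
theorem norm_of_WX {H : Pos t V V S} (F : Fr H v0 u x) {g : G} (hW : ∀ w ∈ H.L.W, g * w * g⁻¹ ∈ S)
    (hX : g * x * g⁻¹ ∈ S) : ∀ s ∈ S, g * s * g⁻¹ ∈ S := by
  intro s hs
  by_cases hsW : s ∈ H.L.W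
  · exact hW s hsW
  · have h1 := S.mul_mem hX (hW _ (F.dec hs hsW))
    have e : g * x * g⁻¹ * (g * (x * s) * g⁻¹) = g * ((x * x) * s) * g⁻¹ := by group
    rwa [e, F.xx, one_mul] at h1

/-- elementary abelian subgroups of order 8 of `S⟨n⟩` are in `S` -/
theorem elem_le {H : Pos t V V S} (F : Fr H v0 u x) {n : G} (N : Mv F n) {R : Subgroup G}
    (hR : IsPGroup 2 R) (hSR : S ≤ R) (hn : n ∈ R) {E : Subgroup G}
    (hE : ∀ e ∈ E, e ∈ S ∨ n * e ∈ S) (hsq : ∀ e ∈ E, e * e = 1) (h8 : 8 ≤ Nat.card E) :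
    ∀ e ∈ E, e ∈ S := by
  by_contra hcon
  push Not at hcon
  obtain ⟨f, hf, hfS⟩ := hcon
  have hER : E ≤ R := by
    intro e he
    rcases hE e he with h | h
    · exact hSR h
    · have := mul_mem (inv_mem hn) (hSR h)
      rwa [inv_mul_cancel_left] at this
  have hfN : ∀ s ∈ S, f * s * f⁻¹ ∈ S := by
    intro s hs
    have h1 : n * f ∈ S := (hE f hf).resolve_left hfS
    have h2 := N.nS' (S.mul_mem (S.mul_mem h1 hs) (S.inv_mem h1))
    have e : n⁻¹ * (n * f * s * (n * f)⁻¹) * n = f * s * f⁻¹ := by group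
    rwa [e] at h2
  have Mf : Mv F f := Mv.of_not_mem F hR hSR (hER hf) hfS hfN
  have hab : ∀ a ∈ E, ∀ b ∈ E, a * b = b * a := by
    intro a ha b hb
    have h1 := inv_of_sq (hsq _ (E.mul_mem ha hb))
    rw [mul_inv_rev, inv_of_sq (hsq a ha), inv_of_sq (hsq b hb)] at h1
    exact h1.symm
  have h2 := card_le_two_mul E S (by
    intro a ha b hb haS hbS
    have h1 := (hE a ha).resolve_left haS
    have h2 := (hE b hb).resolve_left hbS
    have h3 := S.mul_mem (S.inv_mem h1) h2
    have e : (n * a)⁻¹ * (n * b) = a⁻¹ * b := by group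
    rwa [e] at h3)
  have h3 : (E ⊓ S : Subgroup G) ≤ zpowers v0 := by
    intro z hz
    obtain ⟨hzE, hzS⟩ := mem_inf.1 hz
    rcases Mf.fix_invol hzS (hsq z hzE) (by rw [hab f hf z hzE, mul_inv_cancel_right]) with h | h
    · rw [h]; exact one_mem _
    · rw [h]; exact mem_zpowers v0
  have h4 := Subgroup.card_le_of_le h3
  have hv2 : orderOf v0 = 2 := orderOf_eq_prime (by rw [pow_two]; exact F.vv) F.v01
  rw [Nat.card_zpowers, hv2] at h4
  omega

/-- `S⟨n⟩` is a Sylow subgroup -/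
theorem sylow_two {H : Pos t V V S} (F : Fr H v0 u x) {n : G} (N : Mv F n) {R : Subgroup G}
    (hR : IsPGroup 2 R) (hSR : S ≤ R) (hn : n ∈ R) : ∀ r ∈ R, r ∈ S ∨ n * r ∈ S := by
  have hnn := N.sq_mem hR hSR hn
  set T1 := LeafTools.two S n N.nS hnn with hT1
  have hT1R : T1 ≤ R := by
    rintro e (h | h)
    · exact hSR h
    · have := mul_mem (inv_mem hn) (hSR h)
      rwa [inv_mul_cancel_left] at this
  by_contra hcon
  push Not at hcon
  obtain ⟨r, hr, hr1, hr2⟩ := hcon
  have hlt : T1 < R := lt_of_le_not_ge hT1R (fun h => by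
    rcases h hr with h | h
    · exact hr1 h
    · exact hr2 h)
  obtain ⟨y, hy, hyT, hyN⟩ := exists_normalizer_gt hR hlt
  have hyT1 : ∀ z ∈ T1, y * z * y⁻¹ ∈ T1 := fun z hz => (mem_normalizer_iff.1 hyN z).1 hz
  have hST1 : S ≤ T1 := LeafTools.le_two
  have hW : ∀ w ∈ H.L.W, y * w * y⁻¹ ∈ S := by
    intro w hw
    refine elem_le F N hR hSR hn (E := H.L.W.map (MulAut.conj y).toMonoidHom) ?_ ?_ ?_ _
      ⟨w, hw, rfl⟩
    · rintro _ ⟨z, hz, rfl⟩
      exact hyT1 z (hST1 (H.WS hz))
    · rintro _ ⟨z, hz, rfl⟩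
      exact Mv.conj_sq (H.L.Wsq hz)
    · rw [card_map_of_injective (MulAut.conj y).injective, H.L.card_W]
  have hX : y * x * y⁻¹ ∈ S := by
    refine elem_le F N hR hSR hn
      (E := (S ⊓ centralizer {x} : Subgroup G).map (MulAut.conj y).toMonoidHom) ?_ ?_ ?_ _
      ⟨x, Mv.xX0 F, rfl⟩
    · rintro _ ⟨z, hz, rfl⟩
      exact hyT1 z (hST1 (mem_inf.1 hz).1)
    · rintro _ ⟨z, hz, rfl⟩
      exact Mv.conj_sq (F.X0_sq hz)
    · rw [card_map_of_injective (MulAut.conj y).injective, F.card_X0]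
  have hyS := norm_of_WX F hW hX
  have hySn : y ∉ S := fun h => hyT (hST1 h)
  have My : Mv F y := Mv.of_not_mem F hR hSR hy hySn hyS
  apply hyT
  right
  -- `n y ∈ C(t)`
  apply H.cen_mem hR hSR (mul_mem hn hy)
  have e : (n * y) * t * (n * y)⁻¹ = n * (y * t * y⁻¹) * n⁻¹ := by group
  rw [My.nt, N.ntv] at e
  have := congrArg (fun z => z * (n * y)) e
  simpa [mul_assoc] using this

/-- **Leaf `Q = V`**: there is a subgroup of index 2. -/
theorem index_two {H : Pos t V V S} (F : Fr H v0 u x) :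
    ∃ M : Subgroup G, M.Normal ∧ M.index = 2 := by
  obtain ⟨R, hSR⟩ := H.S2.exists_le_sylow
  by_cases hRS : (R : Subgroup G) = S
  · exact index_two_one F R hRS
  have hR2 : IsPGroup 2 (R : Subgroup G) := R.isPGroup'
  have hlt : S < (R : Subgroup G) := lt_of_le_of_ne hSR (fun h => hRS h.symm)
  obtain ⟨n0, hn0, hn0S, hn0N⟩ := exists_normalizer_gt hR2 hlt
  have N0 : Mv F n0 := Mv.of_not_mem F hR2 hSR hn0 hn0S
    (fun s hs => (mem_normalizer_iff.1 hn0N s).1 hs)
  obtain ⟨n, hn, hnS, N, hnn⟩ := N0.exists_good hR2 hSR hn0 hn0S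
  have hRm := sylow_two F N hR2 hSR hn
  set y := n * u * n⁻¹ with hy
  have F1 : Fr H v0 u y := N.frame
  have hyu := F1.xu
  have hni : n⁻¹ = n * v0 := by
    rw [inv_eq_iff_mul_eq_one, ← mul_assoc, hnn, F.vv]
  have hny : n * y * n⁻¹ = u := by
    have e : n * y * n⁻¹ = (n * n) * u * (n * n)⁻¹ := by rw [hy]; group
    rw [e, hnn, ← F.uv, mul_inv_cancel_right]
  have nva : ∀ a b : G, n * (a * b) * n⁻¹ = (n * a * n⁻¹) * (n * b * n⁻¹) := by intro a b; group
  have hnuv : n * (u * v0) * n⁻¹ = y * v0 := by rw [nva, N.nv]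
  -- the group `D0`
  set D0 := dbl y V F1.xx (H.SV y F1.xS) with hD0
  have hVD : V ≤ D0 := le_dbl _ _
  have hyD : y ∈ D0 := self_mem_dbl _ _
  have hD0S : D0 ≤ S := by
    rintro z (h | h)
    · exact H.VS h
    · have h1 := S.mul_mem F1.xS (H.VS h)
      rwa [← mul_assoc, F1.xx, one_mul] at h1
  have hnV : ∀ v ∈ V, n * v * n⁻¹ ∈ D0 := by
    intro v hv
    rcases F.V4 hv with h | h | h | h
    · rw [h]; simp
    · rw [h, N.nv]; exact hVD F.v0V
    · rw [h]; exact hyD
    · rw [h, hnuv]; exact D0.mul_mem hyD (hVD F.v0V)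
  have hnD : ∀ p ∈ D0, n * p * n⁻¹ ∈ D0 := by
    rintro p (h | h)
    · exact hnV p h
    · have h1 := hnV _ h
      rw [nva, hny] at h1
      have h2 := D0.mul_mem (hVD F.uV) h1
      rwa [← mul_assoc, F.uu, one_mul] at h2
  set M := LeafTools.two D0 n hnD (by rw [hnn]; exact hVD F.v0V) with hM
  have htD : t ∉ D0 := by
    rintro (h | h)
    · exact H.L.tV h
    · apply F1.xW
      right
      rw [← F1.xt]; exact h
  have htM : t ∉ M := by
    rintro (h | h)
    · exact htD h
    · apply hnS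
      have := S.mul_mem (hD0S h) (S.inv_mem H.tS)
      rwa [mul_inv_cancel_right] at this
  have hMR : M ≤ (R : Subgroup G) := by
    rintro z (h | h)
    · exact hSR (hD0S h)
    · have := mul_mem (inv_mem hn) (hSR (hD0S h))
      rwa [inv_mul_cancel_left] at this
  -- `S = D0 ∪ t D0`
  have hSD : ∀ s ∈ S, s ∈ D0 ∨ t * s ∈ D0 := by
    intro s hs
    by_cases hsW : s ∈ H.L.W
    · rcases hsW with h | h
      · exact Or.inl (Or.inl h)
      · exact Or.inr (Or.inl h)
    · rcases F1.dec hs hsW with h | h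
      · exact Or.inl (Or.inr h)
      · right; right
        rw [← mul_assoc, F1.xt, mul_assoc]; exact h
  have hrel : M.relIndex (R : Subgroup G) = 2 := by
    refine LeafTools.relIndex_two_of (z := t) (hSR H.tS) htM ?_
    intro g hg
    rcases hRm g hg with h | h
    · rcases hSD g h with h' | h'
      · exact Or.inl (Or.inl h')
      · exact Or.inr (Or.inl h')
    · rcases hSD _ h with h' | h'
      · exact Or.inl (Or.inr h')
      · right; right
        have h1 := D0.mul_mem (hVD F.v0V) h'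
        have e : v0 * (t * (n * g)) = n * (t * g) := by
          calc v0 * (t * (n * g)) = (v0 * t) * (n * g) := by group
            _ = (t * v0) * n * g := by rw [F.vt]; group
            _ = (n * t * n⁻¹) * n * g := by rw [N.nt]
            _ = n * (t * g) := by group
        rwa [e] at h1
  -- `v0` is not conjugate to `t`
  have hv0n : ∀ g : G, g * t * g⁻¹ ≠ v0 := by
    intro g hg
    have hnnS : n * n ∈ S := N.sq_mem hR2 hSR hn
    have h1 := H.card_le_S (g := g) (F := LeafTools.two S n N.nS hnnS)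
      (LeafTools.isPGroup_two H.S2) (by
        rw [hg]
        rintro f (h | h)
        · exact F.v0c f h
        · have h2 := F.v0c _ h
          have h3 : n * v0 = v0 * n := by
            have := congrArg (fun z => z * n) N.nv
            simpa [mul_assoc] using this
          have h4 : n * (f * v0) = n * (v0 * f) := by
            rw [← mul_assoc, h2, ← mul_assoc, ← h3, mul_assoc]
          exact mul_left_cancel h4)
    rw [LeafTools.card_two hnS, H.card_S] at h1
    omega
  have hVn : ∀ g : G, g * t * g⁻¹ ∉ V := by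
    intro g hg
    have hne : g * t * g⁻¹ ≠ 1 := fun e => H.L.t1 (by
      have := congrArg (fun z => g⁻¹ * z * g) e
      simpa [mul_assoc] using this)
    obtain ⟨c, hct, hc, -⟩ := H.tr _ hg hne v0 F.v0V F.v01
    exact hv0n (c * g) (by rw [← hc]; group)
  rcases Transfer.ThompsonTransfer.thompson_transfer R M hMR hrel t
    (by rw [pow_two, H.L.t2]) with ⟨M', h1, h2, -⟩ | ⟨g, hg⟩
  · exact ⟨M', h1, h2⟩
  exfalso
  have hbb := ne_inv_sq H g
  set b := g * t * g⁻¹ with hb
  have hbn : n⁻¹ * b * n ∉ V := by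
    intro h
    apply hVn (n⁻¹ * g)
    have e : n⁻¹ * g * t * (n⁻¹ * g)⁻¹ = n⁻¹ * b * n := by rw [hb]; group
    rw [e]; exact h
  rcases hg with hg | hg
  · rcases hg with hg | hg
    · exact hVn g hg
    · have hbS : b ∈ S := hD0S (Or.inr hg)
      have hbW : b ∉ H.L.W := by
        intro h
        apply F1.xW
        have h1 := H.L.W.mul_mem (Or.inl hg : y * b ∈ H.L.W) (H.L.W.inv_mem h)
        rwa [mul_inv_cancel_right] at h1
      have e : b = y * (y * b) := by rw [← mul_assoc, F1.xx, one_mul]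
      apply hbn
      rcases F1.invol hbS hbW hbb with h | h | h | h
      · rw [e, h, mul_one, hy]
        have : n⁻¹ * (n * u * n⁻¹) * n = u := by group
        rw [this]; exact F.uV
      · rw [e, h, ← hnuv]
        have : n⁻¹ * (n * (u * v0) * n⁻¹) * n = u * v0 := by group
        rw [this]; exact V.mul_mem F.uV F.v0V
      · exfalso
        rw [h] at hg
        exact H.L.tV hg
      · exfalso
        rw [h] at hg
        apply H.L.tV
        have h5 := V.mul_mem hg F.v0V
        rwa [mul_assoc, F.vv, mul_one] at h5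
  · -- `b = n⁻¹ δ`
    set δ := n * b with hδ
    have h1 : (n * δ * n⁻¹) * δ = v0 := by
      have e : (n * δ * n⁻¹) * δ = (n * n) * (b * b) := by rw [hδ]; group
      rw [e, hbb, hnn, mul_one]
    have hyV : y ∉ V := fun h => F1.xW (Or.inl h)
    rcases hg with hg | hg
    · rcases F.V4 hg with h | h | h | h
      · rw [h] at h1; apply F.v01; rw [← h1]; group
      · rw [h, N.nv, F.vv] at h1; exact F.v01 h1.symm
      · rw [h] at h1
        apply hyV
        have h2 : y = v0 * u := by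
          rw [← h1, mul_assoc, F.uu, mul_one]
        rw [h2]; exact V.mul_mem F.v0V F.uV
      · rw [h, hnuv] at h1
        apply hyV
        have h2 : y = v0 * (u * v0) * v0 := by
          have h3 : y * v0 * (u * v0) * (u * v0) * v0 = v0 * (u * v0) * v0 := by rw [h1]
          rw [mul_assoc (y * v0), H.L.vsq _ (V.mul_mem F.uV F.v0V), mul_one, mul_assoc, F.vv,
            mul_one] at h3
          exact h3
        rw [h2]; exact V.mul_mem (V.mul_mem F.v0V (V.mul_mem F.uV F.v0V)) F.v0V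
    · have e : δ = y * (y * δ) := by rw [← mul_assoc, F1.xx, one_mul]
      have h2 : n * δ * n⁻¹ = u * (n * (y * δ) * n⁻¹) := by
        rw [e, nva, hny, ← e]
      rw [h2] at h1
      rcases F.V4 hg with h | h | h | h
      · rw [h] at h1
        have h3 : δ = y := by rw [e, h, mul_one]
        rw [h3] at h1
        apply hyV
        have h4 : u * y = v0 := by rw [← h1]; group
        have h5 : y = u * v0 := by rw [← h4, ← mul_assoc, F.uu, one_mul]
        rw [h5]; exact V.mul_mem F.uV F.v0V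
      · rw [h, N.nv] at h1
        have h3 : δ = y * v0 := by rw [e, h]
        rw [h3] at h1
        apply hyV
        have h4 : u * y = v0 := by
          rw [← h1]
          calc u * y = u * (y * (v0 * v0)) := by rw [F.vv, mul_one]
            _ = u * (y * v0) * v0 := by group
            _ = u * (v0 * y) * v0 := by rw [F1.xv]
            _ = u * v0 * (y * v0) := by group
        have h5 : y = u * v0 := by rw [← h4, ← mul_assoc, F.uu, one_mul]
        rw [h5]; exact V.mul_mem F.uV F.v0V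
      · rw [h, ← hy] at h1
        have h3 : δ = y * u := by rw [e, h]
        rw [h3] at h1
        apply F.v01
        rw [← h1]
        calc u * y * (y * u) = u * (y * y) * u := by group
          _ = 1 := by rw [F1.xx, mul_one, F.uu]
      · rw [h, hnuv] at h1
        have h3 : δ = y * (u * v0) := by rw [e, h]
        rw [h3] at h1
        apply F.v01
        rw [← h1]
        calc u * (y * v0) * (y * (u * v0)) = u * (y * (v0 * y)) * (u * v0) := by group
          _ = u * (y * (y * v0)) * (u * v0) := by rw [F1.xv]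
          _ = u * (y * y) * (v0 * u) * v0 := by group
          _ = u * (u * v0) * v0 := by rw [F1.xx, mul_one, ← F.uv]
          _ = (u * u) * (v0 * v0) := by group
          _ = 1 := by rw [F.uu, F.vv, one_mul]

end LeafOne

namespace Pos

variable {G : Type*} [Group G] [Finite G] {t : G} {V Q S : Subgroup G}

theorem exists_frame (H : Pos t V Q S) {x : G} (hx : x ∈ S) (hxW : x ∉ H.L.W) (hxx : x * x = 1) :
    ∃ v0 u, Fr H v0 u x := by
  obtain ⟨v0, hv0, h0, hc⟩ := H.exists_v0
  obtain ⟨u, hu, hu1, hu2, -, -⟩ := four_elts H.L.V4 H.L.vsq hv0 h0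
  exact ⟨v0, u, hv0, h0, hc, hu, hu1, hu2, hx, hxW, hxx⟩

/-- **Leaf (C), `Q = V`, `t ∈ G'`** is impossible. -/
theorem leafOne (H : Pos t V V S) {x : G} (hx : x ∈ S) (hxW : x ∉ H.L.W) (hxx : x * x = 1) :
    ∃ M : Subgroup G, M.Normal ∧ M.index = 2 := by
  obtain ⟨v0, u, F⟩ := H.exists_frame hx hxW hxx
  exact LeafOne.index_two F

end Pos

end Cfsg.Agent.StdL2.SFive
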