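import Cfsg.Agent.StdL2.SFive.DispTwo
import Cfsg.Agent.StdL2.SFive.LeafBig
import Cfsg.Agent.StdL2.SFive.LeafOneB
import Cfsg.Agent.StdL2.SFive.Leaf16End

/-!
# S1773, `q = 4`, `N(A)/C(A) = S₅`: the dispatcher

`SF.dispatch`: the local data `SF` give `Five.Out L t`.
-/

set_option autoImplicit false
set_option linter.unusedSectionVars false
set_option linter.style.haveILetI false

open scoped commutatorElement

open Subgroup

namespace Cfsg.Agent.StdL2.SFive

open Cfsg Cfsg.Agent.StdL2.FieldStart Cfsg.Agent.StdL2.Setup Cfsg.Agent.StdL2.Assemble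

universe u

/-- `Q = [Q, d]` -/
theorem Stg.exists_comm {G : Type*} [Group G] [Finite G] {V Q : Subgroup G} {t d : G}
    (L : Loc t V) (St : Stg t V Q) (D : Tri t V Q d) {q : G} (hq : q ∈ Q) :
    ∃ r ∈ Q, d * r * d⁻¹ * r⁻¹ = q := by
  let f : Q → Q := fun r => ⟨d * r * d⁻¹ * (r : G)⁻¹, Q.mul_mem (D.dQ r r.2) (Q.inv_mem r.2)⟩
  have hf : Function.Injective f := by
    intro a b hab
    have h1 : d * (a : G) * d⁻¹ * (a : G)⁻¹ = d * (b : G) * d⁻¹ * (b : G)⁻¹ :=
      congrArg (fun z : Q => (z : G)) hab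
    have h2 : d * ((b : G)⁻¹ * a) * d⁻¹ = (b : G)⁻¹ * a := by
      calc d * ((b : G)⁻¹ * a) * d⁻¹ = (d * (b : G) * d⁻¹)⁻¹ * (d * (a : G) * d⁻¹ * (a : G)⁻¹) * a := by
            group
        _ = (b : G)⁻¹ * a := by rw [h1]; group
    have h3 := D.fixQ L St (Q.mul_mem (Q.inv_mem b.2) a.2) h2
    exact Subtype.ext (inv_mul_eq_one.1 h3).symm
  obtain ⟨r, hr⟩ := (Finite.injective_iff_surjective.1 hf) ⟨q, hq⟩
  exact ⟨r, r.2, congrArg Subtype.val hr⟩

section

variable {G : Type u} [Group G] [Finite G] {L A V Q S S0 : Subgroup G} {t d : G}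

theorem Stg.Q_le (C : Conf L A t) (l : Loc t V) (St : Stg t V Q) (D : Tri t V Q d) : Q ≤ L := by
  intro q hq
  obtain ⟨r, hr, rfl⟩ := St.exists_comm l D hq
  have h1 : d * r * d⁻¹ * r⁻¹ = ⁅d, r⁆ := (commutatorElement_def d r).symm
  rw [h1]
  exact Ends.commutator_le_L C (commutator_mem_commutator (mem_top _) (mem_top _))

/-- `L ≤ G'` -/
theorem L_le_commutator (C : Conf L A t) : L ≤ commutator G := by
  have hs := C.simple
  have hp : commutator ↥L = ⊤ := by
    rcases IsSimpleGroup.eq_bot_or_eq_top_of_normal (commutator ↥L) inferInstance with h | h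
    · exfalso
      apply C.not_comm
      refine ⟨⟨fun a b => ?_⟩⟩
      have h1 : ⁅a, b⁆ ∈ commutator ↥L :=
        commutator_mem_commutator (mem_top _) (mem_top _)
      rw [h, mem_bot] at h1
      exact commutatorElement_eq_one_iff_mul_comm.1 h1
    · exact h
  have h1 : (commutator ↥L).map L.subtype ≤ commutator G := by
    rw [_root_.commutator_def, map_commutator]
    exact commutator_mono le_top le_top
  rw [hp] at h1
  intro x hx
  exact h1 ⟨⟨x, hx⟩, mem_top _, rfl⟩

theorem gen_commutator (C : Conf L A t) : commutator G ⊔ zpowers t = ⊤ := by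
  rw [eq_top_iff, ← C.gen]
  exact sup_le_sup_right (L_le_commutator C) _

theorem top_of_mem (C : Conf L A t) (ht : t ∈ L) : L = ⊤ := by
  rw [← C.gen]
  exact (sup_eq_left.2 (zpowers_le.2 ht)).symm

theorem simple_of_top (C : Conf L A t) (h : L = ⊤) : IsSimpleGroup G := by
  subst h
  haveI := C.simple
  exact topEquiv.symm.isSimpleGroup

/-- **The dispatcher.** -/
theorem SF.dispatch (h1741 : LeafZ4.S1741Stmt.{u}) (h0506 : Ends.S0506Stmt.{u})
    (h1170 : Cfsg.Agent.StdSz.Out.S1170Stmt.{u}) (gold : Cfsg.Agent.StdSz.EndClosed.Gold.{u})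
    (C : Conf L A t) (h3A : 3 ∣ Nat.card A) (H : SF A t V S0) : Five.Out L t := by
  obtain ⟨Q, St, m, hs, hm, hQ⟩ := pmax H.loc H.thr
  obtain ⟨d, D⟩ := St.exists_tri H.loc H.thr
  obtain ⟨S, X⟩ := H.pos St hs
  have hgen := gen_commutator C
  have hVL : V ≤ L := H.VA.trans C.le
  have hVG : V ≤ commutator G := hVL.trans (L_le_commutator C)
  have hQL := St.Q_le C H.loc D
  by_cases hB : ∀ y ∈ S, y ∉ X.L.W → y * y ≠ 1
  · exfalso
    by_cases hne : Q = V
    · subst hne
      exact X.leafB_one hB H.hZ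
    · exact X.leafB hne hB hgen hVG
  push Not at hB
  obtain ⟨x, hx, hxW, hxx⟩ := hB
  rcases (show m = 1 ∨ m = 2 ∨ 3 ≤ m by omega) with rfl | rfl | hm3
  · -- `m = 1`
    have hQV : V = Q := Subgroup.eq_of_le_of_card_ge St.VQ (by rw [hQ, H.loc.V4]; norm_num)
    subst hQV
    by_cases ht : t ∈ L
    · exfalso
      haveI := simple_of_top C (top_of_mem C ht)
      obtain ⟨M, hM, hi⟩ := X.leafOne hx hxW hxx
      rcases IsSimpleGroup.eq_bot_or_eq_top_of_normal M hM with h | h
      · rw [h, index_bot] at hi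
        have h1 := Subgroup.card_le_card_group S
        rw [X.card_S, hi] at h1
        omega
      · rw [h, index_top] at hi
        omega
    · exact Or.inr (Or.inr ⟨LeafOne.rank X C.normal ht hVL, ht⟩)
  · -- `m = 2`
    have h16 : Nat.card Q = 16 := by rw [hQ]; norm_num
    rcases X.leaf_two St D h16 hx hxW hxx with Z | ⟨v, Z⟩
    · by_cases ht : t ∈ L
      · have hLt := top_of_mem C ht
        haveI := simple_of_top C hLt
        obtain ⟨e⟩ := LeafZ4.alpha h1741 Z
        refine Or.inr (Or.inl ?_)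
        subst hLt
        exact ⟨topEquiv.trans e⟩
      · exact Or.inr (Or.inr ⟨LeafZ4.beta C ht hQL Z, ht⟩)
    · by_cases ht : t ∈ L
      · exfalso
        haveI := simple_of_top C (top_of_mem C ht)
        exact Leaf16.alpha gold Z
      · exact Or.inl (Leaf16.beta h0506 h1170 C h3A ht hQL Z)
  · -- `m ≥ 3`
    exfalso
    have h16 : 16 < Nat.card Q := by
      rw [hQ]
      calc 16 < 4 ^ 3 := by norm_num
        _ ≤ 4 ^ m := Nat.pow_le_pow_right (by norm_num) hm3
    have hne : Q ≠ V := by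
      rintro rfl
      rw [H.loc.V4] at h16; omega
    exact X.leafHigh St D h16 ⟨St.two H.loc, fun q hq => hq.1, St.V_two H.loc,
      St.card_two H.loc D hne, St.abelian_two H.loc D hne, fun u hu p hp => hu.2 p hp⟩ hgen hVG

end

end Cfsg.Agent.StdL2.SFive
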