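import Cfsg.Agent.StdL2.SFive.PosFld

/-!
# S1773, `q = 4`: the transfer at the end

If `t ^ G ∩ QS = t ^ (QS)` then `G = G'⟨t⟩`, `V ≤ G'` is impossible.
-/

set_option autoImplicit false
set_option linter.unusedSectionVars false
set_option linter.style.haveILetI false

open Subgroup

namespace Cfsg.Agent.StdL2.SFive

open Cfsg.Agent.StdL2.FieldStart

/-- transfer of an involution `f` into `R / N`. -/
theorem not_mem_comm {G : Type*} [Group G] [Finite G] (R : Sylow 2 G) {N : Subgroup G}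
    (hN : ∀ p ∈ (R : Subgroup G), ∀ n ∈ N, p * n * p⁻¹ ∈ N)
    (hab : ∀ x ∈ (R : Subgroup G), ∀ y ∈ (R : Subgroup G), x * y * x⁻¹ * y⁻¹ ∈ N) {f t : G}
    (hf : f * f = 1) (ht : t * t = 1) (hft : f * t = t * f) (hfR : f ∈ (R : Subgroup G))
    (hfN : f ∉ N)
    (h1 : ∀ g, g⁻¹ * f * g ∈ (R : Subgroup G) → (g⁻¹ * f * g)⁻¹ * f ∈ N ∨ g⁻¹ * f * g ∈ N)
    (h2 : ∀ g, g⁻¹ * f * g ∈ (R : Subgroup G) → g⁻¹ * t * g ∈ (R : Subgroup G) →
      (g⁻¹ * f * g)⁻¹ * f ∈ N) :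
    f ∉ commutator G := by
  classical
  haveI hn : (N.subgroupOf (R : Subgroup G)).Normal := ⟨fun n hn g => by
    rw [mem_subgroupOf] at hn ⊢
    exact hN g g.2 n hn⟩
  let π : (R : Subgroup G) →* (R : Subgroup G) ⧸ (N.subgroupOf (R : Subgroup G)) :=
    QuotientGroup.mk' _
  have hπ : ∀ x y : (R : Subgroup G), π x = π y ↔ (x : G)⁻¹ * y ∈ N := by
    intro x y
    have h3 : π x = π y ↔ x⁻¹ * y ∈ N.subgroupOf (R : Subgroup G) := QuotientGroup.eq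
    rw [h3, mem_subgroupOf]
    exact Iff.rfl
  have hπ1 : ∀ x : (R : Subgroup G), π x = 1 ↔ (x : G) ∈ N := by
    intro x
    rw [show π x = (x : (R : Subgroup G) ⧸ (N.subgroupOf (R : Subgroup G))) from rfl,
      QuotientGroup.eq_one_iff, mem_subgroupOf]
  have hcomm : ∀ a b : (R : Subgroup G) ⧸ (N.subgroupOf (R : Subgroup G)), a * b = b * a := by
    intro a b
    obtain ⟨x, rfl⟩ := QuotientGroup.mk'_surjective _ a
    obtain ⟨y, rfl⟩ := QuotientGroup.mk'_surjective _ b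
    show π x * π y = π y * π x
    rw [← map_mul, ← map_mul, eq_comm, hπ]
    have e : (((y * x : (R : Subgroup G)) : G))⁻¹ * ((x * y : (R : Subgroup G)) : G) =
        (x : G)⁻¹ * (y : G)⁻¹ * ((x : G)⁻¹)⁻¹ * ((y : G)⁻¹)⁻¹ := by
      rw [Subgroup.coe_mul, Subgroup.coe_mul]; group
    rw [e]
    exact hab _ (inv_mem x.2) _ (inv_mem y.2)
  letI cg : CommGroup ((R : Subgroup G) ⧸ (N.subgroupOf (R : Subgroup G))) :=
    { (inferInstance : Group ((R : Subgroup G) ⧸ (N.subgroupOf (R : Subgroup G)))) with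
      mul_comm := hcomm }
  have ha2 : π ⟨f, hfR⟩ * π ⟨f, hfR⟩ = 1 := by
    rw [← map_mul]
    have h4 : (⟨f, hfR⟩ * ⟨f, hfR⟩ : (R : Subgroup G)) = 1 := Subtype.ext hf
    rw [h4, map_one]
  have htr : MonoidHom.transfer π f = π ⟨f, hfR⟩ := by
    refine FT.transfer_val R π hf ht hft _ ha2 ?_ ?_
    · intro g hg
      rcases h1 g hg with h | h
      · exact Or.inl ((hπ _ _).2 h)
      · exact Or.inr ((hπ1 _).2 h)
    · intro g hg hgt
      exact (hπ _ _).2 (h2 g hg hgt)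
  intro hfc
  have h3 : MonoidHom.transfer π f = 1 := Abelianization.commutator_subset_ker _ hfc
  rw [htr, hπ1] at h3
  exact hfN h3

namespace Pos

variable {G : Type*} [Group G] [Finite G] {t : G} {V Q S : Subgroup G}

theorem comm_V (H : Pos t V Q S) {x y : G} (hx : x ∈ S) (hy : y ∈ S) : x * y * x⁻¹ * y⁻¹ ∈ V := by
  -- one of them in `W`
  have key : ∀ x ∈ H.L.W, ∀ y ∈ S, x * y * x⁻¹ * y⁻¹ ∈ V := by
    intro x hx y hy
    rcases hx with hx | hx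
    · have h1 := V.mul_mem hx (H.SV y hy _ (V.inv_mem hx))
      have e : x * (y * x⁻¹ * y⁻¹) = x * y * x⁻¹ * y⁻¹ := by group
      rwa [e] at h1
    · have h1 := V.mul_mem hx (H.SV y hy _ (V.inv_mem hx))
      have h2 := H.St hy
      have e : t * x * (y * (t * x)⁻¹ * y⁻¹) = x * y * x⁻¹ * y⁻¹ := by
        have hxt : x * t = t * x := H.L.W_t (Or.inr hx)
        have h3 : y * (t * x)⁻¹ * y⁻¹ = t * (y * x⁻¹ * y⁻¹) := by
          rw [← hxt, mul_inv_rev, H.L.tinv]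
          calc y * (t * x⁻¹) * y⁻¹ = (y * t) * x⁻¹ * y⁻¹ := by group
            _ = t * (y * x⁻¹ * y⁻¹) := by rw [h2]; group
        rw [h3]
        calc t * x * (t * (y * x⁻¹ * y⁻¹)) = t * (x * t) * (y * x⁻¹ * y⁻¹) := by group
          _ = (t * t) * x * (y * x⁻¹ * y⁻¹) := by rw [hxt]; group
          _ = x * y * x⁻¹ * y⁻¹ := by rw [H.L.t2]; group
      rwa [e] at h1
  by_cases hxW : x ∈ H.L.W
  · exact key x hxW y hy
  by_cases hyW : y ∈ H.L.W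
  · have h1 := V.inv_mem (key y hyW x hx)
    have e : (y * x * y⁻¹ * x⁻¹)⁻¹ = x * y * x⁻¹ * y⁻¹ := by group
    rwa [e] at h1
  · have h1 := key _ (H.mul_mem_W hx hy hxW hyW) x hx
    have h2 := H.SV x hx _ (V.inv_mem h1)
    have e : x * (x⁻¹ * y * x * (x⁻¹ * y)⁻¹ * x⁻¹)⁻¹ * x⁻¹ = x * y * x⁻¹ * y⁻¹ := by group
    rwa [e] at h2

theorem mem_T (H : Pos t V Q S) {x : G} : x ∈ Q ⊔ S ↔ ∃ k ∈ S, k * x ∈ Q :=
  LeafTools.mem_sup_norm H.SQ

theorem T2 (H : Pos t V Q S) : IsPGroup 2 (Q ⊔ S : Subgroup G) :=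
  isPGroup_sup H.Q2 H.S2 (fun s hs => Fld.conj_mem_norm (H.SQ s hs))

theorem TQ (H : Pos t V Q S) {p : G} (hp : p ∈ Q ⊔ S) {q : G} (hq : q ∈ Q) : p * q * p⁻¹ ∈ Q := by
  obtain ⟨k, hk, hkp⟩ := H.mem_T.1 hp
  have h1 := H.SQ _ (S.inv_mem hk) _ (Q.mul_mem (Q.mul_mem hkp hq) (Q.inv_mem hkp))
  have e : k⁻¹ * (k * p * q * (k * p)⁻¹) * k⁻¹⁻¹ = p * q * p⁻¹ := by group
  rwa [e] at h1

/-- commutators of `T = QS` are in `Q` -/
theorem comm_Q (H : Pos t V Q S) {x y : G} (hx : x ∈ Q ⊔ S) (hy : y ∈ Q ⊔ S) :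
    x * y * x⁻¹ * y⁻¹ ∈ Q := by
  obtain ⟨k, hk, hkx⟩ := H.mem_T.1 hx
  obtain ⟨l, hl, hly⟩ := H.mem_T.1 hy
  have hST : S ≤ Q ⊔ S := le_sup_right
  -- work modulo `Q`
  have hN : ∀ p ∈ (Q ⊔ S : Subgroup G), ∀ q ∈ Q, p * q * p⁻¹ ∈ Q := fun p hp q hq => H.TQ hp hq
  have e1 : x = k⁻¹ * (k * x) := by group
  have e2 : y = l⁻¹ * (l * y) := by group
  set a := k * x with ha
  set b := l * y with hb
  have hkT : k⁻¹ ∈ Q ⊔ S := hST (S.inv_mem hk)
  have hlT : l⁻¹ ∈ Q ⊔ S := hST (S.inv_mem hl)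
  have hc := H.VQ (H.comm_V (S.inv_mem hk) (S.inv_mem hl))
  -- `x y x⁻¹ y⁻¹ = (k⁻¹ a)(l⁻¹ b)(a⁻¹ k)(b⁻¹ l)`
  have h1 : a * l⁻¹ * a⁻¹ * (l⁻¹)⁻¹ ∈ Q := by
    have h2 := Q.mul_mem hkx (hN _ hlT _ (Q.inv_mem hkx))
    have e : a * (l⁻¹ * a⁻¹ * l⁻¹⁻¹) = a * l⁻¹ * a⁻¹ * (l⁻¹)⁻¹ := by group
    rwa [e] at h2
  have h3 : x * y * x⁻¹ * y⁻¹ = (k⁻¹ * (a * l⁻¹ * a⁻¹ * (l⁻¹)⁻¹) * k⁻¹⁻¹) *
      (k⁻¹ * l⁻¹ * k⁻¹⁻¹ * l⁻¹⁻¹) *
      ((l⁻¹ * k⁻¹) * (a * b * a⁻¹) * (l⁻¹ * k⁻¹)⁻¹) * (l⁻¹ * b⁻¹ * l⁻¹⁻¹) := by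
    rw [e1, e2]; group
  rw [h3]
  refine Q.mul_mem (Q.mul_mem (Q.mul_mem (hN _ hkT _ h1) hc) ?_) (hN _ hlT _ (Q.inv_mem hly))
  exact hN _ (mul_mem hlT hkT) _ (Q.mul_mem (Q.mul_mem hkx hly) (Q.inv_mem hkx))

/-- a 2-subgroup containing `S` meets `C(t)` in `S` -/
theorem cen_mem (H : Pos t V Q S) {R : Subgroup G} (hR : IsPGroup 2 R) (hSR : S ≤ R) {z : G}
    (hz : z ∈ R) (hzt : z * t = t * z) : z ∈ S := by
  refine H.Syl.2.2 (R ⊓ centralizer {t}) (hR.to_le inf_le_left) (le_inf hSR H.Syl.2.1)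
    inf_le_right ?_
  exact mem_inf.2 ⟨hz, mem_centralizer_singleton_iff.2 hzt⟩

/-- `T = QS` is a Sylow subgroup if `t ^ G ∩ T = t ^ T` -/
theorem sylow_T (H : Pos t V Q S)
    (hcl : ∀ g : G, g * t * g⁻¹ ∈ Q ⊔ S → ∃ p ∈ Q ⊔ S, g * t * g⁻¹ = p * t * p⁻¹) :
    ∃ R : Sylow 2 G, (R : Subgroup G) = Q ⊔ S := by
  obtain ⟨R, hR⟩ := H.T2.exists_le_sylow
  refine ⟨R, ?_⟩
  by_contra hne
  have hlt : Q ⊔ S < (R : Subgroup G) := lt_of_le_of_ne hR (fun h => hne h.symm)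
  obtain ⟨y, hy, hyT, hyN⟩ := exists_normalizer_gt R.isPGroup' hlt
  have hST : S ≤ Q ⊔ S := le_sup_right
  have h1 : y * t * y⁻¹ ∈ Q ⊔ S := (mem_normalizer_iff.1 hyN t).1 (hST H.tS)
  obtain ⟨p, hp, h2⟩ := hcl y h1
  apply hyT
  have h3 : (p⁻¹ * y) * t = t * (p⁻¹ * y) := by
    have h4 : (p⁻¹ * y) * t = p⁻¹ * (y * t * y⁻¹) * y := by group
    rw [h4, h2]; group
  have h5 := H.cen_mem R.isPGroup' (hST.trans hR) (mul_mem (inv_mem (hR hp)) hy) h3
  have h6 : y = p * (p⁻¹ * y) := by group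
  rw [h6]
  exact mul_mem hp (hST h5)

/-- **The end** -/
theorem end_false (H : Pos t V Q S)
    (hcl : ∀ g : G, g * t * g⁻¹ ∈ Q ⊔ S → ∃ p ∈ Q ⊔ S, g * t * g⁻¹ = p * t * p⁻¹)
    (gen : commutator G ⊔ zpowers t = ⊤) (VG : V ≤ commutator G) : False := by
  obtain ⟨R, hR⟩ := H.sylow_T hcl
  have hST : S ≤ Q ⊔ S := le_sup_right
  have hQT : Q ≤ Q ⊔ S := le_sup_left
  have hRm : ∀ x, x ∈ (R : Subgroup G) ↔ x ∈ Q ⊔ S := fun x => by rw [hR]
  have htR : t ∈ (R : Subgroup G) := (hRm t).2 (hST H.tS)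
  -- conjugates of `t` in `T` are in `tQ`
  have hclt : ∀ g : G, g⁻¹ * t * g ∈ (R : Subgroup G) →
      ∃ p ∈ (Q ⊔ S : Subgroup G), g⁻¹ * t * g = p * t * p⁻¹ := by
    intro g hg
    have := hcl g⁻¹ (by rw [inv_inv]; exact (hRm _).1 hg)
    rwa [inv_inv] at this
  have hmod : ∀ p ∈ (Q ⊔ S : Subgroup G), (p * t * p⁻¹)⁻¹ * t ∈ Q := by
    intro p hp
    have h1 := H.comm_Q hp (inv_mem (hST H.tS))
    have e : (p * t * p⁻¹)⁻¹ * t = p * t⁻¹ * p⁻¹ * t⁻¹⁻¹ := by group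
    rwa [e]
  have htG : t ∉ commutator G := by
    refine not_mem_comm R (N := Q) (fun p hp n hn => H.TQ ((hRm p).1 hp) hn)
      (fun x hx y hy => H.comm_Q ((hRm x).1 hx) ((hRm y).1 hy)) H.L.t2 H.L.t2 rfl htR H.tQ ?_ ?_
    · intro g hg
      obtain ⟨p, hp, h⟩ := hclt g hg
      left
      rw [h]; exact hmod p hp
    · intro g hg _
      obtain ⟨p, hp, h⟩ := hclt g hg
      rw [h]; exact hmod p hp
  -- squares
  have hdec : ∀ x : G, x ∈ commutator G ∨ t * x ∈ commutator G := by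
    intro x
    have hx : x ∈ commutator G ⊔ zpowers t := by rw [gen]; exact mem_top x
    rw [sup_comm] at hx
    have h1 : x ∈ ((zpowers t ⊔ commutator G : Subgroup G) : Set G) := hx
    rw [Subgroup.mul_normal] at h1
    obtain ⟨z, hz, c, hc, h2⟩ := Set.mem_mul.1 h1
    obtain ⟨n, hn⟩ := mem_zpowers_iff.1 hz
    have h22 : t ^ (2 : ℤ) = 1 := by
      rw [show (2 : ℤ) = ((2 : ℕ) : ℤ) from rfl, zpow_natCast, pow_two, H.L.t2]
    rcases Int.even_or_odd' n with ⟨k, rfl | rfl⟩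
    · left
      rw [zpow_mul, h22, one_zpow] at hn
      rw [← h2, ← hn, one_mul]; exact hc
    · right
      rw [zpow_add, zpow_mul, h22, one_zpow, one_mul, zpow_one] at hn
      rw [← h2, ← hn, ← mul_assoc, H.L.t2, one_mul]; exact hc
  have hnorm : ∀ c ∈ commutator G, ∀ g : G, g * c * g⁻¹ ∈ commutator G := fun c hc g =>
    (inferInstance : (commutator G).Normal).conj_mem c hc g
  have hsqG : ∀ x : G, x * x ∈ commutator G := by
    intro x
    rcases hdec x with h | h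
    · exact mul_mem h h
    · have h1 := hnorm _ h t⁻¹
      have h2 := mul_mem h1 h
      have e : t⁻¹ * (t * x) * t⁻¹⁻¹ * (t * x) = x * (t * t) * x := by group
      rwa [e, H.L.t2, mul_one] at h2
  obtain ⟨s, hs, w, hw, hsw⟩ := H.out
  have hsW : s ∉ H.L.W := fun h => hsw (H.L.W_V h hw)
  have hss : s * s ∈ H.L.W := by
    have hW : s⁻¹ ∉ H.L.W := fun h => hsW (by have := H.L.W.inv_mem h; rwa [inv_inv] at this)
    have h1 := H.mul_mem_W (S.inv_mem hs) hs hW hsW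
    rwa [inv_inv] at h1
  obtain ⟨v0, hv0, h0, hc⟩ := H.exists_v0
  rcases hss with hss | hss
  swap
  · apply htG
    have h1 := mul_mem (VG hss) (inv_mem (hsqG s))
    rwa [mul_inv_cancel_right] at h1
  -- an involution outside `W`
  obtain ⟨x, hx, hxW, hxx⟩ : ∃ x ∈ S, x ∉ H.L.W ∧ x * x = 1 := by
    by_cases h1 : s * s = 1
    · exact ⟨s, hs, hsW, h1⟩
    obtain ⟨u, hu, hu1, hu2, hu3, hu4⟩ := four_elts H.L.V4 H.L.vsq hv0 h0
    have h2 := H.swap hv0 h0 hc hs hsW hu hu1 hu2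
    have h3 := H.swap hv0 h0 hc hs hsW hss h1
    have h4 : s * s = v0 := by
      by_contra h4
      have h5 := h3 h4
      have h6 : s * (s * s) * s⁻¹ = s * s := by group
      rw [h6] at h5
      apply h0
      have : s * s * 1 = s * s * v0 := by rw [mul_one]; exact h5
      exact (mul_left_cancel this).symm
    refine ⟨s * u, S.mul_mem hs (H.VS hu), ?_, ?_⟩
    · intro h
      apply hsW
      have := H.L.W.mul_mem h (H.L.W.inv_mem (Or.inl hu))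
      rwa [mul_inv_cancel_right] at this
    · calc s * u * (s * u) = (s * u * s⁻¹) * (s * s) * u := by group
        _ = u * v0 * v0 * u := by rw [h2, h4]
        _ = u * (v0 * v0) * u := by group
        _ = 1 := by rw [H.L.vsq v0 hv0, mul_one, H.L.vsq u hu]
  -- an involution `f ∈ G'` outside `W`
  obtain ⟨f, hf, hfW, hff, hfG⟩ : ∃ f ∈ S, f ∉ H.L.W ∧ f * f = 1 ∧ f ∈ commutator G := by
    rcases hdec x with h | h
    · exact ⟨x, hx, hxW, hxx, h⟩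
    · refine ⟨t * x, S.mul_mem H.tS hx, ?_, ?_, h⟩
      · intro h1
        apply hxW
        have h2 := H.L.W.mul_mem H.L.tW h1
        rwa [← mul_assoc, H.L.t2, one_mul] at h2
      · calc t * x * (t * x) = t * (x * t) * x := by group
          _ = (t * t) * (x * x) := by rw [H.St hx]; group
          _ = 1 := by rw [H.L.t2, hxx, one_mul]
  -- the group `P = Q⟨t⟩`
  set P := dbl t Q H.L.t2 H.tn with hP
  have hPS : ∀ z ∈ P, z ∈ S → z ∈ H.L.W := by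
    intro z hz hzS
    have h1 := H.St hzS
    rcases hz with h | h
    · exact Or.inl (H.fixQ h h1)
    · right
      apply H.fixQ h
      rw [mul_assoc, h1]
  have hPT : ∀ p ∈ (Q ⊔ S : Subgroup G), ∀ n ∈ P, p * n * p⁻¹ ∈ P := by
    intro p hp n hn
    rcases hn with hn | hn
    · exact Or.inl (H.TQ hp hn)
    · right
      have h1 := H.TQ hp hn
      have h2 := Q.mul_mem (hmod p hp) h1
      have h3 : (p * t * p⁻¹)⁻¹ * t * (p * (t * n) * p⁻¹) ∈ Q := h2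
      -- `t (p n p⁻¹) = (t (p t p⁻¹)⁻¹) (p t n p⁻¹)`
      have h4 : t * (p * t * p⁻¹)⁻¹ ∈ Q := by
        have h5 := H.TQ (hST H.tS) (hmod p hp)
        have e : t * ((p * t * p⁻¹)⁻¹ * t) * t⁻¹ = t * (p * t * p⁻¹)⁻¹ := by group
        rwa [e] at h5
      have h6 := Q.mul_mem h4 h1
      have e : t * (p * t * p⁻¹)⁻¹ * (p * (t * n) * p⁻¹) = t * (p * n * p⁻¹) := by group
      rwa [e] at h6
  -- the quotient `T / P` has order 2
  have hfP : ∀ x ∈ (Q ⊔ S : Subgroup G), x ∉ P → x⁻¹ * f ∈ P := by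
    intro y hy hyP
    obtain ⟨k, hk, hky⟩ := H.mem_T.1 hy
    have hkW : k ∉ H.L.W := by
      intro h
      apply hyP
      have h1 : k⁻¹ ∈ P := by
        rcases H.L.W.inv_mem h with h' | h'
        · exact Or.inl (H.VQ h')
        · exact Or.inr (H.VQ h')
      have h2 := P.mul_mem h1 (Or.inl hky : k * y ∈ P)
      rwa [inv_mul_cancel_left] at h2
    have h1 := H.mul_mem_W (S.inv_mem hk) hf (fun h => hkW (by
      have := H.L.W.inv_mem h; rwa [inv_inv] at this)) hfW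
    rw [inv_inv] at h1
    have h2 : k * f ∈ P := h1.imp (fun h => H.VQ h) (fun h => H.VQ h)
    have h3 := P.mul_mem (P.inv_mem (Or.inl hky : k * y ∈ P)) h2
    have e : (k * y)⁻¹ * (k * f) = y⁻¹ * f := by group
    rwa [e] at h3
  refine not_mem_comm R (N := P) (fun p hp n hn => hPT p ((hRm p).1 hp) n hn)
    (fun x hx y hy => Or.inl (H.comm_Q ((hRm x).1 hx) ((hRm y).1 hy))) hff H.L.t2 (H.St hf)
    ((hRm f).2 (hST hf)) (fun h => hfW (hPS f h hf)) ?_ ?_ hfG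
  · intro g hg
    by_cases h : g⁻¹ * f * g ∈ P
    · exact Or.inr h
    · exact Or.inl (hfP _ ((hRm _).1 hg) h)
  · intro g hg hgt
    apply hfP _ ((hRm _).1 hg)
    intro hgP
    obtain ⟨p, hp, h⟩ := hclt g hgt
    -- `c = g p ∈ C(t)`
    have hct : (g * p) * t = t * (g * p) := by
      have e1 : (g * p) * t = g * (p * t * p⁻¹) * p := by group
      rw [e1, ← h]; group
    have hcf : (g * p)⁻¹ * f * (g * p) ∈ P := by
      have h1 := hPT p⁻¹ (inv_mem hp) _ hgP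
      have e : p⁻¹ * (g⁻¹ * f * g) * p⁻¹⁻¹ = (g * p)⁻¹ * f * (g * p) := by group
      rwa [e] at h1
    have hcft : ((g * p)⁻¹ * f * (g * p)) * t = t * ((g * p)⁻¹ * f * (g * p)) := by
      have h1 : (g * p)⁻¹ * t = t * (g * p)⁻¹ := by
        calc (g * p)⁻¹ * t = (g * p)⁻¹ * (t * (g * p)) * (g * p)⁻¹ := by group
          _ = t * (g * p)⁻¹ := by rw [← hct]; group
      calc ((g * p)⁻¹ * f * (g * p)) * t = (g * p)⁻¹ * f * ((g * p) * t) := by group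
        _ = (g * p)⁻¹ * (f * t) * (g * p) := by rw [hct]; group
        _ = ((g * p)⁻¹ * t) * f * (g * p) := by rw [H.St hf]; group
        _ = t * ((g * p)⁻¹ * f * (g * p)) := by rw [h1]; group
    have hcW : (g * p)⁻¹ * f * (g * p) ∈ H.L.W := by
      rcases hcf with h1 | h1
      · exact Or.inl (H.fixQ h1 hcft)
      · right
        apply H.fixQ h1
        rw [mul_assoc, hcft]
    apply hfW
    have e : (g * p) * ((g * p)⁻¹ * f * (g * p)) * (g * p)⁻¹ = f := by group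
    rcases hcW with h1 | h1
    · left
      have h2 := H.vcl _ hct _ h1 (by rw [e]; exact hf)
      rwa [e] at h2
    · right
      have e2 : (g * p) * (t * ((g * p)⁻¹ * f * (g * p))) * (g * p)⁻¹ = t * f := by
        calc (g * p) * (t * ((g * p)⁻¹ * f * (g * p))) * (g * p)⁻¹
            = ((g * p) * t) * ((g * p)⁻¹ * f * (g * p)) * (g * p)⁻¹ := by group
          _ = t * f := by rw [hct]; group
      have h2 := H.vcl _ hct _ h1 (by rw [e2]; exact S.mul_mem H.tS hf)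
      rwa [e2] at h2

end Pos

end Cfsg.Agent.StdL2.SFive
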