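import Cfsg.Agent.StdL2.SFive.QTwo
import Cfsg.Agent.StdL2.SFive.Leaf16
import Cfsg.Agent.StdL2.SFive.LeafZ4

/-!
# S1773, `q = 4`: `m = 2`, the input of the two leaves
-/

set_option autoImplicit false
set_option linter.unusedSectionVars false
set_option linter.style.haveILetI false

open Subgroup

namespace Cfsg.Agent.StdL2.SFive

open Cfsg.Agent.StdL2.FieldStart Cfsg.Agent.StdL2.SFive.LeafTools

variable {G : Type*} [Group G] [Finite G] {t d x : G} {V Q S : Subgroup G}

/-- every element of `Q` is of the form `a⁻¹ (d a d⁻¹)` -/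
theorem Tri.exists_comm (L : Loc t V) (St : Stg t V Q) (D : Tri t V Q d) {q : G} (hq : q ∈ Q) :
    ∃ a ∈ Q, a⁻¹ * (d * a * d⁻¹) = q := by
  have hinj : Function.Injective
      (fun a : Q => (⟨(a : G)⁻¹ * (d * a * d⁻¹), Q.mul_mem (Q.inv_mem a.2) (D.dQ a a.2)⟩ : Q)) := by
    intro a b hab
    have h1 : (a : G)⁻¹ * (d * a * d⁻¹) = (b : G)⁻¹ * (d * b * d⁻¹) := congrArg Subtype.val hab
    have h2 : d * ((a : G) * (b : G)⁻¹) * d⁻¹ = (a : G) * (b : G)⁻¹ := by
      calc d * ((a : G) * (b : G)⁻¹) * d⁻¹ = (d * a * d⁻¹) * (d * b * d⁻¹)⁻¹ := by group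
        _ = a * ((a : G)⁻¹ * (d * a * d⁻¹)) * (d * b * d⁻¹)⁻¹ := by group
        _ = a * ((b : G)⁻¹ * (d * b * d⁻¹)) * (d * b * d⁻¹)⁻¹ := by rw [h1]
        _ = (a : G) * (b : G)⁻¹ := by group
    have h3 : (a : G) * (b : G)⁻¹ = 1 := D.fixQ L St (Q.mul_mem a.2 (Q.inv_mem b.2)) h2
    exact Subtype.ext (eq_of_mul_inv_eq_one h3)
  obtain ⟨a, ha⟩ := (Finite.surjective_of_injective hinj) ⟨q, hq⟩
  exact ⟨a, a.2, congrArg Subtype.val ha⟩

/-- `Q ≤ N` for every normal subgroup with abelian quotient -/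
theorem Tri.Q_le (L : Loc t V) (St : Stg t V Q) (D : Tri t V Q d) {N : Subgroup G}
    (hN : commutator G ≤ N) : Q ≤ N := by
  intro q hq
  obtain ⟨a, -, rfl⟩ := D.exists_comm L St hq
  apply hN
  have h1 := commutator_mem_commutator (H₁ := (⊤ : Subgroup G)) (H₂ := ⊤) (mem_top a⁻¹) (mem_top d)
  have e : a⁻¹ * (d * a * d⁻¹) = a⁻¹ * d * a⁻¹⁻¹ * d⁻¹ := by group
  rw [e]
  exact h1

theorem Pos.out_iff (H : Pos t V Q S) (hx : x ∈ S) : x ∉ H.L.W ↔ ∃ v ∈ V, x * v ≠ v * x := by
  constructor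
  · intro h
    by_contra hcon
    push Not at hcon
    exact h (H.cenS hx hcon)
  · rintro ⟨v, hv, h1⟩ h
    exact h1 (H.L.W_V h hv)

/-- an outer involution has 4 fixed points on `Q ≅ E₁₆` -/
theorem Pos.card_cq_alt (H : Pos t V Q S) (St : Stg t V Q) (D : Tri t V Q d)
    (h16 : Nat.card Q = 16) (hel : ∀ q ∈ Q, q * q = 1) (hx : x ∈ S) (hxW : x ∉ H.L.W)
    (hxx : x * x = 1) : Nat.card (cq Q x) = 4 := by
  have L := H.L
  have hne : Q ≠ V := by
    intro h
    rw [h, L.V4] at h16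
    omega
  have hU : QU L St = Q := by
    apply Subgroup.eq_of_le_of_card_ge QU.le
    rw [QU.card L St D hne, h16]
  have hxm := (H.out_iff hx).1 hxW
  have hx2 : ∃ k, x ^ 2 ^ k = 1 := ⟨1, by rw [pow_one, pow_two, hxx]⟩
  obtain ⟨v0, hv0, hv01, hxv0, hfix, -⟩ := move4 L.V4 L.vsq hx2 (H.SV x hx) hxm
  have hcomm : ∀ a ∈ Q, ∀ b ∈ Q, a * b = b * a := fun a ha b hb => elem_comm hel ha hb
  -- upper bound
  have hle : Nat.card (cq Q x) ≤ 4 := by
    have hcV : Nat.card (V ⊓ centralizer ({x} : Set G) : Subgroup G) ≤ 2 := by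
      have h1 : ((V ⊓ centralizer ({x} : Set G) : Subgroup G) : Set G) ⊆ {1, v0} := by
        intro u hu
        have h2 := mem_inf.1 hu
        exact hfix u h2.1 (mem_centralizer_singleton_iff.1 h2.2).symm
      have h2 := Set.ncard_le_ncard h1 (Set.toFinite _)
      rw [← Nat.card_coe_set_eq] at h2
      rwa [Set.ncard_pair (Ne.symm hv01)] at h2
    let f : cq Q x →* V :=
      (QU.phi L St).comp (inclusion (fun q hq => by rw [hU]; exact (mem_cq.1 hq).1))
    have hf : ∀ q : cq Q x, ((f q : V) : G) = t * q * t⁻¹ * (q : G)⁻¹ := fun q => rfl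
    have hk : Nat.card f.ker ≤ 2 := by
      refine le_trans (Nat.card_le_card_of_injective (fun q : f.ker =>
        (⟨((q : cq Q x) : G), mem_inf.2 ⟨?_, ?_⟩⟩ :
          (V ⊓ centralizer ({x} : Set G) : Subgroup G))) ?_) hcV
      · have h1 : f q = 1 := q.2
        exact QU.phi_eq_one.1 h1
      · exact mem_centralizer_singleton_iff.2 (mem_cq.1 (q : cq Q x).2).2
      · intro a b hab
        exact Subtype.ext (Subtype.ext (congrArg (fun z : (V ⊓ centralizer ({x} : Set G) :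
          Subgroup G) => (z : G)) hab))
    have hr : Nat.card f.range ≤ 2 := by
      refine le_trans (Nat.card_le_card_of_injective (fun q : f.range =>
        (⟨((q : V) : G), mem_inf.2 ⟨q.1.2, ?_⟩⟩ :
          (V ⊓ centralizer ({x} : Set G) : Subgroup G))) ?_) hcV
      · obtain ⟨r, hr⟩ := q.2
        rw [mem_centralizer_singleton_iff, ← hr, hf]
        have h1 := (mem_cq.1 r.2).2
        have h2 : x * t = t * x := H.St hx
        have h3 : t⁻¹ * x = x * t⁻¹ := by
          calc t⁻¹ * x = t⁻¹ * (x * t) * t⁻¹ := by group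
            _ = x * t⁻¹ := by rw [h2]; group
        have h4 : (r : G)⁻¹ * x = x * (r : G)⁻¹ := by
          calc (r : G)⁻¹ * x = (r : G)⁻¹ * (x * r) * (r : G)⁻¹ := by group
            _ = x * (r : G)⁻¹ := by rw [← h1]; group
        calc t * r * t⁻¹ * (r : G)⁻¹ * x = t * r * t⁻¹ * ((r : G)⁻¹ * x) := by group
          _ = t * r * (t⁻¹ * x) * (r : G)⁻¹ := by rw [h4]; group
          _ = t * (r * x) * t⁻¹ * (r : G)⁻¹ := by rw [h3]; group
          _ = (t * x) * r * t⁻¹ * (r : G)⁻¹ := by rw [h1]; group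
          _ = x * (t * r * t⁻¹ * (r : G)⁻¹) := by rw [← h2]; group
      · intro a b hab
        exact Subtype.ext (Subtype.ext (congrArg (fun z : (V ⊓ centralizer ({x} : Set G) :
          Subgroup G) => (z : G)) hab))
    have h1 := f.ker.card_eq_card_quotient_mul_card_subgroup
    have h2 : Nat.card (cq Q x ⧸ f.ker) = Nat.card f.range :=
      Nat.card_congr (QuotientGroup.quotientKerEquivRange f).toEquiv
    rw [h2] at h1
    rw [h1]
    calc Nat.card f.range * Nat.card f.ker ≤ 2 * 2 := Nat.mul_le_mul hr hk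
      _ = 4 := rfl
  -- lower bound
  have hge : 16 ≤ Nat.card (cq Q x) * Nat.card (cq Q x) := by
    have hxi : x⁻¹ = x := inv_eq_of_mul_eq_one_left hxx
    let g : Q →* cq Q x :=
      { toFun := fun q => ⟨x * q * x⁻¹ * q, by
          rw [mem_cq]
          refine ⟨Q.mul_mem (H.SQ x hx q q.2) q.2, ?_⟩
          have h1 := hcomm _ (H.SQ x hx q q.2) q q.2
          calc x * (q : G) * x⁻¹ * q * x = q * (x * q * x⁻¹) * x := by rw [h1]
            _ = (q : G) * x * q := by group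
            _ = (x * x) * q * x * q := by rw [hxx, one_mul]
            _ = x * (x * (q : G) * x⁻¹ * q) := by rw [hxi]; group⟩
        map_one' := Subtype.ext (by
          change x * 1 * x⁻¹ * 1 = 1
          group)
        map_mul' := fun a b => Subtype.ext (by
          change x * ((a : G) * b) * x⁻¹ * ((a : G) * b) = (x * a * x⁻¹ * a) * (x * b * x⁻¹ * b)
          have h1 := hcomm _ (H.SQ x hx b b.2) a a.2
          calc x * ((a : G) * b) * x⁻¹ * ((a : G) * b)
              = (x * a * x⁻¹) * ((x * b * x⁻¹) * a) * b := by group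
            _ = (x * a * x⁻¹) * (a * (x * b * x⁻¹)) * b := by rw [h1]
            _ = (x * a * x⁻¹ * a) * (x * b * x⁻¹ * b) := by group) }
    have hker : Nat.card g.ker ≤ Nat.card (cq Q x) := by
      refine Nat.card_le_card_of_injective (fun q : g.ker =>
        (⟨((q : Q) : G), mem_cq.2 ⟨(q : Q).2, ?_⟩⟩ : cq Q x)) ?_
      · have h1 : x * ((q : Q) : G) * x⁻¹ * ((q : Q) : G) = 1 := congrArg Subtype.val q.2
        have h2 := eq_inv_of_mul_eq_one_left h1
        rw [inv_eq_of_mul_eq_one_left (hel _ (q : Q).2)] at h2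
        exact (mul_inv_eq_iff_eq_mul.1 h2).symm
      · intro a b hab
        exact Subtype.ext (Subtype.ext (congrArg (fun z : cq Q x => (z : G)) hab))
    have hrange : Nat.card g.range ≤ Nat.card (cq Q x) := Subgroup.card_le_card_group _
    have h1 := g.ker.card_eq_card_quotient_mul_card_subgroup
    have h2 : Nat.card (Q ⧸ g.ker) = Nat.card g.range :=
      Nat.card_congr (QuotientGroup.quotientKerEquivRange g).toEquiv
    rw [h2, h16] at h1
    rw [h1]
    exact Nat.mul_le_mul hrange hker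
  by_contra hcon
  have h3 : Nat.card (cq Q x) ≤ 3 := by omega
  have h4 : Nat.card (cq Q x) * Nat.card (cq Q x) ≤ 3 * 3 := Nat.mul_le_mul h3 h3
  omega

/-- **The input of `Leaf16`.** -/
theorem Pos.to_leaf16 (H : Pos t V Q S) (St : Stg t V Q) (D : Tri t V Q d)
    (h16 : Nat.card Q = 16) (hel : ∀ q ∈ Q, q * q = 1) (hx : x ∈ S) (hxW : x ∉ H.L.W)
    (hxx : x * x = 1) : ∃ v, Leaf16.Leaf t x v Q S := by
  have L := H.L
  have hxm := (H.out_iff hx).1 hxW
  have hx2 : ∃ k, x ^ 2 ^ k = 1 := ⟨1, by rw [pow_one, pow_two, hxx]⟩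
  obtain ⟨v0, hv0, hv01, hxv0, hfix, -⟩ := move4 L.V4 L.vsq hx2 (H.SV x hx) hxm
  have hxt : x * t = t * x := H.St hx
  have htx2 : t * x * (t * x) = 1 := by
    calc t * x * (t * x) = t * (x * t) * x := by group
      _ = (t * t) * (x * x) := by rw [hxt]; group
      _ = 1 := by rw [L.t2, hxx, one_mul]
  have htxS : t * x ∈ S := S.mul_mem H.tS hx
  have htxW : t * x ∉ H.L.W := by
    intro h
    apply hxW
    rcases h with h | h
    · right; exact h
    · left
      rwa [← mul_assoc, L.t2, one_mul] at h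
  have hcov : ∀ s ∈ S, s ∈ H.L.W ∨ x⁻¹ * s ∈ H.L.W := by
    intro s hs
    by_cases hsW : s ∈ H.L.W
    · exact Or.inl hsW
    · exact Or.inr (H.mul_mem_W hx hs hxW hsW)
  refine ⟨v0, ⟨L.t2, hxx, hxt.symm, hel, h16, H.S2, fun s hs => H.St hs, ?_, H.tS, hx, H.card_S, ?_,
    H.SQ, ?_, ?_, H.card_cq_alt St D h16 hel hx hxW hxx, H.card_cq_alt St D h16 hel htxS htxW htx2,
    H.VQ hv0, hv01, L.vt v0 hv0, hxv0.symm, ?_, ?_⟩⟩
  · intro P hP hSP hPt
    exact H.Syl.2.2 P hP hSP (fun s hs => mem_centralizer_singleton_iff.2 (hPt s hs))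
  · intro hab
    obtain ⟨v, hv, h1⟩ := hxm
    exact h1 (hab x hx v (H.VS hv))
  · intro s hs
    have hxi : x⁻¹ = x := inv_eq_of_mul_eq_one_left hxx
    rcases hcov s hs with h | h
    · rcases h with h | h
      · exact Or.inl (H.VQ h)
      · exact Or.inr (Or.inl (H.VQ h))
    · rw [hxi] at h
      rcases h with h | h
      · exact Or.inr (Or.inr (Or.inl (H.VQ h)))
      · refine Or.inr (Or.inr (Or.inr ?_))
        rw [mul_assoc]
        exact H.VQ h
  · have h1 : cq Q t = V := by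
      ext q
      rw [mem_cq]
      exact ⟨fun h => H.fixQ h.1 h.2, fun h => ⟨H.VQ h, L.vt q h⟩⟩
    rw [h1, L.V4]
  · intro q hq hqt hqx
    exact hfix q (H.fixQ hq hqt) hqx.symm
  · intro c hct
    have hct' : c⁻¹ * t = t * c⁻¹ := by
      calc c⁻¹ * t = c⁻¹ * (t * c) * c⁻¹ := by group
        _ = t * c⁻¹ := by rw [← hct]; group
    have hcx : (c * x * c⁻¹) * t = t * (c * x * c⁻¹) := by
      calc (c * x * c⁻¹) * t = c * x * (c⁻¹ * t) := by group
        _ = c * (x * t) * c⁻¹ := by rw [hct']; group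
        _ = (c * t) * x * c⁻¹ := by rw [hxt]; group
        _ = t * (c * x * c⁻¹) := by rw [hct]; group
    constructor
    · intro h
      have h1 := H.fixQ h hcx
      have h2 := H.vcl c⁻¹ hct' _ h1 (by
        have : c⁻¹ * (c * x * c⁻¹) * c⁻¹⁻¹ = x := by group
        rw [this]; exact hx)
      have : c⁻¹ * (c * x * c⁻¹) * c⁻¹⁻¹ = x := by group
      rw [this] at h2
      exact hxW (Or.inl h2)
    · intro h
      have h1 := H.fixQ h (by
        calc t * (c * x * c⁻¹) * t = t * ((c * x * c⁻¹) * t) := by group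
          _ = t * (t * (c * x * c⁻¹)) := by rw [hcx])
      have e : c⁻¹ * (t * (c * x * c⁻¹)) * c⁻¹⁻¹ = t * x := by
        calc c⁻¹ * (t * (c * x * c⁻¹)) * c⁻¹⁻¹ = (c⁻¹ * t) * c * x := by group
          _ = t * x := by rw [hct']; group
      have h2 := H.vcl c⁻¹ hct' _ h1 (by rw [e]; exact htxS)
      rw [e] at h2
      exact htxW (Or.inl h2)

/-- **The input of `LeafZ4`.** -/
theorem Pos.to_leafZ4 (H : Pos t V Q S) (St : Stg t V Q) (D : Tri t V Q d)
    (h16 : Nat.card Q = 16) (hinv : ∀ q ∈ Q, t * q * t⁻¹ = q⁻¹) (hx : x ∈ S) (hxW : x ∉ H.L.W)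
    (hxx : x * x = 1) : LeafZ4.Leaf t x V Q S :=
  ⟨H, h16, (H.two_cases St D h16).1, hinv, (H.two_cases St D h16).2.1, hx, hxx, hxW⟩

/-- **`m = 2`**: one of the two leaves -/
theorem Pos.leaf_two_alt (H : Pos t V Q S) (St : Stg t V Q) (D : Tri t V Q d)
    (h16 : Nat.card Q = 16) (hx : x ∈ S) (hxW : x ∉ H.L.W) (hxx : x * x = 1) :
    (∃ v, Leaf16.Leaf t x v Q S) ∨ LeafZ4.Leaf t x V Q S := by
  rcases (H.two_cases St D h16).2.2 with h | h
  · exact Or.inl (H.to_leaf16 St D h16 h hx hxW hxx)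
  · exact Or.inr (H.to_leafZ4 St D h16 h hx hxW hxx)

end Cfsg.Agent.StdL2.SFive
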