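import Cfsg.Agent.StdL2.SFive.LeafBig

/-!
# S1773, `q = 4`: the group `S = ⟨t⟩ × D₈`

`Fr v₀ u x`: `V = {1, v₀, u, u v₀}`, `x` an involution of `S - W`, `Z = {1, t, v₀, t v₀}` the centre of `S`,
`X₀ = ⟨x⟩Z` the second elementary abelian subgroup of order 8.
-/

set_option autoImplicit false
set_option linter.unusedSectionVars false
set_option linter.style.haveILetI false

open Subgroup

namespace Cfsg.Agent.StdL2.SFive

open Cfsg.Agent.StdL2.FieldStart

/-- the frame of `S` -/
structure Fr {G : Type*} [Group G] [Finite G] {t : G} {V Q S : Subgroup G} (H : Pos t V Q S) (v0 u x : G) :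
    Prop where
  v0V : v0 ∈ V
  v01 : v0 ≠ 1
  v0c : ∀ s ∈ S, s * v0 = v0 * s
  uV : u ∈ V
  u1 : u ≠ 1
  u0 : u ≠ v0
  xS : x ∈ S
  xW : x ∉ H.L.W
  xx : x * x = 1

namespace Fr

variable {G : Type*} [Group G] [Finite G] {t : G} {V Q S : Subgroup G} {H : Pos t V Q S}
  {v0 u x : G}

theorem vv (F : Fr H v0 u x) : v0 * v0 = 1 := H.L.vsq v0 F.v0V

theorem uu (F : Fr H v0 u x) : u * u = 1 := H.L.vsq u F.uV

theorem uv (F : Fr H v0 u x) : u * v0 = v0 * u := H.L.vcomm F.uV F.v0V

theorem xt (F : Fr H v0 u x) : x * t = t * x := H.St F.xS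

theorem xv (F : Fr H v0 u x) : x * v0 = v0 * x := F.v0c x F.xS

theorem ut (F : Fr H v0 u x) : u * t = t * u := H.L.vt u F.uV

theorem vt (F : Fr H v0 u x) : v0 * t = t * v0 := H.L.vt v0 F.v0V

theorem xinv (F : Fr H v0 u x) : x⁻¹ = x := inv_of_sq F.xx

theorem xu (F : Fr H v0 u x) : x * u = u * v0 * x := by
  have h := H.swap F.v0V F.v01 F.v0c F.xS F.xW F.uV F.u1 F.u0
  have := congrArg (fun z => z * x) h
  simpa using this

theorem V4 (F : Fr H v0 u x) {v : G} (hv : v ∈ V) : v = 1 ∨ v = v0 ∨ v = u ∨ v = u * v0 := by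
  obtain ⟨w, hw, hw1, hw0, hwc, hw4⟩ := four_elts H.L.V4 H.L.vsq F.v0V F.v01
  rcases hw4 u F.uV with h | h | h | h
  · exact absurd h F.u1
  · exact absurd h F.u0
  · rw [h]; exact hw4 v hv
  · rcases hw4 v hv with h' | h' | h' | h'
    · exact Or.inl h'
    · exact Or.inr (Or.inl h')
    · right; right; right
      rw [h', h, mul_assoc, F.vv, mul_one]
    · right; right; left
      rw [h', h]

theorem uv0V (F : Fr H v0 u x) : u * v0 ∈ V := V.mul_mem F.uV F.v0V

theorem tinv (_F : Fr H v0 u x) : t⁻¹ = t := H.L.tinv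

/-- elements of `Z` -/
def IsZ (_F : Fr H v0 u x) (z : G) : Prop := z = 1 ∨ z = v0 ∨ z = t ∨ z = t * v0

theorem isZ_W (F : Fr H v0 u x) {z : G} (hz : F.IsZ z) : z ∈ H.L.W := by
  rcases hz with rfl | rfl | rfl | rfl
  · exact one_mem _
  · exact H.L.VW F.v0V
  · exact H.L.tW
  · exact mul_mem H.L.tW (H.L.VW F.v0V)

theorem isZ_c (F : Fr H v0 u x) {z : G} (hz : F.IsZ z) {s : G} (hs : s ∈ S) : s * z = z * s := by
  rcases hz with rfl | rfl | rfl | rfl
  · simp
  · exact F.v0c s hs
  · exact H.St hs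
  · rw [← mul_assoc, H.St hs, mul_assoc, F.v0c s hs, ← mul_assoc]

theorem isZ_sq (F : Fr H v0 u x) {z : G} (hz : F.IsZ z) : z * z = 1 := H.L.Wsq (F.isZ_W hz)

theorem isZ_mul (F : Fr H v0 u x) {z w : G} (hz : F.IsZ z) (hw : F.IsZ w) : F.IsZ (z * w) := by
  have h1 := F.vv
  have h2 := H.L.t2
  have h3 := F.vt
  rcases hz with rfl | rfl | rfl | rfl
  · rw [one_mul]; exact hw
  · rcases hw with rfl | rfl | rfl | rfl
    · rw [mul_one]; exact Or.inr (Or.inl rfl)
    · left; exact h1
    · right; right; right; exact h3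
    · right; right; left
      rw [← mul_assoc, h3, mul_assoc, h1, mul_one]
  · rcases hw with rfl | rfl | rfl | rfl
    · rw [mul_one]; exact Or.inr (Or.inr (Or.inl rfl))
    · right; right; right; rfl
    · left; exact h2
    · right; left; rw [← mul_assoc, h2, one_mul]
  · rcases hw with rfl | rfl | rfl | rfl
    · rw [mul_one]; exact Or.inr (Or.inr (Or.inr rfl))
    · right; right; left; rw [mul_assoc, h1, mul_one]
    · right; left; rw [mul_assoc, h3, ← mul_assoc, h2, one_mul]
    · left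
      rw [mul_assoc, ← mul_assoc v0, h3, mul_assoc t v0 v0, h1, mul_one, h2]

/-- elements of `W` commuting with `x` are in `Z` -/
theorem W_cx (F : Fr H v0 u x) {w : G} (hw : w ∈ H.L.W) {y : G} (hy : y ∈ S) (hyW : y ∉ H.L.W)
    (h : y * w = w * y) : F.IsZ w := by
  have key : ∀ v ∈ V, y * v = v * y → v = 1 ∨ v = v0 := by
    intro v hv hyv
    by_contra hcon
    push Not at hcon
    have h1 := H.swap F.v0V F.v01 F.v0c hy hyW hv hcon.1 hcon.2
    rw [hyv, mul_inv_cancel_right] at h1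
    apply F.v01
    have : v * 1 = v * v0 := by rw [mul_one]; exact h1
    exact (mul_left_cancel this).symm
  rcases hw with hw | hw
  · exact (key w hw h).imp id Or.inl
  · have h1 : y * (t * w) = (t * w) * y := by
      rw [← mul_assoc, H.St hy, mul_assoc, h, mul_assoc]
    have e : w = t * (t * w) := by rw [← mul_assoc, H.L.t2, one_mul]
    rcases key _ hw h1 with h2 | h2
    · right; right; left
      rw [e, h2, mul_one]
    · right; right; right
      rw [e, h2]

/-- the centre of `S` -/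
theorem central (F : Fr H v0 u x) {z : G} (hz : z ∈ S) (h : ∀ s ∈ S, s * z = z * s) : F.IsZ z :=
  F.W_cx (H.cenS hz (fun v hv => (h v (H.VS hv)).symm)) F.xS F.xW (h x F.xS)

/-- decomposition of the elements of `S - W` -/
theorem dec (F : Fr H v0 u x) {s : G} (hs : s ∈ S) (hsW : s ∉ H.L.W) : x * s ∈ H.L.W := by
  have h1 := H.mul_mem_W F.xS hs F.xW hsW
  rwa [F.xinv] at h1

/-- involutions in `S - W` -/
theorem invol (F : Fr H v0 u x) {s : G} (hs : s ∈ S) (hsW : s ∉ H.L.W) (hss : s * s = 1) :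
    F.IsZ (x * s) := by
  have h1 := F.dec hs hsW
  -- `s` commutes with `x s`... first `s = x w`, `w` inverted by `x`
  apply F.W_cx h1 hs hsW
  have h2 := H.L.Wsq h1
  -- `(x s)(x s) = 1`
  have h3 : (x * s)⁻¹ = s⁻¹ * x⁻¹ := mul_inv_rev x s
  rw [F.xinv, inv_of_sq hss] at h3
  have h4 : (x * s)⁻¹ = x * s := inv_of_sq h2
  rw [h4] at h3
  -- h3 : x * s = s * x
  rw [← mul_assoc, ← h3]

/-- squares in `S` -/
theorem sq (F : Fr H v0 u x) {s : G} (hs : s ∈ S) : s * s = 1 ∨ s * s = v0 := by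
  by_cases hsW : s ∈ H.L.W
  · exact Or.inl (H.L.Wsq hsW)
  have h1 := H.sq_W hs
  rcases F.W_cx h1 hs hsW (by rw [mul_assoc]) with h | h | h | h
  · exact Or.inl h
  · exact Or.inr h
  · exfalso
    -- `s = x w`
    have h2 := F.dec hs hsW
    set w := x * s with hw
    have hs' : s = x * w := by rw [hw, ← mul_assoc, F.xx, one_mul]
    have h3 : s * s = (x * w * x⁻¹) * w := by rw [hs', F.xinv]; group
    have h4 : x * w * x⁻¹ * w ∈ V := by
      rcases h2 with h2 | h2
      · exact V.mul_mem (H.SV x F.xS w h2) h2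
      · have h5 := V.mul_mem (H.SV x F.xS _ h2) h2
        have h6 : w * t = t * w := H.L.W_t (Or.inr h2)
        have e : x * (t * w) * x⁻¹ * (t * w) = x * w * x⁻¹ * w := by
          calc x * (t * w) * x⁻¹ * (t * w) = (x * t) * w * x⁻¹ * (t * w) := by group
            _ = t * (x * w * x⁻¹ * (t * w)) := by rw [F.xt]; group
            _ = t * (x * w * (x⁻¹ * t) * w) := by group
            _ = t * (x * w * (t * x⁻¹) * w) := by rw [F.xinv, F.xt]
            _ = t * (x * (w * t) * x⁻¹ * w) := by group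
            _ = t * ((x * t) * w * x⁻¹ * w) := by rw [h6]; group
            _ = (t * t) * (x * w * x⁻¹ * w) := by rw [F.xt]; group
            _ = x * w * x⁻¹ * w := by rw [H.L.t2, one_mul]
        rwa [e] at h5
    rw [← h3, h] at h4
    exact H.L.tV h4
  · exfalso
    have h2 := F.dec hs hsW
    set w := x * s with hw
    have hs' : s = x * w := by rw [hw, ← mul_assoc, F.xx, one_mul]
    have h3 : s * s = (x * w * x⁻¹) * w := by rw [hs', F.xinv]; group
    have h4 : x * w * x⁻¹ * w ∈ V := by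
      rcases h2 with h2 | h2
      · exact V.mul_mem (H.SV x F.xS w h2) h2
      · have h5 := V.mul_mem (H.SV x F.xS _ h2) h2
        have h6 : w * t = t * w := H.L.W_t (Or.inr h2)
        have e : x * (t * w) * x⁻¹ * (t * w) = x * w * x⁻¹ * w := by
          calc x * (t * w) * x⁻¹ * (t * w) = (x * t) * w * x⁻¹ * (t * w) := by group
            _ = t * (x * w * x⁻¹ * (t * w)) := by rw [F.xt]; group
            _ = t * (x * w * (x⁻¹ * t) * w) := by group
            _ = t * (x * w * (t * x⁻¹) * w) := by rw [F.xinv, F.xt]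
            _ = t * (x * (w * t) * x⁻¹ * w) := by group
            _ = t * ((x * t) * w * x⁻¹ * w) := by rw [h6]; group
            _ = (t * t) * (x * w * x⁻¹ * w) := by rw [F.xt]; group
            _ = x * w * x⁻¹ * w := by rw [H.L.t2, one_mul]
        rwa [e] at h5
    rw [← h3, h] at h4
    apply H.L.tV
    have h5 := V.mul_mem h4 F.v0V
    rwa [mul_assoc, F.vv, mul_one] at h5

/-- an element normalising `S` centralises `v0` -/
theorem norm_v0 (F : Fr H v0 u x) {n : G} (hn : ∀ s ∈ S, n * s * n⁻¹ ∈ S) : n * v0 * n⁻¹ = v0 := by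
  have h1 : (x * u) * (x * u) = v0 := by
    calc (x * u) * (x * u) = (x * u) * x * u := by group
      _ = u * v0 * (x * x) * u := by rw [F.xu]; group
      _ = u * (v0 * u) := by rw [F.xx]; group
      _ = v0 := by rw [← F.uv, ← mul_assoc, F.uu, one_mul]
  have h2 := F.sq (hn _ (S.mul_mem F.xS (H.VS F.uV)))
  have h3 : n * (x * u) * n⁻¹ * (n * (x * u) * n⁻¹) = n * v0 * n⁻¹ := by
    rw [← h1]; group
  rw [h3] at h2
  rcases h2 with h2 | h2
  · exfalso
    apply F.v01
    have := congrArg (fun z => n⁻¹ * z * n) h2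
    simpa [mul_assoc] using this
  · exact h2

/-- an element normalising `S` maps `t` to `t` or `t v0` -/
theorem norm_t (F : Fr H v0 u x) {n : G} (hn : ∀ s ∈ S, n * s * n⁻¹ ∈ S) :
    n * t * n⁻¹ = t ∨ n * t * n⁻¹ = t * v0 := by
  have hN : n ∈ normalizer (S : Set G) := Fld.conj_mem_norm hn
  have h1 : F.IsZ (n * t * n⁻¹) := by
    apply F.central (hn t H.tS)
    intro s hs
    have h2 : n⁻¹ * s * n ∈ S := by
      have := (mem_normalizer_iff.1 ((normalizer (S : Set G)).inv_mem hN) s).1 hs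
      rwa [inv_inv] at this
    have h3 := H.St h2
    calc s * (n * t * n⁻¹) = n * ((n⁻¹ * s * n) * t) * n⁻¹ := by group
      _ = n * t * n⁻¹ * s := by rw [h3]; group
  have h0 := F.norm_v0 hn
  rcases h1 with h | h | h | h
  · exfalso; apply H.L.t1
    have := congrArg (fun z => n⁻¹ * z * n) h
    simpa [mul_assoc] using this
  · exfalso
    have h2 : n * t * n⁻¹ = n * v0 * n⁻¹ := by rw [h, h0]
    have h3 : t = v0 := by
      have := congrArg (fun z => n⁻¹ * z * n) h2
      simpa [mul_assoc] using this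
    exact H.L.tV (h3 ▸ F.v0V)
  · exact Or.inl h
  · exact Or.inr h

/-- membership in `X₀ = C_S(x)` -/
theorem mem_X0 (F : Fr H v0 u x) {z : G} :
    z ∈ (S ⊓ centralizer {x} : Subgroup G) ↔ F.IsZ z ∨ F.IsZ (x * z) := by
  rw [mem_inf, mem_centralizer_singleton_iff]
  constructor
  · rintro ⟨h1, h2⟩
    by_cases hzW : z ∈ H.L.W
    · exact Or.inl (F.W_cx hzW F.xS F.xW h2.symm)
    · right
      have h3 := F.dec h1 hzW
      apply F.W_cx h3 F.xS F.xW
      rw [mul_assoc, h2]
  · have hZS : ∀ z, F.IsZ z → z ∈ S := fun z hz => H.WS (F.isZ_W hz)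
    rintro (h | h)
    · exact ⟨hZS z h, (F.isZ_c h F.xS).symm⟩
    · have e : z = x * (x * z) := by rw [← mul_assoc, F.xx, one_mul]
      refine ⟨?_, ?_⟩
      · rw [e]; exact S.mul_mem F.xS (hZS _ h)
      · have h3 := F.isZ_c h F.xS
        have h4 : x * (x * z) = x * (z * x) := by rw [h3, mul_assoc]
        exact (mul_left_cancel h4).symm

/-- all elements of `X₀` are involutions -/
theorem X0_sq (F : Fr H v0 u x) {z : G} (hz : z ∈ (S ⊓ centralizer {x} : Subgroup G)) :
    z * z = 1 := by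
  rcases F.mem_X0.1 hz with h | h
  · exact F.isZ_sq h
  · have h1 := F.isZ_sq h
    have h2 := mem_centralizer_singleton_iff.1 (mem_inf.1 hz).2
    calc z * z = (x * x) * (z * z) := by rw [F.xx, one_mul]
      _ = x * (x * z) * z := by group
      _ = x * (z * x) * z := by rw [h2]
      _ = x * z * (x * z) := by group
      _ = 1 := h1

theorem X0_comm (F : Fr H v0 u x) {z w : G} (hz : z ∈ (S ⊓ centralizer {x} : Subgroup G))
    (hw : w ∈ (S ⊓ centralizer {x} : Subgroup G)) : z * w = w * z := by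
  have h1 := inv_of_sq (F.X0_sq (mul_mem hz hw))
  rw [mul_inv_rev, inv_of_sq (F.X0_sq hz), inv_of_sq (F.X0_sq hw)] at h1
  exact h1.symm

theorem card_X0 (F : Fr H v0 u x) : Nat.card (S ⊓ centralizer {x} : Subgroup G) = 8 := by
  -- `X₀ = dbl x (dbl t (zpowers v0))`
  have hv2 : orderOf v0 = 2 := orderOf_eq_prime (by rw [pow_two]; exact F.vv) F.v01
  have hz : ∀ z, z ∈ zpowers v0 ↔ z = 1 ∨ z = v0 := by
    intro z
    constructor
    · intro h
      obtain ⟨n, rfl⟩ := mem_zpowers_iff.1 h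
      have h2 : v0 ^ (2 : ℤ) = 1 := by
        rw [show (2 : ℤ) = ((2 : ℕ) : ℤ) from rfl, zpow_natCast, pow_two, F.vv]
      rcases Int.even_or_odd' n with ⟨k, rfl | rfl⟩
      · left; rw [zpow_mul, h2, one_zpow]
      · right; rw [zpow_add, zpow_mul, h2, one_zpow, one_mul, zpow_one]
    · rintro (rfl | rfl)
      · exact one_mem _
      · exact mem_zpowers z
  have hn1 : ∀ q ∈ zpowers v0, t * q * t⁻¹ ∈ zpowers v0 := by
    intro q hq
    rcases (hz q).1 hq with rfl | rfl
    · simp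
    · rw [← F.vt]; simp
  have hZ : ∀ z, z ∈ dbl t (zpowers v0) H.L.t2 hn1 ↔ F.IsZ z := by
    intro z
    rw [mem_dbl, hz, hz]
    constructor
    · rintro ((h | h) | (h | h))
      · exact Or.inl h
      · exact Or.inr (Or.inl h)
      · right; right; left
        rw [← H.L.tinv]; exact eq_inv_of_mul_eq_one_right h
      · right; right; right
        rw [← h, ← mul_assoc, H.L.t2, one_mul]
    · rintro (h | h | h | h)
      · exact Or.inl (Or.inl h)
      · exact Or.inl (Or.inr h)
      · exact Or.inr (Or.inl (by rw [h, H.L.t2]))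
      · exact Or.inr (Or.inr (by rw [h, ← mul_assoc, H.L.t2, one_mul]))
  have hn2 : ∀ q ∈ dbl t (zpowers v0) H.L.t2 hn1, x * q * x⁻¹ ∈ dbl t (zpowers v0) H.L.t2 hn1 := by
    intro q hq
    rw [F.isZ_c ((hZ q).1 hq) F.xS, mul_inv_cancel_right]
    exact hq
  have heq : (S ⊓ centralizer {x} : Subgroup G) =
      dbl x (dbl t (zpowers v0) H.L.t2 hn1) F.xx hn2 := by
    ext z
    rw [F.mem_X0, mem_dbl, hZ, hZ]
  rw [heq, card_dbl, card_dbl, Nat.card_zpowers, hv2]
  · intro h
    rcases (hz t).1 h with h | h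
    · exact H.L.t1 h
    · exact H.L.tV (h ▸ F.v0V)
  · intro h
    exact F.xW (F.isZ_W ((hZ x).1 h))

/-- elementary abelian subgroups of order at least 8 of `S` not contained in `W` are `X₀` -/
theorem eq_X0 (F : Fr H v0 u x) {E : Subgroup G} (hE : E ≤ S) (hsq : ∀ e ∈ E, e * e = 1)
    (h8 : 8 ≤ Nat.card E) {y : G} (hy : y ∈ E) (hyW : y ∉ H.L.W) :
    E = (S ⊓ centralizer {x} : Subgroup G) := by
  have hab : ∀ a ∈ E, ∀ b ∈ E, a * b = b * a := by
    intro a ha b hb
    have h1 := inv_of_sq (hsq _ (E.mul_mem ha hb))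
    rw [mul_inv_rev, inv_of_sq (hsq a ha), inv_of_sq (hsq b hb)] at h1
    exact h1.symm
  refine Subgroup.eq_of_le_of_card_ge ?_ (by rw [F.card_X0]; exact h8)
  intro e he
  rw [F.mem_X0]
  by_cases heW : e ∈ H.L.W
  · exact Or.inl (F.W_cx heW (hE hy) hyW (hab y hy e he))
  · exact Or.inr (F.invol (hE he) heW (hsq e he))

end Fr

end Cfsg.Agent.StdL2.SFive
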