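import Cfsg.Agent.StdL2.SFive.Count

/-!
# S1773, `q = 4`: a stage which is not Sylow in `C(V)` can be enlarged
-/

set_option autoImplicit false
set_option linter.unusedSectionVars false
set_option linter.unusedVariables false
set_option linter.style.haveILetI false

open Subgroup

namespace Cfsg.Agent.StdL2.SFive

open Cfsg.Agent.StdL2.FieldStart

variable {G : Type*} [Group G] [Finite G]

theorem two_pow_inj {a b j r : ℕ} (hj : Odd j) (hr : Odd r) (h : 2 ^ a * j = 2 ^ b * r) :
    a = b ∧ j = r := by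
  rcases lt_trichotomy a b with hab | hab | hab
  · exfalso
    obtain ⟨c, rfl⟩ := Nat.exists_eq_add_of_lt hab
    have h1 : j = 2 * (2 ^ c * r) := by
      apply Nat.eq_of_mul_eq_mul_left (pow_pos (by norm_num : 0 < 2) a)
      rw [h]; ring
    rw [h1] at hj
    exact absurd hj (by simp)
  · subst hab
    exact ⟨rfl, Nat.eq_of_mul_eq_mul_left (pow_pos (by norm_num : 0 < 2) a) h⟩
  · exfalso
    obtain ⟨c, rfl⟩ := Nat.exists_eq_add_of_lt hab
    have h1 : r = 2 * (2 ^ c * j) := by
      apply Nat.eq_of_mul_eq_mul_left (pow_pos (by norm_num : 0 < 2) b)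
      rw [← h]; ring
    rw [h1] at hr
    exact absurd hr (by simp)

theorem odd_of_not_dvd {n : ℕ} (h : ¬ 2 ∣ n) : Odd n := by
  rw [← Nat.not_even_iff_odd, even_iff_two_dvd]
  exact h

/-- conjugation by an element normalising a finite subgroup is surjective on it -/
theorem conj_surj {H : Subgroup G} {m : G} (h : ∀ x ∈ H, m * x * m⁻¹ ∈ H) :
    ∀ y ∈ H, m⁻¹ * y * m ∈ H := by
  intro y hy
  have hinj : Function.Injective (fun w : H => (⟨m * w * m⁻¹, h w w.2⟩ : H)) := by
    intro a b hab
    have := congrArg Subtype.val hab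
    exact Subtype.ext (mul_left_cancel (mul_right_cancel this))
  obtain ⟨w, hw⟩ := (Finite.injective_iff_surjective.1 hinj) ⟨y, hy⟩
  have h1 : m * (w : G) * m⁻¹ = y := congrArg Subtype.val hw
  rw [← h1]
  have e : m⁻¹ * (m * (w : G) * m⁻¹) * m = w := by group
  rw [e]
  exact w.2

theorem mem_normalizer_of {H : Subgroup G} {m : G} (h : ∀ x ∈ H, m * x * m⁻¹ ∈ H) :
    m ∈ normalizer (H : Set G) := by
  rw [mem_normalizer_iff]
  intro x
  refine ⟨h x, fun hx => ?_⟩
  have := conj_surj h _ hx
  have e : m⁻¹ * (m * x * m⁻¹) * m = x := by group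
  rwa [e] at this

theorem conj_centralizer {V : Subgroup G} {m : G} (h : ∀ x ∈ V, m * x * m⁻¹ ∈ V) {k : G}
    (hk : k ∈ centralizer (V : Set G)) : m * k * m⁻¹ ∈ centralizer (V : Set G) := by
  rw [mem_centralizer_iff] at hk ⊢
  intro v hv
  have h1 := hk _ (conj_surj h v hv)
  calc v * (m * k * m⁻¹) = m * ((m⁻¹ * v * m) * k) * m⁻¹ := by group
    _ = m * (k * (m⁻¹ * v * m)) * m⁻¹ := by rw [h1]
    _ = m * k * m⁻¹ * v := by group

/-- the odd-order part of `C(t) ∩ C(V)` centralises every 2-subgroup of `C(V)` it normalises -/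
theorem odd_cent {t : G} {V P : Subgroup G} (L : Loc t V) (hP : IsPGroup 2 P)
    (hPV : ∀ x ∈ P, ∀ v ∈ V, x * v = v * x) (htP : ∀ x ∈ P, t * x * t⁻¹ ∈ P) {w : G}
    (hwt : w * t = t * w) (hwV : ∀ v ∈ V, w * v = v * w) (hwP : ∀ x ∈ P, w * x * w⁻¹ ∈ P)
    (hodd : Odd (orderOf w)) : ∀ x ∈ P, w * x = x * w := by
  haveI : Fact (Nat.Prime 2) := ⟨Nat.prime_two⟩
  have h := Cfsg.Agent.Lib.ThompsonPQ.thompson_p_times_q 2 (zpowers t) (zpowers w) P ?_ ?_ hP ?_ ?_ ?_ ?_
  · intro x hx
    have h1 := h (mem_zpowers w)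
    rw [mem_centralizer_iff] at h1
    exact (h1 x hx).symm
  · refine IsPGroup.of_card (n := 1) ?_
    rw [Nat.card_zpowers, pow_one]
    exact orderOf_eq_prime (by rw [pow_two]; exact L.t2) L.t1
  · rw [Nat.card_zpowers]
    exact (Nat.coprime_two_right).2 hodd
  · rw [zpowers_le, mem_centralizer_iff]
    rintro _ ⟨n, rfl⟩
    exact (Commute.zpow_left (show Commute w t from hwt) n)
  · rw [zpowers_le]
    exact mem_normalizer_of htP
  · rw [zpowers_le]
    exact mem_normalizer_of hwP
  · intro x hx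
    obtain ⟨hx1, hx2⟩ := mem_inf.1 hx
    have h1 : x * t = t * x := (mem_centralizer_iff.1 hx2 t (mem_zpowers t)).symm
    obtain ⟨k, hk⟩ := hP ⟨x, hx1⟩
    have h2 : x ∈ L.W := L.cen x h1 (hPV x hx1) ⟨k, by simpa using congrArg Subtype.val hk⟩
    have h3 : w * x = x * w := by
      rcases h2 with h3 | h3
      · exact hwV x h3
      · have h4 := hwV _ h3
        have h5 : t * (w * x) = t * (x * w) := by
          rw [← mul_assoc, ← hwt, mul_assoc, h4, mul_assoc]
        exact mul_left_cancel h5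
    rw [mem_centralizer_iff]
    rintro _ ⟨n, rfl⟩
    exact (Commute.zpow_left (show Commute w x from h3) n)

/-- `C_K(t)` has order `8 r`, `r` odd -/
theorem card_cent {t : G} {V : Subgroup G} (L : Loc t V) {K : Subgroup G} (hWK : L.W ≤ K)
    (hK : ∀ x ∈ K, ∀ v ∈ V, x * v = v * x) :
    ∃ r, Odd r ∧ Nat.card (K ⊓ centralizer {t} : Subgroup G) = 8 * r := by
  set C : Subgroup G := K ⊓ centralizer {t} with hC
  have hW2 : IsPGroup 2 L.W := IsPGroup.of_card (n := 3) (by rw [L.card_W]; norm_num)
  have hWC : L.W ≤ C := le_inf hWK (fun x hx => mem_centralizer_singleton_iff.2 (L.W_t hx))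
  have hsyl : IsSyl C L.W := by
    refine ⟨hW2, hWC, fun P hP _ hPC => ?_⟩
    exact L.le_W hP (fun x hx => mem_centralizer_singleton_iff.1 (mem_inf.1 (hPC hx)).2)
      (fun x hx => hK x (mem_inf.1 (hPC hx)).1)
  refine ⟨L.W.relIndex C, odd_of_not_dvd (IsSyl.odd hsyl), ?_⟩
  have h1 := relIndex_mul_relIndex ⊥ L.W C bot_le hWC
  rw [relIndex_bot_left, relIndex_bot_left, L.card_W] at h1
  exact h1.symm

/-- two elements acting without fixed points on a four-group -/
theorem act_eq {V : Subgroup G} (V4 : Nat.card V = 4) (hcomm : ∀ x ∈ V, ∀ y ∈ V, x * y = y * x)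
    {d e : G}
    (dV : ∀ v ∈ V, d * v * d⁻¹ ∈ V) (eV : ∀ v ∈ V, e * v * e⁻¹ ∈ V)
    (df : ∀ v ∈ V, d * v * d⁻¹ = v → v = 1) (ef : ∀ v ∈ V, e * v * e⁻¹ = v → v = 1) :
    (∀ v ∈ V, e * v * e⁻¹ = d * v * d⁻¹) ∨ (∀ v ∈ V, e * v * e⁻¹ = d⁻¹ * v * d) := by
  classical
  -- a ≠ 1, b = d a d⁻¹, c = d b d⁻¹
  obtain ⟨a, ha, ha1⟩ : ∃ a ∈ V, a ≠ 1 := by
    by_contra h
    push Not at h
    have : V = ⊥ := (eq_bot_iff_forall V).2 h
    rw [this, card_bot] at V4
    omega
  set b := d * a * d⁻¹ with hb
  set c := d * b * d⁻¹ with hc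
  have hbV : b ∈ V := dV a ha
  have hcV : c ∈ V := dV b hbV
  have hb1 : b ≠ 1 := fun h => ha1 (by
    have : a = d⁻¹ * b * d := by rw [hb]; group
    rw [this, h]; group)
  have hc1 : c ≠ 1 := fun h => hb1 (by
    have : b = d⁻¹ * c * d := by rw [hc]; group
    rw [this, h]; group)
  have hab : b ≠ a := fun h => ha1 (df a ha h)
  have hbc : c ≠ b := fun h => hb1 (df b hbV h)
  have inj : ∀ g x y : G, g * x * g⁻¹ = g * y * g⁻¹ → x = y :=
    fun g x y h => mul_left_cancel (mul_right_cancel h)
  have hVset : ∀ S : Finset G, (∀ x ∈ S, x ∈ V) → S.card ≤ 4 := by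
    intro S hS
    rw [← V4]
    have : (S : Set G).ncard ≤ (V : Set G).ncard :=
      Set.ncard_le_ncard (fun x hx => hS x hx) (Set.toFinite _)
    rwa [Set.ncard_coe_finset, show (V : Set G).ncard = Nat.card V from
      (Nat.card_coe_set_eq _).symm] at this
  -- c ≠ a
  have hca : c ≠ a := by
    intro h
    -- then a * b is fixed by d
    have h1 : d * (b * a) * d⁻¹ = a * b := by
      have e1 : d * (b * a) * d⁻¹ = (d * b * d⁻¹) * (d * a * d⁻¹) := by group
      rw [e1, ← hb, ← hc, h]
    -- the element ab : the fourth element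
    have h2 : d * (a * b) * d⁻¹ = a * b := by
      rw [hcomm a ha b hbV, h1, hcomm a ha b hbV]
    have h3 := df _ (V.mul_mem ha hbV) h2
    -- b = a⁻¹, so orders: V = {1, a, b, x}
    have h4 : b = a⁻¹ := (inv_eq_of_mul_eq_one_right h3).symm
    -- the fourth element x is fixed by d
    obtain ⟨x, hx, hx'⟩ : ∃ x ∈ V, x ∉ ({1, a, b} : Finset G) := by
      by_contra hcon
      push Not at hcon
      have h5 : (V : Set G).ncard ≤ (({1, a, b} : Finset G) : Set G).ncard :=
        Set.ncard_le_ncard (fun x hx => hcon x hx) (Set.toFinite _)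
      rw [Set.ncard_coe_finset, show (V : Set G).ncard = Nat.card V from
        (Nat.card_coe_set_eq _).symm, V4] at h5
      have := Finset.card_le_three (a := (1 : G)) (b := a) (c := b)
      omega
    simp only [Finset.mem_insert, Finset.mem_singleton, not_or] at hx'
    have hdx : d * x * d⁻¹ ∈ V := dV x hx
    have h6 : d * x * d⁻¹ ≠ 1 := fun h0 => hx'.1 (by
      have : x = d⁻¹ * (d * x * d⁻¹) * d := by group
      rw [this, h0]; group)
    have h7 : d * x * d⁻¹ ≠ a := fun h0 => hx'.2.2 (inj d x b (by rw [h0, ← hc, h]))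
    have h8 : d * x * d⁻¹ ≠ b := fun h0 => hx'.2.1 (inj d x a (by rw [h0]))
    have h9 : d * x * d⁻¹ ≠ x := fun h0 => hx'.1 (df x hx h0)
    have h10 := hVset {1, a, b, x, d * x * d⁻¹} (by
      intro y hy
      simp only [Finset.mem_insert, Finset.mem_singleton] at hy
      rcases hy with rfl | rfl | rfl | rfl | rfl
      · exact V.one_mem
      · exact ha
      · exact hbV
      · exact hx
      · exact hdx)
    rw [Finset.card_insert_of_notMem, Finset.card_insert_of_notMem, Finset.card_insert_of_notMem,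
      Finset.card_insert_of_notMem, Finset.card_singleton] at h10
    · omega
    · simpa using Ne.symm h9
    · simp only [Finset.mem_insert, Finset.mem_singleton, not_or]
      exact ⟨Ne.symm hx'.2.2, Ne.symm h8⟩
    · simp only [Finset.mem_insert, Finset.mem_singleton, not_or]
      exact ⟨Ne.symm hab, Ne.symm hx'.2.1, Ne.symm h7⟩
    · simp only [Finset.mem_insert, Finset.mem_singleton, not_or]
      exact ⟨Ne.symm ha1, Ne.symm hb1, Ne.symm hx'.1, Ne.symm h6⟩
  -- V = {1, a, b, c}
  have hcov : ∀ x ∈ V, x = 1 ∨ x = a ∨ x = b ∨ x = c := by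
    intro x hx
    by_contra hcon
    push Not at hcon
    have h10 := hVset {x, 1, a, b, c} (by
      intro y hy
      simp only [Finset.mem_insert, Finset.mem_singleton] at hy
      rcases hy with rfl | rfl | rfl | rfl | rfl
      · exact hx
      · exact V.one_mem
      · exact ha
      · exact hbV
      · exact hcV)
    rw [Finset.card_insert_of_notMem, Finset.card_insert_of_notMem, Finset.card_insert_of_notMem,
      Finset.card_insert_of_notMem, Finset.card_singleton] at h10
    · omega
    · simpa using Ne.symm hbc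
    · simp only [Finset.mem_insert, Finset.mem_singleton, not_or]
      exact ⟨Ne.symm hab, Ne.symm hca⟩
    · simp only [Finset.mem_insert, Finset.mem_singleton, not_or]
      exact ⟨Ne.symm ha1, Ne.symm hb1, Ne.symm hc1⟩
    · simp only [Finset.mem_insert, Finset.mem_singleton, not_or]
      exact ⟨hcon.1, hcon.2.1, hcon.2.2.1, hcon.2.2.2⟩
  -- d c d⁻¹ = a
  have hdc : d * c * d⁻¹ = a := by
    rcases hcov _ (dV c hcV) with h | h | h | h
    · exfalso
      apply hc1
      have : c = d⁻¹ * (d * c * d⁻¹) * d := by group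
      rw [this, h]; group
    · exact h
    · exact absurd (inj d c a (by rw [h])) hca
    · exact absurd (df c hcV h) hc1
  -- d⁻¹ a d = c etc.
  have ia : d⁻¹ * a * d = c := by rw [← hdc]; group
  have ib : d⁻¹ * b * d = a := by rw [hb]; group
  have ic : d⁻¹ * c * d = b := by rw [hc]; group
  have e1 : ∀ x ∈ V, x ≠ 1 → e * x * e⁻¹ ≠ 1 := by
    intro x hx hx1 h
    apply hx1
    have : x = e⁻¹ * (e * x * e⁻¹) * e := by group
    rw [this, h]; group
  rcases hcov _ (eV a ha) with h | h | h | h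
  · exact absurd h (e1 a ha ha1)
  · exact absurd (ef a ha h) ha1
  · -- e a = b
    left
    have hb2 : e * b * e⁻¹ = c := by
      rcases hcov _ (eV b hbV) with h2 | h2 | h2 | h2
      · exact absurd h2 (e1 b hbV hb1)
      · -- e b = a, then c fixed
        exfalso
        rcases hcov _ (eV c hcV) with h3 | h3 | h3 | h3
        · exact e1 c hcV hc1 h3
        · exact hbc (inj e c b (by rw [h3, h2]))
        · exact hca (inj e c a (by rw [h3, h]))
        · exact hc1 (ef c hcV h3)
      · exact absurd (ef b hbV h2) hb1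
      · exact h2
    have hc2 : e * c * e⁻¹ = a := by
      rcases hcov _ (eV c hcV) with h3 | h3 | h3 | h3
      · exact absurd h3 (e1 c hcV hc1)
      · exact h3
      · exact absurd (inj e c a (by rw [h3, h])) hca
      · exact absurd (ef c hcV h3) hc1
    intro v hv
    rcases hcov v hv with rfl | rfl | rfl | rfl
    · group
    · exact h
    · exact hb2
    · rw [hc2, hdc]
  · -- e a = c
    right
    have hc2 : e * c * e⁻¹ = b := by
      rcases hcov _ (eV c hcV) with h2 | h2 | h2 | h2
      · exact absurd h2 (e1 c hcV hc1)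
      · exfalso
        rcases hcov _ (eV b hbV) with h3 | h3 | h3 | h3
        · exact e1 b hbV hb1 h3
        · exact hbc (inj e c b (by rw [h3, h2]))
        · exact hb1 (ef b hbV h3)
        · exact hab (inj e b a (by rw [h3, h]))
      · exact h2
      · exact absurd (ef c hcV h2) hc1
    have hb2 : e * b * e⁻¹ = a := by
      rcases hcov _ (eV b hbV) with h3 | h3 | h3 | h3
      · exact absurd h3 (e1 b hbV hb1)
      · exact h3
      · exact absurd (ef b hbV h3) hb1
      · exact absurd (inj e b a (by rw [h3, h])) hab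
    intro v hv
    rcases hcov v hv with rfl | rfl | rfl | rfl
    · group
    · rw [h, ia]
    · rw [hb2, ib]
    · rw [hc2, ic]

end Cfsg.Agent.StdL2.SFive
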