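import Cfsg.Agent.StdL2.SFive.Grow

/-!
# S1773, `q = 4`: a stage which is not Sylow in `C(V)` — first consequences
-/

set_option autoImplicit false
set_option linter.unusedSectionVars false
set_option linter.unusedVariables false
set_option linter.style.haveILetI false

open Subgroup

namespace Cfsg.Agent.StdL2.SFive

open Cfsg.Agent.StdL2.FieldStart

variable {G : Type*} [Group G] [Finite G] {t : G} {V Q : Subgroup G} {d : G}

namespace Stg

/-- `N_{C(V)}(P)` -/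
def Ys (L : Loc t V) (S : Stg t V Q) : Subgroup G :=
  normalizer (S.P L : Set G) ⊓ centralizer (V : Set G)

theorem PY (L : Loc t V) (S : Stg t V Q) : S.P L ≤ centralizer (V : Set G) :=
  fun x hx => mem_centralizer_iff.2 (fun v hv => (S.PV L x hx v hv).symm)

theorem PYs (L : Loc t V) (S : Stg t V Q) : S.P L ≤ S.Ys L := le_inf le_normalizer (S.PY L)

theorem YsV (L : Loc t V) (S : Stg t V Q) : ∀ x ∈ S.Ys L, ∀ v ∈ V, x * v = v * x :=
  fun x hx v hv => (mem_centralizer_iff.1 (mem_inf.1 hx).2 v hv).symm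

theorem two_mul_dvd (L : Loc t V) (S : Stg t V Q)
    (hn : ¬ IsSyl (centralizer (V : Set G)) (S.P L)) :
    2 * Nat.card (S.P L) ∣ Nat.card (S.Ys L) := by
  haveI : Fact (Nat.Prime 2) := ⟨Nat.prime_two⟩
  unfold IsSyl at hn
  push Not at hn
  obtain ⟨P', hP', hle, hP'Y, hnot⟩ := hn (S.P2 L) (S.PY L)
  have hlt : S.P L < P' := lt_of_le_not_ge hle hnot
  obtain ⟨n, hn1, hn2, hn3⟩ := exists_normalizer_gt hP' hlt
  set R : Subgroup G := P' ⊓ normalizer (S.P L : Set G) with hR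
  have hR2 : IsPGroup 2 R := hP'.to_le inf_le_left
  have hPR : S.P L ≤ R := le_inf hle le_normalizer
  have hne : S.P L ≠ R := fun h => hn2 (h ▸ mem_inf.2 ⟨hn1, hn3⟩)
  have hRY : R ≤ S.Ys L := le_inf inf_le_right (inf_le_left.trans hP'Y)
  refine dvd_trans ?_ (card_dvd_of_le hRY)
  have h1 : (S.P L).relIndex R ≠ 1 := fun h => hne (le_antisymm hPR (relIndex_eq_one.1 h))
  obtain ⟨k, hk⟩ := IsPGroup.iff_card.1 hR2
  have h2 := relIndex_mul_relIndex ⊥ (S.P L) R bot_le hPR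
  rw [relIndex_bot_left, relIndex_bot_left] at h2
  have h3 : (S.P L).relIndex R ∣ 2 ^ k := by rw [← hk, ← h2]; exact Dvd.intro_left _ rfl
  obtain ⟨m, -, hm⟩ := (Nat.dvd_prime_pow Nat.prime_two).1 h3
  have hm0 : m ≠ 0 := fun h0 => h1 (by rw [hm, h0, pow_zero])
  rw [← h2, hm]
  obtain ⟨m', rfl⟩ := Nat.exists_eq_succ_of_ne_zero hm0
  exact ⟨2 ^ m', by rw [pow_succ]; ring⟩

theorem norm_Ys (L : Loc t V) (S : Stg t V Q) {n : G} (hV : ∀ v ∈ V, n * v * n⁻¹ ∈ V)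
    (hP : ∀ x ∈ S.P L, n * x * n⁻¹ ∈ S.P L) : ∀ k ∈ S.Ys L, n * k * n⁻¹ ∈ S.Ys L := by
  intro k hk
  obtain ⟨h1, h2⟩ := mem_inf.1 hk
  refine mem_inf.2 ⟨?_, conj_centralizer hV h2⟩
  have h3 := mem_normalizer_of hP
  exact mul_mem (mul_mem h3 h1) (inv_mem h3)

theorem cls_Ys_sub (L : Loc t V) (S : Stg t V Q) {x : G} (hx : x ∈ cls (S.Ys L) t) :
    x ∈ S.P L := by
  obtain ⟨k, hk, rfl⟩ := hx
  exact (mem_normalizer_iff.1 (mem_inf.1 hk).1 t).1 (S.tP L)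

/-- if `P` is not Sylow in `C(V)`: `|N_{C(V)}(P)| = 8 |Q| r`, `r` odd and `|t^{N(P)}| = |Q|` -/
theorem big_class (L : Loc t V) (S : Stg t V Q) (D : Tri t V Q d)
    (hn : ¬ IsSyl (centralizer (V : Set G)) (S.P L)) :
    (cls (S.Ys L) t).ncard = Nat.card Q ∧ ∃ r, Odd r ∧ Nat.card (S.Ys L) = Nat.card Q * (8 * r) := by
  have hX : {x | x ∈ cls (S.Ys L) t ∧ x ∈ S.P L} = cls (S.Ys L) t := by
    ext x
    exact ⟨fun h => h.1, fun h => ⟨h, S.cls_Ys_sub L h⟩⟩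
  have h1 := S.count L D (K := S.Ys L) inf_le_right (S.PYs L)
    (S.norm_Ys L D.dV (D.dP L S))
  rw [hX] at h1
  obtain ⟨r, hr, hc⟩ := card_cent L (K := S.Ys L) ((S.WP L).trans (S.PYs L)) (S.YsV L)
  have h2 := ncard_cls (S.Ys L) t
  rw [hc] at h2
  have h3 := S.two_mul_dvd L hn
  rw [← h2, S.card_P L, ← S.card_cls L] at h3
  have h4 : (cls (S.Ys L) t).ncard = Nat.card Q := by
    rcases h1 with h1 | h1
    · exfalso
      rw [h1] at h3
      obtain ⟨k, hk⟩ := h3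
      have hpos : 0 < (cls (S.P L) t).ncard :=
        (Set.ncard_pos (Set.toFinite _)).2 ⟨t, mem_cls_self _ _⟩
      have h5 : 8 * r = 2 * (2 * 4) * k := by
        apply Nat.eq_of_mul_eq_mul_left hpos
        rw [hk]; ring
      have h6 : r = 2 * k := by omega
      rw [h6] at hr
      exact absurd hr (by simp)
    · rw [h1, ← S.card_cls L]; ring
  exact ⟨h4, r, hr, by rw [← h4]; exact h2.symm⟩

/-- then every element of `tQ` is conjugate to `t` under `N_{C(V)}(P)` -/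
theorem all_conj (L : Loc t V) (S : Stg t V Q) (D : Tri t V Q d)
    (hn : ¬ IsSyl (centralizer (V : Set G)) (S.P L)) :
    ∀ x, x ∈ cls (S.Ys L) t ↔ t * x ∈ Q := by
  have h1 := (S.big_class L D hn).1
  have hsub : cls (S.Ys L) t ⊆ {x | t * x ∈ Q} := by
    intro x hx
    rcases S.cls_Ys_sub L hx with h | h
    · exact absurd h (S.not_mem_Q L D (cls_mono inf_le_right t hx))
    · exact h
  have hcard : {x | t * x ∈ Q}.ncard = Nat.card Q := by
    rw [show Nat.card Q = (Q : Set G).ncard from Nat.card_coe_set_eq _]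
    refine Set.ncard_congr (fun x _ => t * x) (fun x hx => hx) (fun a b _ _ h => mul_left_cancel h) ?_
    intro q hq
    refine ⟨t * q, ?_, ?_⟩
    · change t * (t * q) ∈ Q
      rw [← mul_assoc, L.t2, one_mul]; exact hq
    · rw [← mul_assoc, L.t2, one_mul]
  have heq := Set.eq_of_subset_of_ncard_le hsub (by rw [hcard, h1]) (Set.toFinite _)
  intro x
  rw [heq]
  rfl

theorem inverts (L : Loc t V) (S : Stg t V Q) (D : Tri t V Q d)
    (hn : ¬ IsSyl (centralizer (V : Set G)) (S.P L)) : ∀ q ∈ Q, t * q * t⁻¹ = q⁻¹ := by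
  intro q hq
  have h1 : t * q ∈ cls (S.Ys L) t := (S.all_conj L D hn _).2 (by
    rw [← mul_assoc, L.t2, one_mul]; exact hq)
  obtain ⟨k, -, hk⟩ := h1
  have h2 : (t * q) * (t * q) = 1 := by
    rw [← hk]
    have e : k * t * k⁻¹ * (k * t * k⁻¹) = k * (t * t) * k⁻¹ := by group
    rw [e, L.t2]; group
  have h3 : t * q * t = q⁻¹ := by
    rw [← mul_assoc] at h2
    exact eq_inv_of_mul_eq_one_left h2
  rw [L.tinv]
  exact h3

theorem comm (L : Loc t V) (S : Stg t V Q) (D : Tri t V Q d)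
    (hn : ¬ IsSyl (centralizer (V : Set G)) (S.P L)) : ∀ q ∈ Q, ∀ r ∈ Q, q * r = r * q := by
  intro q hq r hr
  have h := S.inverts L D hn
  have h1 := h _ (Q.mul_mem hq hr)
  have h2 : t * (q * r) * t⁻¹ = (t * q * t⁻¹) * (t * r * t⁻¹) := by group
  rw [h2, h q hq, h r hr, mul_inv_rev] at h1
  -- q⁻¹ r⁻¹ = r⁻¹ q⁻¹
  have h3 := congrArg (fun z => z⁻¹) h1
  simp only [mul_inv_rev, inv_inv] at h3
  exact h3.symm

end Stg

/-- the larger 2-group -/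
structure Big (L : Loc t V) (S : Stg t V Q) (P2 : Subgroup G) : Prop where
  syl : IsSyl (S.Ys L) P2
  le : S.P L ≤ P2
  conj : ∀ x, x ∈ cls (S.Ys L) t ↔ t * x ∈ Q
  conj2 : ∀ x, x ∈ cls P2 t ↔ t * x ∈ Q
  inv : ∀ q ∈ Q, t * q * t⁻¹ = q⁻¹
  comm : ∀ q ∈ Q, ∀ r ∈ Q, q * r = r * q
  card : Nat.card P2 = 8 * Nat.card Q

theorem Stg.exists_big (L : Loc t V) (S : Stg t V Q) (D : Tri t V Q d)
    (hn : ¬ IsSyl (centralizer (V : Set G)) (S.P L)) : ∃ P2, Big L S P2 := by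
  haveI : Fact (Nat.Prime 2) := ⟨Nat.prime_two⟩
  obtain ⟨P2, hsyl, hle⟩ := exists_isSyl (S.Ys L) (S.P L) (S.P2 L) (S.PYs L)
  obtain ⟨h1, r, hr, hc⟩ := S.big_class L D hn
  obtain ⟨a, ha⟩ := IsPGroup.iff_card.1 hsyl.1
  obtain ⟨b, hb⟩ := IsPGroup.iff_card.1 S.Q2
  have h2 := relIndex_mul_relIndex ⊥ P2 (S.Ys L) bot_le hsyl.2.1
  rw [relIndex_bot_left, relIndex_bot_left, ha, hc, hb] at h2
  have h3 : 2 ^ a * P2.relIndex (S.Ys L) = 2 ^ (b + 3) * r := by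
    rw [h2, pow_add]; ring
  obtain ⟨h4, -⟩ := two_pow_inj (odd_of_not_dvd (IsSyl.odd hsyl)) hr h3
  have hcard : Nat.card P2 = 8 * Nat.card Q := by
    rw [ha, hb, h4, pow_add]; ring
  have hinf : (P2 ⊓ centralizer {t} : Subgroup G) = L.W := by
    refine le_antisymm ?_ (le_inf ((S.WP L).trans hle)
      (fun x hx => mem_centralizer_singleton_iff.2 (L.W_t hx)))
    exact L.le_W (hsyl.1.to_le inf_le_left)
      (fun x hx => mem_centralizer_singleton_iff.1 (mem_inf.1 hx).2)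
      (fun x hx => S.YsV L x (hsyl.2.1 (mem_inf.1 hx).1))
  have h5 := ncard_cls P2 t
  rw [hinf, L.card_W, hcard] at h5
  have h6 : cls P2 t = cls (S.Ys L) t := by
    refine Set.eq_of_subset_of_ncard_le (cls_mono hsyl.2.1 t) ?_ (Set.toFinite _)
    rw [h1]; omega
  exact ⟨P2, hsyl, hle, S.all_conj L D hn, by rw [h6]; exact S.all_conj L D hn,
    S.inverts L D hn, S.comm L D hn, hcard⟩

namespace Big

variable {P2 : Subgroup G} {L : Loc t V} {S : Stg t V Q}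

theorem PV2 (B : Big L S P2) : ∀ x ∈ P2, ∀ v ∈ V, x * v = v * x :=
  fun x hx => S.YsV L x (B.syl.2.1 hx)

theorem tP2 (B : Big L S P2) : t ∈ P2 := B.le (S.tP L)

theorem WP2 (B : Big L S P2) : L.W ≤ P2 := (S.WP L).trans B.le

theorem QP2 (B : Big L S P2) : Q ≤ P2 := (S.QP L).trans B.le

theorem tnP2 (B : Big L S P2) : ∀ x ∈ P2, t * x * t⁻¹ ∈ P2 :=
  fun x hx => P2.mul_mem (P2.mul_mem B.tP2 hx) (P2.inv_mem B.tP2)

theorem mem_W (B : Big L S P2) {x : G} (hx : x ∈ P2) (h : x * t = t * x) : x ∈ L.W := by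
  obtain ⟨k, hk⟩ := B.syl.1 ⟨x, hx⟩
  exact L.cen x h (B.PV2 x hx) ⟨k, by simpa using congrArg Subtype.val hk⟩

/-- elements normalising `P2` and commuting with `t` normalise `Q` -/
theorem normQ (B : Big L S P2) {m : G} (hm : m * t = t * m) (hP : ∀ x ∈ P2, m * x * m⁻¹ ∈ P2) :
    ∀ q ∈ Q, m * q * m⁻¹ ∈ Q := by
  intro q hq
  have h1 : t * q ∈ cls P2 t := (B.conj2 _).2 (by rw [← mul_assoc, L.t2, one_mul]; exact hq)
  have h2 : m * (t * q) * m⁻¹ ∈ cls P2 t := by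
    obtain ⟨k, hk, hk2⟩ := h1
    refine ⟨m * k * m⁻¹, hP k hk, ?_⟩
    rw [← hk2]
    have h3 : m⁻¹ * t * m = t := by rw [mul_assoc, ← hm]; group
    calc m * k * m⁻¹ * t * (m * k * m⁻¹)⁻¹ = m * k * (m⁻¹ * t * m) * k⁻¹ * m⁻¹ := by group
      _ = m * (k * t * k⁻¹) * m⁻¹ := by rw [h3]; group
  have h3 := (B.conj2 _).1 h2
  have e : t * (m * (t * q) * m⁻¹) = m * q * m⁻¹ := by
    calc t * (m * (t * q) * m⁻¹) = (t * m) * t * q * m⁻¹ := by group
      _ = m * (t * t) * q * m⁻¹ := by rw [← hm]; group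
      _ = m * q * m⁻¹ := by rw [L.t2]; group
  rwa [e] at h3

/-- `P2` normalises `Q` -/
theorem P2Q (B : Big L S P2) : ∀ p ∈ P2, ∀ q ∈ Q, p * q * p⁻¹ ∈ Q := by
  intro p hp q hq
  have h1 : t * q ∈ cls P2 t := (B.conj2 _).2 (by rw [← mul_assoc, L.t2, one_mul]; exact hq)
  have h2 := (B.conj2 _).1 (cls_conj h1 hp)
  have h3 := (B.conj2 _).1 (cls_conj (mem_cls_self P2 t) hp)
  have h4 := Q.mul_mem (Q.inv_mem h3) h2
  have e : (t * (p * t * p⁻¹))⁻¹ * (t * (p * (t * q) * p⁻¹)) = p * q * p⁻¹ := by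
    calc (t * (p * t * p⁻¹))⁻¹ * (t * (p * (t * q) * p⁻¹)) = p * (t⁻¹ * t) * q * p⁻¹ := by group
      _ = p * q * p⁻¹ := by group
  rwa [e] at h4

theorem P2P (B : Big L S P2) : ∀ p ∈ P2, ∀ x ∈ S.P L, p * x * p⁻¹ ∈ S.P L := by
  intro p hp x hx
  exact (mem_normalizer_iff.1 (mem_inf.1 (B.syl.2.1 hp)).1 x).1 hx

/-- coverage for `P2` -/
theorem cov2 (B : Big L S P2) {n : G} (hn : n * t = t * n) (hnV : ∀ v ∈ V, n * v * n⁻¹ ∈ V)
    (hnQ : ∀ q ∈ Q, n * q * n⁻¹ ∈ Q) :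
    ∃ m, m * t = t * m ∧ (∀ v ∈ V, m * v * m⁻¹ = n * v * n⁻¹) ∧ ∀ x ∈ P2, m * x * m⁻¹ ∈ P2 := by
  have hnP : ∀ x ∈ S.P L, n * x * n⁻¹ ∈ S.P L := by
    rintro x (h | h)
    · exact Or.inl (hnQ x h)
    · right
      have h1 := hnQ _ h
      have e : n * (t * x) * n⁻¹ = t * (n * x * n⁻¹) := by
        calc n * (t * x) * n⁻¹ = (n * t) * x * n⁻¹ := by group
          _ = t * (n * x * n⁻¹) := by rw [hn]; group
      rwa [e] at h1
  have hY := S.norm_Ys L hnV hnP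
  obtain ⟨c, hc, hc2⟩ := B.syl.conj (P := P2.map (MulAut.conj n).toMonoidHom) (B.syl.1.map _) (by
    rintro _ ⟨x, hx, rfl⟩
    exact hY x (B.syl.2.1 hx))
  have hcP : ∀ x ∈ P2, (c * n) * x * (c * n)⁻¹ ∈ P2 := by
    intro x hx
    have := hc2 _ ⟨x, hx, rfl⟩
    have e : c * ((MulAut.conj n).toMonoidHom x) * c⁻¹ = (c * n) * x * (c * n)⁻¹ := by
      change c * (n * x * n⁻¹) * c⁻¹ = _
      group
    rwa [e] at this
  have h1 : c * t * c⁻¹ ∈ cls P2 t := (B.conj2 _).2 ((B.conj _).1 ⟨c, hc, rfl⟩)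
  obtain ⟨p, hp, hpc⟩ := h1
  refine ⟨p⁻¹ * c * n, ?_, ?_, ?_⟩
  · have h2 : p⁻¹ * c * t = t * (p⁻¹ * c) := by
      calc p⁻¹ * c * t = p⁻¹ * (c * t * c⁻¹) * c := by group
        _ = p⁻¹ * (p * t * p⁻¹) * c := by rw [hpc]
        _ = t * (p⁻¹ * c) := by group
    calc p⁻¹ * c * n * t = p⁻¹ * c * (n * t) := by group
      _ = (p⁻¹ * c * t) * n := by rw [hn]; group
      _ = t * (p⁻¹ * c * n) := by rw [h2]; group
  · intro v hv
    have h2 := S.YsV L c hc _ (hnV v hv)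
    have h3 := B.PV2 p hp _ (hnV v hv)
    calc p⁻¹ * c * n * v * (p⁻¹ * c * n)⁻¹ = p⁻¹ * (c * (n * v * n⁻¹)) * c⁻¹ * p := by group
      _ = p⁻¹ * ((n * v * n⁻¹) * p) := by rw [h2]; group
      _ = p⁻¹ * (p * (n * v * n⁻¹)) := by rw [h3]
      _ = n * v * n⁻¹ := by group
  · intro x hx
    have h2 := P2.mul_mem (P2.mul_mem (P2.inv_mem hp) (hcP x hx)) hp
    have e : p⁻¹ * ((c * n) * x * (c * n)⁻¹) * p = p⁻¹ * c * n * x * (p⁻¹ * c * n)⁻¹ := by group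
    rwa [e] at h2

end Big

end Cfsg.Agent.StdL2.SFive
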