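import Cfsg.Agent.StdL2.SFive.GrowA

/-!
# S1773, `q = 4`: the quotient `P2/Q` is elementary abelian of order 8
-/

set_option autoImplicit false
set_option linter.unusedSectionVars false
set_option linter.unusedVariables false
set_option linter.style.haveILetI false

open Subgroup

namespace Cfsg.Agent.StdL2.SFive

open Cfsg.Agent.StdL2.FieldStart

variable {G : Type*} [Group G] [Finite G] {t : G} {V Q : Subgroup G} {d : G}

/-- a 3-element of `C(t) ∩ N(V)` normalising `P2` -/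
structure Tri2 (L : Loc t V) (S : Stg t V Q) (P2 : Subgroup G) (d : G) : Prop where
  big : Big L S P2
  tri : Tri t V Q d
  dP2 : ∀ x ∈ P2, d * x * d⁻¹ ∈ P2

theorem Big.exists_tri2 {L : Loc t V} {S : Stg t V Q} {P2 : Subgroup G} (B : Big L S P2)
    (H : Thr t V) : ∃ d, Tri2 L S P2 d := by
  obtain ⟨d0, h1, h2, h3, h4⟩ := H
  obtain ⟨m, hm1, hm2, hm3⟩ := S.cov d0 h1 h2
  obtain ⟨m', k1, k2, k3⟩ := B.cov2 hm1 (by intro v hv; rw [hm2 v hv]; exact h2 v hv) hm3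
  obtain ⟨r, r1, r2, r3, r4⟩ := exists_three L.V4 h2 h3 h4 k1 (fun v hv => by rw [k2 v hv, hm2 v hv])
  have h5 := pow_conj_mem k3 r
  exact ⟨m' ^ r, B, ⟨r1, r2, B.normQ r1 h5, r3, r4⟩, h5⟩

namespace Tri2

variable {P2 : Subgroup G} {L : Loc t V} {S : Stg t V Q}

/-- `d²` is again such an element -/
theorem sq (T : Tri2 L S P2 d) : Tri2 L S P2 (d ^ 2) := by
  refine ⟨T.big, ⟨Commute.pow_left (show Commute d t from T.tri.dt) 2,
    pow_conj_mem T.tri.dV 2, pow_conj_mem T.tri.dQ 2, ?_, ?_⟩, pow_conj_mem T.dP2 2⟩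
  · intro v hv h
    exact T.tri.fix v hv (fix_of_pow T.tri.d3 (by norm_num) h)
  · obtain ⟨k, hk⟩ := T.tri.d3
    exact ⟨k, by rw [← pow_mul, mul_comm, pow_mul, hk, one_pow]⟩

theorem fix1 (T : Tri2 L S P2 d) {x : G} (hx : x ∈ P2) (h : d * x * d⁻¹ = x) : x ∈ S.P L := by
  haveI : Fact (Nat.Prime 2) := ⟨Nat.prime_two⟩
  set C : Subgroup G := P2 ⊓ centralizer {d} with hC
  have hmC : ∀ y, y ∈ C ↔ y ∈ P2 ∧ d * y * d⁻¹ = y := by
    intro y
    rw [hC, mem_inf, mem_centralizer_singleton_iff, mul_inv_eq_iff_eq_mul]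
    exact ⟨fun h => ⟨h.1, h.2.symm⟩, fun h => ⟨h.1, h.2.symm⟩⟩
  have hC2 : IsPGroup 2 C := T.big.syl.1.to_le inf_le_left
  have htC : t ∈ C := (hmC t).2 ⟨T.big.tP2, T.tri.dt'⟩
  haveI : Nontrivial C := ⟨⟨t, htC⟩, 1, fun h => L.t1 (congrArg Subtype.val h)⟩
  haveI := hC2.center_nontrivial
  obtain ⟨z, hz⟩ := exists_ne (1 : center C)
  have key : ∀ y ∈ C, y * t = t * y → y = 1 ∨ y = t := by
    intro y hy hyt
    rcases T.big.mem_W ((hmC y).1 hy).1 hyt with h1 | h1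
    · exact Or.inl (T.tri.fix y h1 ((hmC y).1 hy).2)
    · right
      have h2 : d * (t * y) * d⁻¹ = t * y := by
        calc d * (t * y) * d⁻¹ = (d * t) * y * d⁻¹ := by group
          _ = t * (d * y * d⁻¹) := by rw [T.tri.dt]; group
          _ = t * y := by rw [((hmC y).1 hy).2]
      have h3 := T.tri.fix _ h1 h2
      rw [← L.tinv]
      exact eq_inv_of_mul_eq_one_right h3
  have hzt : ((z : C) : G) * t = t * (z : C) :=
    (congrArg Subtype.val (mem_center_iff.1 z.2 ⟨t, htC⟩)).symm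
  have hz1 : ((z : C) : G) ≠ 1 := fun h => hz (Subtype.ext (Subtype.ext h))
  have hzt2 : ((z : C) : G) = t := (key _ (z : C).2 hzt).resolve_left hz1
  have hxC : x ∈ C := (hmC x).2 ⟨hx, h⟩
  have h3 : x * t = t * x := by
    have := congrArg Subtype.val (mem_center_iff.1 z.2 ⟨x, hxC⟩)
    change x * ((z : C) : G) = ((z : C) : G) * x at this
    rwa [hzt2] at this
  rcases key x hxC h3 with h4 | h4
  · rw [h4]; exact (S.P L).one_mem
  · rw [h4]; exact S.tP L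

/-- if `d` fixes the coset `xP`, then `x ∈ P` -/
theorem fixP (T : Tri2 L S P2 d) {x : G} (hx : x ∈ P2) (h : x⁻¹ * (d * x * d⁻¹) ∈ S.P L) :
    x ∈ S.P L := by
  haveI : Fact (Nat.Prime 3) := ⟨Nat.prime_three⟩
  set X : Set G := {y | x⁻¹ * y ∈ S.P L} with hX
  have hinv : ∀ y ∈ X, d * y * d⁻¹ ∈ X := by
    intro y hy
    have h1 := (S.P L).mul_mem h (T.tri.dP L S _ hy)
    have e : x⁻¹ * (d * x * d⁻¹) * (d * (x⁻¹ * y) * d⁻¹) = x⁻¹ * (d * y * d⁻¹) := by group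
    rwa [e] at h1
  have h1 := ncard_modEq (p := 3) T.tri.d3 hinv
  have hcard : X.ncard = Nat.card (S.P L) := by
    rw [show Nat.card (S.P L) = ((S.P L : Subgroup G) : Set G).ncard from Nat.card_coe_set_eq _]
    refine Set.ncard_congr (fun y _ => x⁻¹ * y) (fun y hy => hy)
      (fun a b _ _ h => mul_left_cancel h) ?_
    intro q hq
    exact ⟨x * q, by change x⁻¹ * (x * q) ∈ S.P L; rwa [inv_mul_cancel_left],
      by rw [inv_mul_cancel_left]⟩
  haveI : Fact (Nat.Prime 2) := ⟨Nat.prime_two⟩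
  obtain ⟨n, hn⟩ := IsPGroup.iff_card.1 (S.P2 L)
  rw [hcard, hn] at h1
  have h2 : {y | y ∈ X ∧ d * y * d⁻¹ = y}.ncard ≠ 0 := by
    intro h0
    rw [h0] at h1
    have h3 : 3 ∣ 2 ^ n := (Nat.modEq_zero_iff_dvd).1 h1
    have h4 := Nat.Prime.dvd_of_dvd_pow Nat.prime_three h3
    omega
  obtain ⟨y, hy1, hy2⟩ := Set.nonempty_of_ncard_ne_zero h2
  have hyP : y ∈ P2 := by
    have h3 := P2.mul_mem hx (T.big.le hy1)
    rwa [mul_inv_cancel_left] at h3
  have h3 := T.fix1 hyP hy2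
  have h4 := (S.P L).mul_mem h3 ((S.P L).inv_mem hy1)
  have e : y * (x⁻¹ * y)⁻¹ = x := by group
  rwa [e] at h4

theorem dP2' (T : Tri2 L S P2 d) : ∀ x ∈ P2, d⁻¹ * x * d ∈ P2 := conj_surj T.dP2

theorem dP' (T : Tri2 L S P2 d) : ∀ x ∈ S.P L, d⁻¹ * x * d ∈ S.P L := conj_surj (T.tri.dP L S)

/-- all squares of `P2` are in `P` -/
theorem sqP (T : Tri2 L S P2 d) : ∀ p ∈ P2, p * p ∈ S.P L := by
  classical
  have B := T.big
  -- an element of order 2 modulo P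
  have hlt : ¬ P2 ≤ S.P L := by
    intro h
    have h1 := Nat.card_le_card_of_injective _ (Subgroup.inclusion_injective h)
    rw [B.card, S.card_P L] at h1
    have : 0 < Nat.card Q := Nat.card_pos
    omega
  obtain ⟨z0, hz0, hz0P⟩ := Set.not_subset.1 hlt
  obtain ⟨k, hk⟩ := B.syl.1 ⟨z0, hz0⟩
  have hk' : z0 ^ 2 ^ k = 1 := by simpa using congrArg Subtype.val hk
  have hex : ∃ j, z0 ^ 2 ^ j ∈ S.P L := ⟨k, by rw [hk']; exact (S.P L).one_mem⟩
  obtain ⟨z, hz, hzP, hzz⟩ : ∃ z ∈ P2, z ∉ S.P L ∧ z * z ∈ S.P L := by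
    have h1 := Nat.find_spec hex
    have h0 : Nat.find hex ≠ 0 := by
      intro h
      rw [h, pow_zero, pow_one] at h1
      exact hz0P h1
    obtain ⟨j, hj⟩ := Nat.exists_eq_succ_of_ne_zero h0
    have h2 : z0 ^ 2 ^ j ∉ S.P L := Nat.find_min hex (by omega)
    refine ⟨z0 ^ 2 ^ j, P2.pow_mem hz0 _, h2, ?_⟩
    rw [hj, Nat.succ_eq_add_one, pow_succ, mul_comm, two_mul, pow_add] at h1
    exact h1
  -- the three conjugates
  have hz' : d * z * d⁻¹ ∈ P2 := T.dP2 z hz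
  have hz'' : d ^ 2 * z * (d ^ 2)⁻¹ ∈ P2 := T.sq.dP2 z hz
  have n1 : z⁻¹ * (d * z * d⁻¹) ∉ S.P L := fun h => hzP (T.fixP hz h)
  have n2 : z⁻¹ * (d ^ 2 * z * (d ^ 2)⁻¹) ∉ S.P L := fun h => hzP (T.sq.fixP hz h)
  have n3 : (d * z * d⁻¹)⁻¹ * (d ^ 2 * z * (d ^ 2)⁻¹) ∉ S.P L := by
    intro h
    have h1 := T.dP' _ h
    have e : d⁻¹ * ((d * z * d⁻¹)⁻¹ * (d ^ 2 * z * (d ^ 2)⁻¹)) * d = z⁻¹ * (d * z * d⁻¹) := by
      rw [pow_two]; group
    rw [e] at h1
    exact n1 h1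
  have n4 : d * z * d⁻¹ ∉ S.P L := by
    intro h
    have h1 := T.dP' _ h
    have e : d⁻¹ * (d * z * d⁻¹) * d = z := by group
    rw [e] at h1
    exact hzP h1
  have n5 : d ^ 2 * z * (d ^ 2)⁻¹ ∉ S.P L := by
    intro h
    have h1 := T.sq.dP' _ h
    have e : (d ^ 2)⁻¹ * (d ^ 2 * z * (d ^ 2)⁻¹) * d ^ 2 = z := by group
    rw [e] at h1
    exact hzP h1
  let rep : Fin 4 → G := ![1, z, d * z * d⁻¹, d ^ 2 * z * (d ^ 2)⁻¹]
  have hrep : ∀ i, rep i ∈ P2 := by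
    intro i
    fin_cases i
    · exact P2.one_mem
    · exact hz
    · exact hz'
    · exact hz''
  have hdist : ∀ i j, (rep i)⁻¹ * rep j ∈ S.P L → i = j := by
    have hlt : ∀ i j, i < j → (rep i)⁻¹ * rep j ∉ S.P L := by
      intro i j hij h
      fin_cases i <;> fin_cases j <;> first
        | exact absurd hij (by decide)
        | (exfalso
           first
             | (change (1 : G)⁻¹ * z ∈ S.P L at h; rw [inv_one, one_mul] at h; exact hzP h)
             | (change (1 : G)⁻¹ * (d * z * d⁻¹) ∈ S.P L at h; rw [inv_one, one_mul] at h; exact n4 h)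
             | (change (1 : G)⁻¹ * (d ^ 2 * z * (d ^ 2)⁻¹) ∈ S.P L at h
                rw [inv_one, one_mul] at h; exact n5 h)
             | exact n1 h
             | exact n2 h
             | exact n3 h)
    intro i j h
    rcases lt_trichotomy i j with hij | hij | hij
    · exact absurd h (hlt i j hij)
    · exact hij
    · have h1 := (S.P L).inv_mem h
      have e : ((rep i)⁻¹ * rep j)⁻¹ = (rep j)⁻¹ * rep i := by group
      rw [e] at h1
      exact absurd h1 (hlt j i hij)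
  let f : Fin 4 × (S.P L) → P2 := fun x => ⟨rep x.1 * x.2, P2.mul_mem (hrep x.1) (B.le x.2.2)⟩
  have hinj : Function.Injective f := by
    rintro ⟨i, x⟩ ⟨j, y⟩ h
    have h1 : rep i * (x : G) = rep j * y := congrArg Subtype.val h
    have h2 : (rep i)⁻¹ * rep j = x * (y : G)⁻¹ := by
      calc (rep i)⁻¹ * rep j = (rep i)⁻¹ * (rep j * y) * (y : G)⁻¹ := by group
        _ = (rep i)⁻¹ * (rep i * x) * (y : G)⁻¹ := by rw [h1]
        _ = x * (y : G)⁻¹ := by group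
    have h3 : i = j := hdist i j (by rw [h2]; exact (S.P L).mul_mem x.2 ((S.P L).inv_mem y.2))
    subst h3
    exact Prod.ext rfl (Subtype.ext (mul_left_cancel h1))
  have hsurj : Function.Surjective f := by
    have hb := hinj.bijective_of_nat_card_le (by
      rw [Nat.card_prod, Nat.card_eq_fintype_card (α := Fin 4), Fintype.card_fin, S.card_P L, B.card]
      exact le_of_eq (by ring))
    exact hb.2
  have hrsq : ∀ i, rep i * rep i ∈ S.P L := by
    intro i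
    fin_cases i
    · change (1 : G) * 1 ∈ S.P L
      rw [one_mul]; exact (S.P L).one_mem
    · exact hzz
    · have h1 := T.tri.dP L S _ hzz
      have e : d * (z * z) * d⁻¹ = d * z * d⁻¹ * (d * z * d⁻¹) := by group
      rw [e] at h1
      exact h1
    · have h1 := T.sq.tri.dP L S _ hzz
      have e : d ^ 2 * (z * z) * (d ^ 2)⁻¹ =
        d ^ 2 * z * (d ^ 2)⁻¹ * (d ^ 2 * z * (d ^ 2)⁻¹) := by group
      rw [e] at h1
      exact h1
  intro p hp
  obtain ⟨⟨i, x⟩, hx⟩ := hsurj ⟨p, hp⟩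
  have h1 : rep i * (x : G) = p := congrArg Subtype.val hx
  rw [← h1]
  have h2 : (rep i)⁻¹ * (x : G) * rep i ∈ S.P L := by
    have := B.P2P _ (P2.inv_mem (hrep i)) x x.2
    rwa [inv_inv] at this
  have h3 := (S.P L).mul_mem ((S.P L).mul_mem (hrsq i) h2) x.2
  have e : rep i * rep i * ((rep i)⁻¹ * (x : G) * rep i) * (x : G) = rep i * (x : G) * (rep i * x) := by
    group
  rwa [e] at h3

/-- all squares of `P2` are in `Q` -/
theorem sqQ (T : Tri2 L S P2 d) : ∀ p ∈ P2, p * p ∈ Q := by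
  intro p hp
  rcases T.sqP p hp with h | h
  · exact h
  · exfalso
    have h1 := (T.big.conj2 _).2 h
    obtain ⟨c, hc, hc2⟩ := h1
    -- u = c⁻¹ p c, u² = t
    have h2 : (c⁻¹ * p * c) * (c⁻¹ * p * c) = t := by
      calc (c⁻¹ * p * c) * (c⁻¹ * p * c) = c⁻¹ * (p * p) * c := by group
        _ = c⁻¹ * (c * t * c⁻¹) * c := by rw [hc2]
        _ = t := by group
    have h3 : c⁻¹ * p * c ∈ P2 := P2.mul_mem (P2.mul_mem (P2.inv_mem hc) hp) hc
    set u := c⁻¹ * p * c with hu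
    have h4 : u * t = t * u := by rw [← h2]; group
    have h5 := L.Wsq (T.big.mem_W h3 h4)
    rw [h2] at h5
    exact L.t1 h5

/-- commutators of `P2` are in `Q` -/
theorem commQ (T : Tri2 L S P2 d) : ∀ p ∈ P2, ∀ r ∈ P2, p * r * p⁻¹ * r⁻¹ ∈ Q := by
  intro p hp r hr
  have h1 := T.sqQ _ (P2.mul_mem hp hr)
  have h2 := T.big.P2Q _ (P2.inv_mem hr) _ (Q.inv_mem (T.sqQ p hp))
  have h3 := Q.inv_mem (T.sqQ r hr)
  have h4 := Q.mul_mem (Q.mul_mem h1 h2) h3
  have e : p * r * (p * r) * (r⁻¹ * (p * p)⁻¹ * r⁻¹⁻¹) * (r * r)⁻¹ = p * r * p⁻¹ * r⁻¹ := by group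
  rwa [e] at h4

/-- elements of `C(t) ∩ C(V)` normalising `P2` act trivially on `P2/Q` -/
theorem trivQ (T : Tri2 L S P2 d) {w : G} (hwt : w * t = t * w) (hwV : ∀ v ∈ V, w * v = v * w)
    (hwP : ∀ x ∈ P2, w * x * w⁻¹ ∈ P2) : ∀ p ∈ P2, w * p * w⁻¹ * p⁻¹ ∈ Q := by
  have hn : orderOf w ≠ 0 := (orderOf_pos w).ne'
  obtain ⟨a, r, hr, har⟩ := Nat.exists_eq_pow_mul_and_not_dvd hn 2 (by norm_num)
  have hrodd : Odd r := odd_of_not_dvd hr
  -- w^r is a 2-element in W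
  have h1 : w ^ r ∈ P2 := by
    have h2 : (w ^ r) * t = t * w ^ r := Commute.pow_left (show Commute w t from hwt) r
    have h3 : ∀ v ∈ V, w ^ r * v = v * w ^ r :=
      fun v hv => Commute.pow_left (show Commute w v from hwV v hv) r
    have h4 := L.cen _ h2 h3 ⟨a, by rw [← pow_mul, mul_comm, ← har]; exact pow_orderOf_eq_one w⟩
    exact T.big.WP2 h4
  -- w^(2^a) has odd order
  have h2 : ∀ x ∈ P2, w ^ 2 ^ a * x = x * w ^ 2 ^ a := by
    refine odd_cent L T.big.syl.1 T.big.PV2 T.big.tnP2 ?_ ?_ (pow_conj_mem hwP _) ?_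
    · exact Commute.pow_left (show Commute w t from hwt) _
    · exact fun v hv => Commute.pow_left (show Commute w v from hwV v hv) _
    · have h3 : (w ^ 2 ^ a) ^ r = 1 := by
        rw [← pow_mul, ← har]; exact pow_orderOf_eq_one w
      exact Odd.of_dvd_nat hrodd (orderOf_dvd_of_pow_eq_one h3)
  have hc : Nat.Coprime r (2 ^ a) := Nat.Coprime.pow_right _ (Nat.coprime_two_right.2 hrodd)
  have h3 := Nat.gcd_eq_gcd_ab r (2 ^ a)
  rw [hc] at h3
  have h4 : w = (w ^ r) ^ (Nat.gcdA r (2 ^ a)) * (w ^ 2 ^ a) ^ (Nat.gcdB r (2 ^ a)) := by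
    rw [← zpow_natCast, ← zpow_natCast, ← zpow_mul, ← zpow_mul, ← zpow_add, ← h3]
    simp
  set u := (w ^ r) ^ (Nat.gcdA r (2 ^ a)) with hu
  set y := (w ^ 2 ^ a) ^ (Nat.gcdB r (2 ^ a)) with hy
  have hu2 : u ∈ P2 := P2.zpow_mem h1 _
  intro p hp
  have hyp : y * p = p * y := (show Commute (w ^ 2 ^ a) p from h2 p hp).zpow_left _
  rw [h4]
  have e : u * y * p * (u * y)⁻¹ * p⁻¹ = u * (y * p) * y⁻¹ * u⁻¹ * p⁻¹ := by group
  have e2 : u * (p * y) * y⁻¹ * u⁻¹ * p⁻¹ = u * p * u⁻¹ * p⁻¹ := by group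
  rw [e, hyp, e2]
  exact T.commQ u hu2 p hp

/-- `d³` centralises `P2` -/
theorem d3cent (T : Tri2 L S P2 d) : ∀ x ∈ P2, d ^ 3 * x = x * d ^ 3 := by
  have hact : ∀ v ∈ V, d ^ 3 * v = v * d ^ 3 := by
    -- compare with `d ^ 2` and `d⁻¹`
    have h1 := act_eq L.V4 (fun x hx y hy => L.vcomm hx hy) T.tri.dV T.sq.tri.dV T.tri.fix
      T.sq.tri.fix
    rcases h1 with h1 | h1
    · -- d² acts as d: then d trivial
      exfalso
      have hV1 : ∀ v ∈ V, v = 1 := by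
        intro v hv
        have h2 := h1 v hv
        apply T.tri.fix v hv
        have e : d ^ 2 * v * (d ^ 2)⁻¹ = d * (d * v * d⁻¹) * d⁻¹ := by rw [pow_two]; group
        rw [e] at h2
        exact mul_left_cancel (mul_right_cancel h2)
      have : V = ⊥ := (eq_bot_iff_forall V).2 hV1
      have h4 := L.V4
      rw [this, card_bot] at h4
      omega
    · intro v hv
      have h2 := h1 _ (T.tri.dV v hv)
      have e1 : d ^ 2 * (d * v * d⁻¹) * (d ^ 2)⁻¹ = d ^ 3 * v * (d ^ 3)⁻¹ := by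
        rw [pow_succ d 2]; group
      have e2 : d⁻¹ * (d * v * d⁻¹) * d = v := by group
      rw [e1, e2] at h2
      exact mul_inv_eq_iff_eq_mul.1 h2
  refine odd_cent L T.big.syl.1 T.big.PV2 T.big.tnP2
    (Commute.pow_left (show Commute d t from T.tri.dt) 3) hact (pow_conj_mem T.dP2 3) ?_
  obtain ⟨k, hk⟩ := T.tri.d3
  have h1 : (d ^ 3) ^ 3 ^ k = 1 := by rw [← pow_mul, mul_comm, pow_mul, hk, one_pow]
  exact Odd.of_dvd_nat (Odd.pow (by decide)) (orderOf_dvd_of_pow_eq_one h1)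

end Tri2

end Cfsg.Agent.StdL2.SFive
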