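import Cfsg.Agent.StdL2.SFive.GrowB

/-!
# S1773, `q = 4`: Theorem P

`pmax`: there is a stage `Q` with `Q ∪ tQ` a Sylow 2-subgroup of `C(V)`; `class_one`: the conjugates of `t`
under `C(V)` in `Q ∪ tQ` are conjugate in `Q ∪ tQ`.
-/

set_option autoImplicit false
set_option linter.unusedSectionVars false
set_option linter.unusedVariables false
set_option linter.style.haveILetI false

open Subgroup

namespace Cfsg.Agent.StdL2.SFive

open Cfsg.Agent.StdL2.FieldStart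

variable {G : Type*} [Group G] [Finite G] {t : G} {V Q : Subgroup G} {d : G}

/-- `p · p^d · p^{d²}` -/
def nrm (d p : G) : G := p * (d * p * d⁻¹) * (d ^ 2 * p * (d ^ 2)⁻¹)

theorem comm6 {M : Type*} [Group M] (hc : ∀ a b : M, a * b = b * a) (a b c d e f : M) :
    a * b * (c * d) * (e * f) = a * c * e * (b * d * f) := by
  have h1 : b * (c * d) = c * (b * d) := by rw [← mul_assoc, hc b c, mul_assoc]
  have h2 : (b * d) * (e * f) = e * ((b * d) * f) := by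
    rw [← mul_assoc, hc (b * d) e, mul_assoc]
  calc a * b * (c * d) * (e * f) = a * (b * (c * d)) * (e * f) := by group
    _ = a * (c * (b * d)) * (e * f) := by rw [h1]
    _ = a * c * ((b * d) * (e * f)) := by group
    _ = a * c * (e * ((b * d) * f)) := by rw [h2]
    _ = a * c * e * (b * d * f) := by group

namespace Tri2

variable {P2 : Subgroup G} {L : Loc t V} {S : Stg t V Q}

theorem nrm_mem (T : Tri2 L S P2 d) {p : G} (hp : p ∈ P2) : nrm d p ∈ P2 :=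
  P2.mul_mem (P2.mul_mem hp (T.dP2 p hp)) (T.sq.dP2 p hp)

/-- congruence modulo `Q` in `P2`: `a ≡ b` iff `a⁻¹ b ∈ Q` ; products -/
theorem mulQ (T : Tri2 L S P2 d) {a b a' b' : G} (hb : b ∈ P2) (h1 : a⁻¹ * a' ∈ Q)
    (h2 : b⁻¹ * b' ∈ Q) : (a * b)⁻¹ * (a' * b') ∈ Q := by
  have h3 := T.big.P2Q _ (P2.inv_mem hb) _ h1
  have h4 := Q.mul_mem h3 h2
  have e : b⁻¹ * (a⁻¹ * a') * b⁻¹⁻¹ * (b⁻¹ * b') = (a * b)⁻¹ * (a' * b') := by group
  rwa [e] at h4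

theorem swapQ (T : Tri2 L S P2 d) {a b : G} (ha : a ∈ P2) (hb : b ∈ P2) :
    (a * b)⁻¹ * (b * a) ∈ Q := by
  have h1 := T.commQ _ (P2.inv_mem hb) _ (P2.inv_mem ha)
  have e : b⁻¹ * a⁻¹ * b⁻¹⁻¹ * a⁻¹⁻¹ = (a * b)⁻¹ * (b * a) := by group
  rwa [e] at h1

theorem transQ {a b c : G} (h1 : a⁻¹ * b ∈ Q) (h2 : b⁻¹ * c ∈ Q) : a⁻¹ * c ∈ Q := by
  have h3 := Q.mul_mem h1 h2
  have e : a⁻¹ * b * (b⁻¹ * c) = a⁻¹ * c := by group
  rwa [e] at h3

theorem nrm_mul (T : Tri2 L S P2 d) {p r : G} (hp : p ∈ P2) (hr : r ∈ P2) :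
    (nrm d (p * r))⁻¹ * (nrm d p * nrm d r) ∈ Q := by
  -- use the quotient group
  set Q' := Q.subgroupOf P2 with hQ'
  have hnorm : Q'.Normal := by
    refine ⟨fun n hn g => ?_⟩
    rw [hQ', mem_subgroupOf] at hn ⊢
    exact T.big.P2Q g g.2 n hn
  have hcom : ∀ a b : P2 ⧸ Q', a * b = b * a := by
    intro a b
    induction a using QuotientGroup.induction_on
    induction b using QuotientGroup.induction_on
    rename_i x y
    rw [← QuotientGroup.mk_mul, ← QuotientGroup.mk_mul, QuotientGroup.eq, hQ', mem_subgroupOf]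
    exact T.swapQ x.2 y.2
  let δ : P2 → P2 := fun x => ⟨d * x * d⁻¹, T.dP2 x x.2⟩
  let δ2 : P2 → P2 := fun x => ⟨d ^ 2 * x * (d ^ 2)⁻¹, T.sq.dP2 x x.2⟩
  set P' : P2 := ⟨p, hp⟩ with hP'
  set R' : P2 := ⟨r, hr⟩ with hR'
  have h1 : ((P' * R' : P2) : P2 ⧸ Q') * (δ P' * δ R' : P2) * (δ2 P' * δ2 R' : P2) =
      ((P' : P2 ⧸ Q') * (δ P' : P2) * (δ2 P' : P2)) * ((R' : P2 ⧸ Q') * (δ R' : P2) * (δ2 R' : P2)) := by
    rw [QuotientGroup.mk_mul, QuotientGroup.mk_mul, QuotientGroup.mk_mul]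
    exact comm6 hcom _ _ _ _ _ _
  rw [← QuotientGroup.mk_mul, ← QuotientGroup.mk_mul, ← QuotientGroup.mk_mul, ← QuotientGroup.mk_mul,
    ← QuotientGroup.mk_mul, ← QuotientGroup.mk_mul, ← QuotientGroup.mk_mul, QuotientGroup.eq, hQ',
    mem_subgroupOf] at h1
  have e : nrm d (p * r) = p * r * (d * p * d⁻¹ * (d * r * d⁻¹)) *
      (d ^ 2 * p * (d ^ 2)⁻¹ * (d ^ 2 * r * (d ^ 2)⁻¹)) := by
    rw [nrm]; group
  rw [e]
  exact h1

/-- the new stage -/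
def Q2 (T : Tri2 L S P2 d) : Subgroup G where
  carrier := {p | p ∈ P2 ∧ nrm d p ∈ Q}
  one_mem' := ⟨P2.one_mem, by
    have : nrm d (1 : G) = 1 := by rw [nrm]; group
    rw [this]; exact Q.one_mem⟩
  mul_mem' := by
    rintro a b ⟨ha, ha2⟩ ⟨hb, hb2⟩
    refine ⟨P2.mul_mem ha hb, ?_⟩
    have h1 := T.nrm_mul ha hb
    have h2 := Q.mul_mem ha2 hb2
    have h3 := Q.mul_mem h2 (Q.inv_mem h1)
    have e : nrm d a * nrm d b * ((nrm d (a * b))⁻¹ * (nrm d a * nrm d b))⁻¹ = nrm d (a * b) := by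
      group
    rwa [e] at h3
  inv_mem' := by
    rintro a ⟨ha, ha2⟩
    refine ⟨P2.inv_mem ha, ?_⟩
    have h1 := T.nrm_mul ha (P2.inv_mem ha)
    have e0 : nrm d (a * a⁻¹) = 1 := by rw [mul_inv_cancel, nrm]; group
    rw [e0, inv_one, one_mul] at h1
    have h2 := Q.mul_mem (Q.inv_mem ha2) h1
    rwa [inv_mul_cancel_left] at h2

theorem mem_Q2 (T : Tri2 L S P2 d) {p : G} : p ∈ T.Q2 ↔ p ∈ P2 ∧ nrm d p ∈ Q := Iff.rfl

theorem nrm_of_mem {p : G} (T : Tri2 L S P2 d) (hp : p ∈ Q) : nrm d p ∈ Q :=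
  Q.mul_mem (Q.mul_mem hp (T.tri.dQ p hp)) (T.sq.tri.dQ p hp)

/-- `nrm d p ∈ P` -/
theorem nrm_P (T : Tri2 L S P2 d) {p : G} (hp : p ∈ P2) : nrm d p ∈ S.P L := by
  apply T.fixP (T.nrm_mem hp)
  apply S.QP L
  -- d (nrm p) d⁻¹ ≡ nrm p mod Q
  have h1 : d * nrm d p * d⁻¹ = (d * p * d⁻¹) * (d ^ 2 * p * (d ^ 2)⁻¹) * p := by
    have h2 := T.d3cent p hp
    have h3 : d ^ 3 * p * (d ^ 3)⁻¹ = p := by rw [h2, mul_inv_cancel_right]
    calc d * nrm d p * d⁻¹ = (d * p * d⁻¹) * (d ^ 2 * p * (d ^ 2)⁻¹) * (d ^ 3 * p * (d ^ 3)⁻¹) := by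
          rw [nrm, pow_succ d 2, pow_two]; group
      _ = _ := by rw [h3]
  rw [h1]
  have h4 := T.swapQ hp (P2.mul_mem (T.dP2 p hp) (T.sq.dP2 p hp))
  have e : (p * (d * p * d⁻¹ * (d ^ 2 * p * (d ^ 2)⁻¹)))⁻¹ *
      (d * p * d⁻¹ * (d ^ 2 * p * (d ^ 2)⁻¹) * p) =
      (nrm d p)⁻¹ * ((d * p * d⁻¹) * (d ^ 2 * p * (d ^ 2)⁻¹) * p) := by
    rw [nrm]; group
  rwa [e] at h4

theorem t_nrm (T : Tri2 L S P2 d) : nrm d t = t := by
  have h1 := T.tri.dt'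
  have h2 := T.sq.tri.dt'
  rw [nrm, h1, h2, L.t2, one_mul]

theorem card_Q2 (T : Tri2 L S P2 d) : Nat.card T.Q2 = 4 * Nat.card Q := by
  have hle : T.Q2 ≤ P2 := fun x hx => hx.1
  have h1 := card_le_two_mul P2 T.Q2 (by
    intro x hx y hy hxn hyn
    have h2 := T.nrm_P hx
    have h3 := T.nrm_P hy
    have h4 : t * nrm d x ∈ Q := h2.resolve_left (fun h => hxn ⟨hx, h⟩)
    have h5 : t * nrm d y ∈ Q := h3.resolve_left (fun h => hyn ⟨hy, h⟩)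
    have h6 : (nrm d x)⁻¹ * nrm d y ∈ Q := by
      have := Q.mul_mem (Q.inv_mem h4) h5
      have e : (t * nrm d x)⁻¹ * (t * nrm d y) = (nrm d x)⁻¹ * nrm d y := by group
      rwa [e] at this
    refine ⟨P2.mul_mem (P2.inv_mem hx) hy, ?_⟩
    have h7 := T.nrm_mul hx (P2.mul_mem (P2.inv_mem hx) hy)
    rw [mul_inv_cancel_left] at h7
    -- (nrm y)⁻¹ * (nrm x * nrm (x⁻¹ y)) ∈ Q
    have h8 := Q.mul_mem h6 h7
    have e : (nrm d x)⁻¹ * nrm d y * ((nrm d y)⁻¹ * (nrm d x * nrm d (x⁻¹ * y))) =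
        nrm d (x⁻¹ * y) := by group
    rwa [e] at h8)
  rw [inf_eq_right.2 hle, T.big.card] at h1
  have htn : t ∉ T.Q2 := fun h => S.tQ (by have := h.2; rwa [T.t_nrm] at this)
  -- Q2 < P2, so index 2
  have h2 := relIndex_mul_relIndex ⊥ T.Q2 P2 bot_le hle
  rw [relIndex_bot_left, relIndex_bot_left, T.big.card] at h2
  have h3 : T.Q2.relIndex P2 ≠ 1 := fun h => htn (relIndex_eq_one.1 h T.big.tP2)
  have h4 : T.Q2.relIndex P2 ≠ 0 := by
    intro h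
    rw [h, mul_zero] at h2
    have : 0 < Nat.card Q := Nat.card_pos
    omega
  have h5 : 0 < Nat.card Q := Nat.card_pos
  have h6 : T.Q2.relIndex P2 = 2 := by
    have h7 : 2 ≤ T.Q2.relIndex P2 := by omega
    by_contra hne
    have h8 : 3 ≤ T.Q2.relIndex P2 := by omega
    have h9 : 0 < Nat.card T.Q2 := Nat.card_pos
    nlinarith
  rw [h6] at h2
  omega

theorem QQ2 (T : Tri2 L S P2 d) : Q ≤ T.Q2 := fun q hq => ⟨T.big.QP2 hq, T.nrm_of_mem hq⟩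

/-- elements of `C(t) ∩ N(V)` normalising `P2` normalise the new stage -/
theorem norm_Q2 (T : Tri2 L S P2 d) {m : G} (hm : m * t = t * m)
    (hmV : ∀ v ∈ V, m * v * m⁻¹ ∈ V) (hmP : ∀ x ∈ P2, m * x * m⁻¹ ∈ P2) :
    ∀ p ∈ T.Q2, m * p * m⁻¹ ∈ T.Q2 := by
  rintro p ⟨hp, hpQ⟩
  refine ⟨hmP p hp, ?_⟩
  set e := m⁻¹ * d * m with he
  have hmQ := T.big.normQ hm hmP
  have hm' : m⁻¹ * t = t * m⁻¹ := by
    calc m⁻¹ * t = m⁻¹ * (t * m) * m⁻¹ := by group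
      _ = m⁻¹ * (m * t) * m⁻¹ := by rw [hm]
      _ = t * m⁻¹ := by group
  have het : e * t = t * e := by
    have h1 := T.tri.dt
    calc e * t = m⁻¹ * d * (m * t) := by rw [he]; group
      _ = m⁻¹ * (d * t) * m := by rw [hm]; group
      _ = (m⁻¹ * t) * d * m := by rw [h1]; group
      _ = t * e := by rw [hm', he]; group
  have heV : ∀ v ∈ V, e * v * e⁻¹ ∈ V := by
    intro v hv
    have h1 := conj_surj hmV _ (T.tri.dV _ (hmV v hv))
    have e1 : m⁻¹ * (d * (m * v * m⁻¹) * d⁻¹) * m = e * v * e⁻¹ := by rw [he]; group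
    rwa [e1] at h1
  have heP : ∀ x ∈ P2, e * x * e⁻¹ ∈ P2 := by
    intro v hv
    have h1 := conj_surj hmP _ (T.dP2 _ (hmP v hv))
    have e1 : m⁻¹ * (d * (m * v * m⁻¹) * d⁻¹) * m = e * v * e⁻¹ := by rw [he]; group
    rwa [e1] at h1
  have hef : ∀ v ∈ V, e * v * e⁻¹ = v → v = 1 := by
    intro v hv h
    have h1 : d * (m * v * m⁻¹) * d⁻¹ = m * v * m⁻¹ := by
      calc d * (m * v * m⁻¹) * d⁻¹ = m * (e * v * e⁻¹) * m⁻¹ := by rw [he]; group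
        _ = m * v * m⁻¹ := by rw [h]
    have h2 := T.tri.fix _ (hmV v hv) h1
    have : v = m⁻¹ * (m * v * m⁻¹) * m := by group
    rw [this, h2]; group
  -- nrm d (m p m⁻¹) = m (nrm e p) m⁻¹
  have h1 : nrm d (m * p * m⁻¹) = m * nrm e p * m⁻¹ := by
    have h2 : d ^ 2 * m = m * e ^ 2 := by rw [he, pow_two, pow_two]; group
    have h3 : m⁻¹ * (d ^ 2)⁻¹ = (e ^ 2)⁻¹ * m⁻¹ := by
      rw [← mul_inv_rev, h2, mul_inv_rev]
    calc nrm d (m * p * m⁻¹) = m * p * m⁻¹ * (d * (m * p * m⁻¹) * d⁻¹) *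
          ((d ^ 2 * m) * p * (m⁻¹ * (d ^ 2)⁻¹)) := by rw [nrm]; group
      _ = m * p * m⁻¹ * (d * (m * p * m⁻¹) * d⁻¹) * (m * e ^ 2 * p * ((e ^ 2)⁻¹ * m⁻¹)) := by
          rw [h2, h3]
      _ = m * nrm e p * m⁻¹ := by rw [nrm, he]; group
  rw [h1]
  apply hmQ
  -- it suffices: nrm d p ≡ nrm e p mod Q
  suffices h2 : (nrm d p)⁻¹ * nrm e p ∈ Q by
    have h3 := Q.mul_mem hpQ h2
    rwa [mul_inv_cancel_left] at h3
  rcases act_eq L.V4 (fun x hx y hy => L.vcomm hx hy) T.tri.dV heV T.tri.fix hef with h2 | h2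
  · -- e = d w
    set w := d⁻¹ * e with hw
    have hwt : w * t = t * w := by
      have h3 : d⁻¹ * t = t * d⁻¹ := by
        calc d⁻¹ * t = d⁻¹ * (t * d) * d⁻¹ := by group
          _ = d⁻¹ * (d * t) * d⁻¹ := by rw [T.tri.dt]
          _ = t * d⁻¹ := by group
      calc w * t = d⁻¹ * (e * t) := by rw [hw]; group
        _ = (d⁻¹ * t) * e := by rw [het]; group
        _ = t * w := by rw [h3, hw]; group
    have hwV : ∀ v ∈ V, w * v = v * w := by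
      intro v hv
      have h3 := h2 v hv
      calc w * v = d⁻¹ * (e * v * e⁻¹) * e := by rw [hw]; group
        _ = d⁻¹ * (d * v * d⁻¹) * e := by rw [h3]
        _ = v * w := by rw [hw]; group
    have hwP : ∀ x ∈ P2, w * x * w⁻¹ ∈ P2 := by
      intro x hx
      have h3 := T.dP2' _ (heP x hx)
      have e1 : d⁻¹ * (e * x * e⁻¹) * d = w * x * w⁻¹ := by rw [hw]; group
      rwa [e1] at h3
    have key : ∀ x ∈ P2, (d * x * d⁻¹)⁻¹ * (e * x * e⁻¹) ∈ Q := by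
      intro x hx
      have h3 := T.trivQ hwt hwV hwP x hx
      have h4 := T.big.P2Q _ (P2.inv_mem hx) _ h3
      have h5 := T.tri.dQ _ h4
      have e1 : d * (x⁻¹ * (w * x * w⁻¹ * x⁻¹) * x⁻¹⁻¹) * d⁻¹ = (d * x * d⁻¹)⁻¹ * (e * x * e⁻¹) := by
        rw [hw]; group
      rwa [e1] at h5
    have key2 : (d ^ 2 * p * (d ^ 2)⁻¹)⁻¹ * (e ^ 2 * p * (e ^ 2)⁻¹) ∈ Q := by
      -- d(d p d⁻¹)d⁻¹ ≡ d (e p e⁻¹) d⁻¹ ≡ e (e p e⁻¹) e⁻¹
      have h3 := T.tri.dQ _ (key p hp)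
      have h4 := key _ (heP p hp)
      have h5 := Q.mul_mem h3 h4
      have e1 : d * ((d * p * d⁻¹)⁻¹ * (e * p * e⁻¹)) * d⁻¹ *
          ((d * (e * p * e⁻¹) * d⁻¹)⁻¹ * (e * (e * p * e⁻¹) * e⁻¹)) =
          (d ^ 2 * p * (d ^ 2)⁻¹)⁻¹ * (e ^ 2 * p * (e ^ 2)⁻¹) := by
        simp only [pow_two, mul_inv_rev, inv_inv, mul_assoc, inv_mul_cancel_left,
          mul_inv_cancel_left]
      rwa [e1] at h5
    rw [nrm, nrm]
    refine T.mulQ (T.sq.dP2 p hp) (T.mulQ (T.dP2 p hp) ?_ (key p hp)) key2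
    rw [inv_mul_cancel]; exact Q.one_mem
  · -- e = d⁻¹ w
    set w := d * e with hw
    have hwt : w * t = t * w := by
      calc w * t = d * (e * t) := by rw [hw]; group
        _ = (d * t) * e := by rw [het]; group
        _ = t * w := by rw [T.tri.dt, hw]; group
    have hwV : ∀ v ∈ V, w * v = v * w := by
      intro v hv
      have h3 := h2 v hv
      calc w * v = d * (e * v * e⁻¹) * e := by rw [hw]; group
        _ = d * (d⁻¹ * v * d) * e := by rw [h3]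
        _ = v * w := by rw [hw]; group
    have hwP : ∀ x ∈ P2, w * x * w⁻¹ ∈ P2 := by
      intro x hx
      have h3 := T.dP2 _ (heP x hx)
      have e1 : d * (e * x * e⁻¹) * d⁻¹ = w * x * w⁻¹ := by rw [hw]; group
      rwa [e1] at h3
    have dQ' : ∀ x ∈ Q, d⁻¹ * x * d ∈ Q := conj_surj T.tri.dQ
    have key : ∀ x ∈ P2, (d⁻¹ * x * d)⁻¹ * (e * x * e⁻¹) ∈ Q := by
      intro x hx
      have h3 := T.trivQ hwt hwV hwP x hx
      have h4 := T.big.P2Q _ (P2.inv_mem hx) _ h3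
      have h5 := dQ' _ h4
      have e1 : d⁻¹ * (x⁻¹ * (w * x * w⁻¹ * x⁻¹) * x⁻¹⁻¹) * d = (d⁻¹ * x * d)⁻¹ * (e * x * e⁻¹) := by
        rw [hw]; group
      rwa [e1] at h5
    have key2 : (d⁻¹ * (d⁻¹ * p * d) * d)⁻¹ * (e ^ 2 * p * (e ^ 2)⁻¹) ∈ Q := by
      have h3 := dQ' _ (key p hp)
      have h4 := key _ (heP p hp)
      have h5 := Q.mul_mem h3 h4
      have e1 : d⁻¹ * ((d⁻¹ * p * d)⁻¹ * (e * p * e⁻¹)) * d *
          ((d⁻¹ * (e * p * e⁻¹) * d)⁻¹ * (e * (e * p * e⁻¹) * e⁻¹)) =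
          (d⁻¹ * (d⁻¹ * p * d) * d)⁻¹ * (e ^ 2 * p * (e ^ 2)⁻¹) := by
        simp only [pow_two, mul_inv_rev, inv_inv, mul_assoc, inv_mul_cancel_left,
          mul_inv_cancel_left]
      rwa [e1] at h5
    -- d⁻¹ p d = d² p d⁻², d⁻² p d² = d p d⁻¹
    have h3 := T.d3cent p hp
    have e2 : d⁻¹ * p * d = d ^ 2 * p * (d ^ 2)⁻¹ := by
      have h4 : d ^ 3 * p * (d ^ 3)⁻¹ = p := by rw [h3, mul_inv_cancel_right]
      calc d⁻¹ * p * d = d⁻¹ * (d ^ 3 * p * (d ^ 3)⁻¹) * d := by rw [h4]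
        _ = d ^ 2 * p * (d ^ 2)⁻¹ := by rw [pow_succ d 2, pow_two]; group
    have e3 : d⁻¹ * (d⁻¹ * p * d) * d = d * p * d⁻¹ := by
      rw [e2, pow_two]; group
    rw [e3] at key2
    have key1 := key p hp
    rw [e2] at key1
    -- nrm e p ≡ p · d²p · d p ≡ nrm d p
    have h4 : (p * (d ^ 2 * p * (d ^ 2)⁻¹) * (d * p * d⁻¹))⁻¹ * nrm e p ∈ Q := by
      rw [nrm]
      refine T.mulQ (T.dP2 p hp) (T.mulQ (T.sq.dP2 p hp) ?_ key1) key2
      rw [inv_mul_cancel]; exact Q.one_mem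
    have h5 : (nrm d p)⁻¹ * (p * (d ^ 2 * p * (d ^ 2)⁻¹) * (d * p * d⁻¹)) ∈ Q := by
      have h6 := T.swapQ (T.dP2 p hp) (T.sq.dP2 p hp)
      have e4 : (nrm d p)⁻¹ * (p * (d ^ 2 * p * (d ^ 2)⁻¹) * (d * p * d⁻¹)) =
          (d * p * d⁻¹ * (d ^ 2 * p * (d ^ 2)⁻¹))⁻¹ * (d ^ 2 * p * (d ^ 2)⁻¹ * (d * p * d⁻¹)) := by
        rw [nrm]; group
      rw [e4]; exact h6
    exact transQ h5 h4

theorem stage (T : Tri2 L S P2 d) : Stg t V T.Q2 where
  VQ := S.VQ.trans T.QQ2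
  Q2 := T.big.syl.1.to_le (fun x hx => hx.1)
  QV := fun q hq => T.big.PV2 q hq.1
  tQ := fun h => S.tQ (by have := h.2; rwa [T.t_nrm] at this)
  tn := by
    refine T.norm_Q2 rfl L.vn T.big.tnP2
  cov := by
    intro n hn hnV
    obtain ⟨m, h1, h2, h3⟩ := S.cov n hn hnV
    have hmV : ∀ v ∈ V, m * v * m⁻¹ ∈ V := fun v hv => by rw [h2 v hv]; exact hnV v hv
    obtain ⟨m', k1, k2, k3⟩ := T.big.cov2 h1 hmV h3
    refine ⟨m', k1, fun v hv => by rw [k2 v hv, h2 v hv], ?_⟩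
    exact T.norm_Q2 k1 (fun v hv => by rw [k2 v hv]; exact hmV v hv) k3

end Tri2

theorem Loc.stage0 (L : Loc t V) : Stg t V V where
  VQ := le_rfl
  Q2 := IsPGroup.of_card (n := 2) (by rw [L.V4]; norm_num)
  QV := fun q hq v hv => L.vcomm hq hv
  tQ := L.tV
  tn := L.vn
  cov := fun n hn hnV => ⟨n, hn, fun v _ => rfl, hnV⟩

theorem Stg.grow (L : Loc t V) (H : Thr t V) (S : Stg t V Q)
    (hn : ¬ IsSyl (centralizer (V : Set G)) (S.P L)) :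
    ∃ Q', ∃ _ : Stg t V Q', Nat.card Q' = 4 * Nat.card Q := by
  obtain ⟨d, D⟩ := S.exists_tri L H
  obtain ⟨P2, B⟩ := S.exists_big L D hn
  obtain ⟨d', T⟩ := B.exists_tri2 H
  exact ⟨T.Q2, T.stage, T.card_Q2⟩

/-- THEOREM P -/
theorem pmax (L : Loc t V) (H : Thr t V) :
    ∃ (Q : Subgroup G) (S : Stg t V Q) (m : ℕ), IsSyl (centralizer (V : Set G)) (S.P L) ∧
      1 ≤ m ∧ Nat.card Q = 4 ^ m := by
  by_contra hcon
  push Not at hcon
  have key : ∀ k : ℕ, ∃ (Q : Subgroup G) (_ : Stg t V Q), Nat.card Q = 4 ^ (k + 1) := by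
    intro k
    induction k with
    | zero => exact ⟨V, L.stage0, by rw [L.V4]; norm_num⟩
    | succ k ih =>
      obtain ⟨Q, S, hQ⟩ := ih
      have hns : ¬ IsSyl (centralizer (V : Set G)) (S.P L) := fun h =>
        hcon Q S (k + 1) h (by omega) hQ
      obtain ⟨Q', S', hQ'⟩ := S.grow L H hns
      exact ⟨Q', S', by rw [hQ', hQ]; ring⟩
  obtain ⟨Q, S, hQ⟩ := key (Nat.card G)
  have h1 : Nat.card Q ≤ Nat.card G := Nat.card_le_card_of_injective _ Subtype.val_injective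
  rw [hQ] at h1
  have h2 : Nat.card G < 4 ^ (Nat.card G) := Nat.lt_pow_self (by norm_num)
  have h3 : 4 ^ (Nat.card G) ≤ 4 ^ (Nat.card G + 1) := Nat.pow_le_pow_right (by norm_num) (by omega)
  omega

/-- `t^{C(V)} ∩ P = t^P` if `P` is Sylow in `C(V)` -/
theorem Stg.class_one (L : Loc t V) (S : Stg t V Q) (H : Thr t V)
    (hs : IsSyl (centralizer (V : Set G)) (S.P L)) {x : G}
    (hx : x ∈ cls (centralizer (V : Set G)) t) (hxP : x ∈ S.P L) : x ∈ cls (S.P L) t := by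
  obtain ⟨d, D⟩ := S.exists_tri L H
  have h1 := S.count L D (K := centralizer (V : Set G)) le_rfl (S.PY L) (Stg.tri_C D L)
  obtain ⟨m, hm, h2⟩ := parity hs (t := t) (S.PY L (S.tP L)) L.t2
  obtain ⟨r, hr, hc⟩ := card_cent L (K := centralizer (V : Set G)) ((S.WP L).trans (S.PY L))
    (fun x hx v hv => (mem_centralizer_iff.1 hx v hv).symm)
  rw [hc, S.card_P L, ← S.card_cls L] at h2
  have hpos : 0 < (cls (S.P L) t).ncard :=
    (Set.ncard_pos (Set.toFinite _)).2 ⟨t, mem_cls_self _ _⟩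
  have h3 : {x | x ∈ cls (centralizer (V : Set G)) t ∧ x ∈ S.P L}.ncard =
      (cls (S.P L) t).ncard := by
    rcases h1 with h1 | h1
    · exact h1
    · exfalso
      rw [h1] at h2
      have h4 : 4 * (8 * r) = m * 8 := by
        apply Nat.eq_of_mul_eq_mul_left hpos
        calc (cls (S.P L) t).ncard * (4 * (8 * r)) = 4 * (cls (S.P L) t).ncard * (8 * r) := by ring
          _ = m * (2 * ((cls (S.P L) t).ncard * 4)) := h2
          _ = (cls (S.P L) t).ncard * (m * 8) := by ring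
      have h5 : m = 2 * (2 * r) := by omega
      rw [h5] at hm
      exact absurd hm (by simp)
  have hsub : cls (S.P L) t ⊆ {x | x ∈ cls (centralizer (V : Set G)) t ∧ x ∈ S.P L} := by
    intro y hy
    refine ⟨cls_mono (S.PY L) t hy, ?_⟩
    obtain ⟨k, hk, rfl⟩ := hy
    exact (S.P L).mul_mem ((S.P L).mul_mem hk (S.tP L)) ((S.P L).inv_mem hk)
  have heq := Set.eq_of_subset_of_ncard_le hsub (by rw [h3]) (Set.toFinite _)
  rw [heq]
  exact ⟨hx, hxP⟩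

end Cfsg.Agent.StdL2.SFive
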