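import Cfsg.Agent.StdL2.SFive.IdEnd
import Cfsg.Agent.StdL2.SFive.IdTwo
import Cfsg.Agent.StdL2.Assemble
import Cfsg.Agent.SectRankFour.AutM11

/-!
# S1773, `A ≅ A₅`: the identification when `L` has 2-rank two
-/

set_option autoImplicit false

namespace Cfsg.Agent.StdL2.SFive.IdRank

open Cfsg Subgroup Cfsg.Agent.StdL2.Setup Cfsg.Agent.StdL2.Assemble Cfsg.Agent.StdL2.Frame

universe u

/-- the simple groups of 2-rank two -/
def S0482Stmt : Prop :=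
  ∀ (G : Type u) [Group G] [Finite G] [IsSimpleGroup G]
    (_ : ¬ IsMulCommutative G) (_ : Cfsg.PRankLE 2 2 G),
    (∃ (F : Type) (_ : Field F) (_ : Fintype F), Odd (Fintype.card F) ∧ 5 ≤ Fintype.card F ∧
        Nonempty (G ≃* Matrix.ProjectiveSpecialLinearGroup (Fin 2) F)) ∨
      (∃ (F : Type) (_ : Field F) (_ : Fintype F), Odd (Fintype.card F) ∧
        Nonempty (G ≃* Matrix.ProjectiveSpecialLinearGroup (Fin 3) F)) ∨
      (∃ (F : Type) (_ : Field F) (_ : Fintype F) (q : ℕ), Fintype.card F = q ^ 2 ∧ Odd q ∧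
        Nonempty (G ≃* Cfsg.PSU 3 F q)) ∨
      (∃ (F : Type) (_ : Field F) (_ : Fintype F), Fintype.card F = 16 ∧
        Nonempty (G ≃* Cfsg.PSU 3 F 4)) ∨
      Nonempty (G ≃* alternatingGroup (Fin 7)) ∨
      Cfsg.IsM11 G

variable {G : Type u} [Group G] [Finite G] {L A : Subgroup G} {t : G}

/-- `M₁₁` has no outer automorphism. -/
theorem not_m11 (C : Conf L A t) (htL : t ∉ L) : ¬ Cfsg.IsM11 ↥L := by
  intro h
  have := C.normal
  obtain ⟨l, hl⟩ := SectRankFour.AutM11.exists_conj h (MulAut.conjNormal t : MulAut L)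
  apply htL
  have h1 : (l : G)⁻¹ * t ∈ centralizer (L : Set G) := by
    rw [mem_centralizer_iff]
    intro y hy
    have h2 := congrArg (fun φ : ↥L ≃* ↥L => ((φ ⟨y, hy⟩ : ↥L) : G)) hl
    have h3 : t * y * t⁻¹ = (l : G) * y * (l : G)⁻¹ := h2
    have h4 : t * y = (l : G) * y * (l : G)⁻¹ * t := by
      rw [← h3]; group
    rw [mul_assoc (l : G)⁻¹ t, h4]
    group
  rw [C.cent, mem_bot, inv_mul_eq_one] at h1
  rw [← h1]
  exact l.2

/-- **The identification.** -/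
theorem rank_two (h0482 : S0482Stmt.{u}) (C : Conf L A t) (h60 : Nat.card A = 60) (htL : t ∉ L)
    (hr : PRankLE 2 2 ↥L) : (Lie2 ↥L ∧ t ∉ L) ∨ Exc4 ↥L := by
  have := C.simple
  rcases h0482 ↥L C.not_comm hr with ⟨F, i1, i2, ho, h5, ⟨e⟩⟩ | ⟨F, i1, i2, ho, ⟨e⟩⟩ |
    ⟨F, i1, i2, q, hF, ho, ⟨e⟩⟩ | ⟨F, i1, i2, hF, he⟩ | h | h
  · right
    obtain ⟨α, f, h1, h2, h3, h4, h5⟩ := IdBridge.bridge C h60 e
    have hc := IdTwo.card_eq ho h1 h2 h3 h4 h5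
    exact Or.inr (Or.inr (Or.inr (Or.inr (Or.inr (Or.inl ⟨F, i1, i2, hc, Or.inl ⟨e⟩⟩)))))
  · right
    have hc := IdEnd.ident_l3 C h60 ho e
    exact Or.inr (Or.inr (Or.inr (Or.inr (Or.inr (Or.inr (Or.inl ⟨F, i1, i2, hc, Or.inl ⟨e⟩⟩))))))
  · right
    have hc := IdEnd.ident_u3 C h60 hF ho e
    subst hc
    exact Or.inr (Or.inr (Or.inr (Or.inr (Or.inr (Or.inl ⟨F, i1, i2, hF, Or.inr ⟨e⟩⟩)))))
  · left
    exact ⟨Or.inr (Or.inr ⟨F, i1, i2, 4, hF, by decide, le_rfl, he⟩), htL⟩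
  · right
    exact Or.inr (Or.inr (Or.inr (Or.inr (Or.inl h))))
  · exact absurd h (not_m11 C htL)

end Cfsg.Agent.StdL2.SFive.IdRank
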