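import Cfsg.Agent.StdL2.SFive.Frame
import Cfsg.Agent.MinSimple.SelfCentFour
import Cfsg.Agent.Transfer.ThompsonTransfer

/-!
# S1773, `q = 4`: the leaf `Q = V`, `S = ⟨t⟩ × D₈`

`rank`: a normal subgroup `L` with `t ∉ L` has 2-rank 2.  `index_two`: `G` has a subgroup of
index 2.
-/

set_option autoImplicit false
set_option linter.unusedSectionVars false
set_option linter.style.haveILetI false

open Subgroup

namespace Cfsg.Agent.StdL2.SFive

open Cfsg.Agent.StdL2.FieldStart

namespace LeafOne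

variable {G : Type*} [Group G] [Finite G] {t : G} {V S : Subgroup G}

/-- for `Q = V` the group `W` is a Sylow 2-subgroup of `C(V)` -/
theorem sylW (H : Pos t V V S) : IsSyl (centralizer (V : Set G)) H.L.W := by
  refine ⟨isPGroup_dbl _ _ H.Q2, ?_, ?_⟩
  · intro w hw
    rw [mem_centralizer_iff]
    intro v hv
    exact (H.L.W_V hw hv).symm
  · intro P hP hWP hPV
    by_contra hcon
    have hlt : H.L.W < P := lt_of_le_not_ge hWP hcon
    obtain ⟨n, hn, hnW, hnN⟩ := exists_normalizer_gt hP hlt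
    apply hnW
    have h1 := H.fix_of_eq hnN
    have h2 : n * t = t * n := by
      have := congrArg (fun z => z * n) h1
      simpa [mul_assoc] using this
    obtain ⟨k, hk⟩ := hP ⟨n, hn⟩
    exact H.L.cen n h2 (fun v hv => ((mem_centralizer_iff.1 (hPV hn)) v hv).symm)
      ⟨k, by simpa using congrArg Subtype.val hk⟩

open Cfsg in
/-- **Leaf `Q = V`, `t ∉ L`**. -/
theorem rank (H : Pos t V V S) {L : Subgroup G} (hL : L.Normal) (htL : t ∉ L) (hVL : V ≤ L) :
    PRankLE 2 2 L := by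
  haveI : Fact (Nat.Prime 2) := ⟨Nat.prime_two⟩
  have hV2 : IsPGroup 2 (V.subgroupOf L) := by
    intro v
    refine ⟨1, Subtype.ext (Subtype.ext ?_)⟩
    have := H.L.vsq _ (mem_subgroupOf.1 v.2)
    simpa [pow_two] using this
  obtain ⟨P, hP⟩ := hV2.exists_le_sylow
  refine MinSimple.SelfCentFour.pRankLE P (V := V.subgroupOf L) hP ?_ ?_ ?_
  · rw [← H.L.V4]
    exact Nat.card_congr (subgroupOfEquivOfLe hVL).toEquiv
  · intro v hv
    exact Subtype.ext (H.L.vsq _ (mem_subgroupOf.1 hv))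
  · intro z hz
    set F := ((P : Subgroup L) ⊓ centralizer ((V.subgroupOf L : Subgroup L) : Set L)).map L.subtype
      with hF
    have hFL : F ≤ L := map_subtype_le _
    have hF2 : IsPGroup 2 F := (P.2.to_le inf_le_left).map _
    have hFV : F ≤ centralizer (V : Set G) := by
      rintro _ ⟨f, hf, rfl⟩
      rw [mem_centralizer_iff]
      intro v hv
      have h1 := mem_centralizer_iff.1 (mem_inf.1 hf).2 ⟨v, hVL hv⟩ (mem_subgroupOf.2 hv)
      exact congrArg Subtype.val h1
    obtain ⟨c, hc, hcF⟩ := (sylW H).conj hF2 hFV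
    rw [mem_subgroupOf]
    have h1 : c * (z : G) * c⁻¹ ∈ H.L.W := hcF _ ⟨z, hz, rfl⟩
    have h2 : c * (z : G) * c⁻¹ ∈ L := hL.conj_mem _ z.2 c
    have h3 : c * (z : G) * c⁻¹ ∈ V := by
      rcases h1 with h1 | h1
      · exact h1
      · exfalso
        apply htL
        have := mul_mem (hVL h1) (inv_mem h2)
        rwa [mul_inv_cancel_right] at this
    have h4 := mem_centralizer_iff.1 hc _ h3
    have h5 : (z : G) = c⁻¹ * ((c * (z : G) * c⁻¹) * c) := by group
    rw [h5, h4, inv_mul_cancel_left]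
    exact h3

section Alpha

variable {v0 u x : G}

/-- the other frame -/
theorem swapF {Q : Subgroup G} {H : Pos t V Q S} (F : Fr H v0 u x) : Fr H v0 u (t * x) where
  v0V := F.v0V
  v01 := F.v01
  v0c := F.v0c
  uV := F.uV
  u1 := F.u1
  u0 := F.u0
  xS := S.mul_mem H.tS F.xS
  xW := by
    intro h
    apply F.xW
    have h2 := H.L.W.mul_mem H.L.tW h
    rwa [← mul_assoc, H.L.t2, one_mul] at h2
  xx := by
    calc t * x * (t * x) = t * (x * t) * x := by group
      _ = (t * t) * (x * x) := by rw [F.xt]; group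
      _ = 1 := by rw [H.L.t2, F.xx, one_mul]

theorem ne_inv_sq (H : Pos t V V S) (g : G) : (g * t * g⁻¹) * (g * t * g⁻¹) = 1 := by
  have : (g * t * g⁻¹) * (g * t * g⁻¹) = g * (t * t) * g⁻¹ := by group
  rw [this, H.L.t2]; group

/-- Thompson transfer with `V⟨x⟩` for `S` Sylow -/
theorem thompson_x {H : Pos t V V S} (F : Fr H v0 u x) (R : Sylow 2 G) (hR : (R : Subgroup G) = S)
    (hV : ∀ g : G, g * t * g⁻¹ ∉ V) :
    (∃ M : Subgroup G, M.Normal ∧ M.index = 2) ∨ ∃ g : G, g * t * g⁻¹ = x := by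
  set D := dbl x V F.xx (H.SV x F.xS) with hD
  have hDS : D ≤ S := by
    rintro z (h | h)
    · exact H.VS h
    · have h1 := S.mul_mem F.xS (H.VS h)
      rwa [← mul_assoc, F.xx, one_mul] at h1
  have hDR : D ≤ (R : Subgroup G) := hR ▸ hDS
  have htD : t ∉ D := by
    rintro (h | h)
    · exact H.L.tV h
    · apply F.xW
      right
      rw [← F.xt]; exact h
  have hrel : D.relIndex (R : Subgroup G) = 2 := by
    refine LeafTools.relIndex_two_of (z := t) (by rw [hR]; exact H.tS) htD ?_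
    intro g hg
    rw [hR] at hg
    by_cases hgW : g ∈ H.L.W
    · rcases hgW with h | h
      · exact Or.inl (Or.inl h)
      · exact Or.inr (Or.inl h)
    · rcases F.dec hg hgW with h | h
      · exact Or.inl (Or.inr h)
      · right; right
        rw [← mul_assoc, F.xt, mul_assoc]; exact h
  rcases Transfer.ThompsonTransfer.thompson_transfer R D hDR hrel t
    (by rw [pow_two, H.L.t2]) with ⟨M, h1, h2, -⟩ | ⟨g, hg⟩
  · exact Or.inl ⟨M, h1, h2⟩
  right
  rcases hg with hg | hg
  · exact absurd hg (hV g)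
  -- `b = g t g⁻¹`
  set b := g * t * g⁻¹ with hb
  have hbS : b ∈ S := hDS (Or.inr hg)
  have hbW : b ∉ H.L.W := by
    intro h
    apply F.xW
    have h1 := H.L.W.mul_mem (Or.inl hg : x * b ∈ H.L.W) (H.L.W.inv_mem h)
    rwa [mul_inv_cancel_right] at h1
  have hbb : b * b = 1 := ne_inv_sq H g
  have e : b = x * (x * b) := by rw [← mul_assoc, F.xx, one_mul]
  rcases F.invol hbS hbW hbb with h | h | h | h
  · refine ⟨g, ?_⟩
    rw [← hb, e, h, mul_one]
  · refine ⟨u * g, ?_⟩
    have h1 : u * g * t * (u * g)⁻¹ = u * b * u⁻¹ := by rw [hb]; group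
    rw [h1, e, h]
    have h2 := F.xu
    have h3 : x * v0 = v0 * x := F.xv
    have hui : u⁻¹ = u := inv_of_sq F.uu
    calc u * (x * v0) * u⁻¹ = u * (v0 * x) * u := by rw [h3, hui]
      _ = u * v0 * (x * u) := by group
      _ = u * v0 * (u * v0) * x := by rw [h2]; group
      _ = x := by rw [H.L.vsq _ (V.mul_mem F.uV F.v0V), one_mul]
  · exfalso
    rw [h] at hg
    exact H.L.tV hg
  · exfalso
    rw [h] at hg
    apply H.L.tV
    have h5 := V.mul_mem hg F.v0V
    rwa [mul_assoc, F.vv, mul_one] at h5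

/-- `x` and `x v0` are conjugate -/
theorem conj_xv {Q : Subgroup G} {H : Pos t V Q S} (F : Fr H v0 u x) : u * x * u⁻¹ = x * v0 := by
  have h2 := F.xu
  have hui : u⁻¹ = u := inv_of_sq F.uu
  calc u * x * u⁻¹ = u * (x * u) := by rw [hui]; group
    _ = u * (u * v0 * x) := by rw [h2]
    _ = (u * u) * (v0 * x) := by group
    _ = x * v0 := by rw [F.uu, one_mul, F.xv]

/-- `S` a Sylow subgroup of `G`: there is a subgroup of index 2 -/
theorem index_two_one {H : Pos t V V S} (F : Fr H v0 u x) (R : Sylow 2 G)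
    (hR : (R : Subgroup G) = S) : ∃ M : Subgroup G, M.Normal ∧ M.index = 2 := by
  haveI : Fact (Nat.Prime 2) := ⟨Nat.prime_two⟩
  -- (a) `N(S)` centralises `t`
  have ha : ∀ h : G, (∀ s ∈ S, h * s * h⁻¹ ∈ S) → h * t * h⁻¹ = t := by
    intro h hh
    rcases F.norm_t hh with h1 | h1
    · exact h1
    exfalso
    have h0 := F.norm_v0 hh
    obtain ⟨a, m, hm, ham⟩ := Nat.exists_eq_pow_mul_and_not_dvd (orderOf_pos h).ne' 2 (by norm_num)
    have hodd : Odd m := by rwa [← Nat.not_even_iff_odd, even_iff_two_dvd]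
    have hN : h ∈ normalizer (S : Set G) := Fld.conj_mem_norm hh
    have hmN : h ^ m ∈ normalizer (S : Set G) := (normalizer _).pow_mem hN m
    have hz2 : IsPGroup 2 (zpowers (h ^ m)) := by
      intro y
      obtain ⟨n, hn⟩ := mem_zpowers_iff.1 y.2
      refine ⟨a, Subtype.ext ?_⟩
      show (y : G) ^ 2 ^ a = 1
      rw [← hn, ← zpow_natCast, ← zpow_mul, mul_comm, zpow_mul, zpow_natCast, ← pow_mul,
        mul_comm m, ← ham, pow_orderOf_eq_one, one_zpow]
    have hsup : IsPGroup 2 (S ⊔ zpowers (h ^ m) : Subgroup G) :=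
      isPGroup_sup H.S2 hz2 (by rw [zpowers_le]; exact hmN)
    have hle : (R : Subgroup G) ≤ S ⊔ zpowers (h ^ m) := by rw [hR]; exact le_sup_left
    have heq := R.is_maximal' hsup hle
    have hmS : h ^ m ∈ S := by
      have h2 : h ^ m ∈ S ⊔ zpowers (h ^ m) := (le_sup_right : zpowers (h ^ m) ≤ _) (mem_zpowers _)
      rw [heq, show R.toSubgroup = S from hR] at h2
      exact h2
    have hmt := H.St hmS
    -- but odd powers move `t`
    have hpow : ∀ k : ℕ, h ^ (2 * k) * t * (h ^ (2 * k))⁻¹ = t := by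
      intro k
      induction k with
      | zero => simp
      | succ k ih =>
        have e : h ^ (2 * (k + 1)) * t * (h ^ (2 * (k + 1)))⁻¹ =
            h * (h * (h ^ (2 * k) * t * (h ^ (2 * k))⁻¹) * h⁻¹) * h⁻¹ := by
          rw [show 2 * (k + 1) = 1 + (1 + 2 * k) by ring, pow_add, pow_add, pow_one]; group
        rw [e, ih, h1]
        have e2 : h * (t * v0) * h⁻¹ = (h * t * h⁻¹) * (h * v0 * h⁻¹) := by group
        rw [e2, h1, h0, mul_assoc, F.vv, mul_one]
    obtain ⟨k, hk⟩ := hodd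
    have e : h ^ m * t * (h ^ m)⁻¹ = h * (h ^ (2 * k) * t * (h ^ (2 * k))⁻¹) * h⁻¹ := by
      rw [hk, show 2 * k + 1 = 1 + 2 * k by ring, pow_add, pow_one]; group
    rw [hpow, h1, hmt, mul_inv_cancel_right] at e
    apply F.v01
    have : t * 1 = t * v0 := by rw [mul_one]; exact e
    exact (mul_left_cancel this).symm
  -- (b)
  have hb : ∀ g z : G, F.IsZ z → g * t * g⁻¹ = z → z = t := by
    intro g z hz hg
    obtain ⟨h, hh, hhS⟩ := H.into_S hg H.S2 (fun s hs => F.isZ_c hz hs)
    have h1 := ha h hhS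
    rw [← h1] at hh
    exact mul_left_cancel (mul_right_cancel hh)
  -- (c)
  have hcV : ∀ g : G, g * t * g⁻¹ ∉ V := by
    intro g hg
    have hne : g * t * g⁻¹ ≠ 1 := fun e => H.L.t1 (by
      have := congrArg (fun z => g⁻¹ * z * g) e
      simpa [mul_assoc] using this)
    obtain ⟨c, hct, hc, -⟩ := H.tr _ hg hne v0 F.v0V F.v01
    have h1 := hb (c * g) v0 (Or.inr (Or.inl rfl)) (by rw [← hc]; group)
    exact H.L.tV (h1 ▸ F.v0V)
  rcases thompson_x F R hR hcV with h | ⟨g, hg⟩
  · exact h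
  rcases thompson_x (swapF F) R hR hcV with h | ⟨g', hg'⟩
  · exact h
  exfalso
  -- a Sylow subgroup of `C(x)` above `X0`
  set X0 := (S ⊓ centralizer {x} : Subgroup G) with hX0
  have hX02 : IsPGroup 2 X0 := H.S2.to_le inf_le_left
  obtain ⟨T', hT', hXT'⟩ := exists_isSyl (centralizer {x}) X0 hX02 inf_le_right
  have h16 : 16 ≤ Nat.card T' := by
    have h1 := hT'.card_le (P := S.map (MulAut.conj g).toMonoidHom) (H.S2.map _) (by
      rintro _ ⟨s, hs, rfl⟩
      rw [mem_centralizer_singleton_iff]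
      show MulAut.conj g s * x = x * MulAut.conj g s
      rw [MulAut.conj_apply, ← hg]
      have h2 := H.St hs
      calc g * s * g⁻¹ * (g * t * g⁻¹) = g * (s * t) * g⁻¹ := by group
        _ = g * t * g⁻¹ * (g * s * g⁻¹) := by rw [h2]; group)
    rw [card_map_of_injective (MulAut.conj g).injective, H.card_S] at h1
    exact h1
  have hlt : X0 < T' := by
    refine lt_of_le_of_ne hXT' ?_
    intro h
    have h1 := F.card_X0
    rw [← hX0, h] at h1
    omega
  obtain ⟨y, hy, hyX, hyN⟩ := exists_normalizer_gt hT'.1 hlt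
  have hyx : y * x = x * y := mem_centralizer_singleton_iff.1 (hT'.2.1 hy)
  have htX : t ∈ X0 := F.mem_X0.2 (Or.inl (Or.inr (Or.inr (Or.inl rfl))))
  have hvX : v0 ∈ X0 := F.mem_X0.2 (Or.inl (Or.inr (Or.inl rfl)))
  by_cases hyt : y * t * y⁻¹ = t
  · -- `y ∈ C(t)`
    have hyt' : y * t = t * y := by
      have := congrArg (fun z => z * y) hyt
      simpa [mul_assoc] using this
    set E := (X0 ⊔ zpowers y : Subgroup G) with hE
    have hy2 : IsPGroup 2 (zpowers y) := hT'.1.to_le (by rw [zpowers_le]; exact hy)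
    have hE2 : IsPGroup 2 E := isPGroup_sup hX02 hy2 (by rw [zpowers_le]; exact hyN)
    have hEt : E ≤ centralizer {t} := sup_le (fun z hz => H.Syl.2.1 (mem_inf.1 hz).1)
      (by rw [zpowers_le, mem_centralizer_singleton_iff]; exact hyt')
    have hEx : E ≤ centralizer {x} := sup_le inf_le_right
      (by rw [zpowers_le, mem_centralizer_singleton_iff]; exact hyx)
    have hE16 : 16 ≤ Nat.card E := by
      have h1 : Nat.card X0 ∣ Nat.card E := Subgroup.card_dvd_of_le le_sup_left
      rw [hX0, F.card_X0] at h1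
      have h2 : Nat.card E ≠ 8 := by
        intro h2
        apply hyX
        have h4 : X0 = E := Subgroup.eq_of_le_of_card_ge le_sup_left (by
          rw [h2, hX0, F.card_X0])
        rw [h4]
        exact (le_sup_right : zpowers y ≤ E) (mem_zpowers y)
      have h3 : 0 < Nat.card E := Nat.card_pos
      obtain ⟨k, hk⟩ := h1
      omega
    obtain ⟨c, hc, hcE⟩ := H.Syl.conj hE2 hEt
    have hct : c * t = t * c := mem_centralizer_singleton_iff.1 hc
    have hle : E.map (MulAut.conj c).toMonoidHom ≤ S := by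
      rintro _ ⟨f, hf, rfl⟩
      exact hcE f hf
    have heq : E.map (MulAut.conj c).toMonoidHom = S :=
      Subgroup.eq_of_le_of_card_ge hle (by
        rw [card_map_of_injective (MulAut.conj c).injective, H.card_S]; exact hE16)
    have hxX : x ∈ X0 := F.mem_X0.2 (Or.inr (Or.inl F.xx))
    have hcx : c * x * c⁻¹ ∈ S := hcE x ((le_sup_left : X0 ≤ E) hxX)
    have hZ : F.IsZ (c * x * c⁻¹) := by
      apply F.central hcx
      intro s hs
      rw [← heq] at hs
      obtain ⟨f, hf, rfl⟩ := hs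
      show (MulAut.conj c f) * (c * x * c⁻¹) = (c * x * c⁻¹) * (MulAut.conj c f)
      rw [MulAut.conj_apply]
      have h2 := mem_centralizer_singleton_iff.1 (hEx hf)
      calc c * f * c⁻¹ * (c * x * c⁻¹) = c * (f * x) * c⁻¹ := by group
        _ = c * x * c⁻¹ * (c * f * c⁻¹) := by rw [h2]; group
    have hcti : c⁻¹ * t = t * c⁻¹ := by
      calc c⁻¹ * t = c⁻¹ * (t * c) * c⁻¹ := by group
        _ = t * c⁻¹ := by rw [← hct]; group
    apply F.xW
    rcases F.isZ_W hZ with h1 | h1
    · left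
      have h2 := H.vcl c⁻¹ hcti _ h1 (by
        have : c⁻¹ * (c * x * c⁻¹) * c⁻¹⁻¹ = x := by group
        rw [this]; exact F.xS)
      have e : c⁻¹ * (c * x * c⁻¹) * c⁻¹⁻¹ = x := by group
      rwa [e] at h2
    · right
      have e : c⁻¹ * (t * (c * x * c⁻¹)) * c⁻¹⁻¹ = t * x := by
        calc c⁻¹ * (t * (c * x * c⁻¹)) * c⁻¹⁻¹ = (c⁻¹ * t) * c * x := by group
          _ = t * x := by rw [hcti]; group
      have h2 := H.vcl c⁻¹ hcti _ h1 (by rw [e]; exact S.mul_mem H.tS F.xS)
      rwa [e] at h2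
  · -- `y` permutes `v0, t v0`
    have hconj : ∀ z ∈ X0, F.IsZ (x * z) → ∃ m : G, m * t * m⁻¹ = z := by
      intro z hz hxz
      have e : z = x * (x * z) := by rw [← mul_assoc, F.xx, one_mul]
      rcases hxz with h | h | h | h
      · exact ⟨g, by rw [hg, e, h, mul_one]⟩
      · refine ⟨u * g, ?_⟩
        have h1 : u * g * t * (u * g)⁻¹ = u * (g * t * g⁻¹) * u⁻¹ := by group
        rw [h1, hg, conj_xv F, e, h]
      · refine ⟨g', ?_⟩
        rw [hg', e, h, F.xt]
      · refine ⟨u * g', ?_⟩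
        have h1 : u * g' * t * (u * g')⁻¹ = u * (g' * t * g'⁻¹) * u⁻¹ := by group
        rw [h1, hg', conj_xv (swapF F), e, h, ← mul_assoc, F.xt]
    have hN : ∀ z ∈ X0, y * z * y⁻¹ ∈ X0 := fun z hz => (mem_normalizer_iff.1 hyN z).1 hz
    have hnt : ∀ z, z ≠ 1 → z ∈ X0 → (∀ m : G, m * t * m⁻¹ ≠ z) → z = v0 ∨ z = t * v0 := by
      intro z hz1 hz hzm
      rcases F.mem_X0.1 hz with h | h
      · rcases h with h | h | h | h
        · exact absurd h hz1
        · exact Or.inl h
        · exact absurd (show (1 : G) * t * 1⁻¹ = z by rw [h]; group) (hzm 1)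
        · exact Or.inr h
      · obtain ⟨m, hm⟩ := hconj z hz h
        exact absurd hm (hzm m)
    have hvn : ∀ m : G, m * t * m⁻¹ ≠ v0 := fun m hm => hcV m (hm ▸ F.v0V)
    have htvn : ∀ m : G, m * t * m⁻¹ ≠ t * v0 := by
      intro m hm
      have h1 := hb m _ (Or.inr (Or.inr (Or.inr rfl))) hm
      apply F.v01
      have : t * v0 = t * 1 := by rw [mul_one]; exact h1
      exact mul_left_cancel this
    have hcne : ∀ z, z ≠ 1 → y * z * y⁻¹ ≠ 1 := fun z hz e => hz (by
      have := congrArg (fun z => y⁻¹ * z * y) e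
      simpa [mul_assoc] using this)
    have hcn : ∀ z, (∀ m : G, m * t * m⁻¹ ≠ z) → ∀ m : G, m * t * m⁻¹ ≠ y * z * y⁻¹ := by
      intro z hz m hm
      apply hz (y⁻¹ * m)
      have e : y⁻¹ * m * t * (y⁻¹ * m)⁻¹ = y⁻¹ * (m * t * m⁻¹) * y := by group
      rw [e, hm]; group
    have htv1 : t * v0 ≠ 1 := by
      intro h
      have h1 : v0 = t⁻¹ := eq_inv_of_mul_eq_one_right h
      rw [F.tinv] at h1
      exact H.L.tV (h1 ▸ F.v0V)
    have k1 := hnt _ (hcne v0 F.v01) (hN v0 hvX) (hcn v0 hvn)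
    have k2 := hnt _ (hcne _ htv1) (hN _ (mul_mem htX hvX)) (hcn _ htvn)
    have k3 : y * t * y⁻¹ = (y * (t * v0) * y⁻¹) * (y * v0 * y⁻¹) := by
      have : (y * (t * v0) * y⁻¹) * (y * v0 * y⁻¹) = y * (t * (v0 * v0)) * y⁻¹ := by group
      rw [this, F.vv, mul_one]
    have k4 : y * (t * v0) * y⁻¹ ≠ y * v0 * y⁻¹ := by
      intro h
      have h1 := mul_left_cancel (mul_right_cancel h)
      apply H.L.t1
      have : t * v0 = 1 * v0 := by rw [one_mul]; exact h1
      exact mul_right_cancel this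
    apply hyt
    rw [k3]
    rcases k1 with k1 | k1 <;> rcases k2 with k2 | k2
    · exact absurd (k2.trans k1.symm) k4
    · rw [k1, k2, mul_assoc, F.vv, mul_one]
    · rw [k1, k2, ← mul_assoc, F.vt, mul_assoc, F.vv, mul_one]
    · exact absurd (k2.trans k1.symm) k4

end Alpha

end LeafOne

end Cfsg.Agent.StdL2.SFive
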