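import Cfsg.Agent.StdL2.SFive.Count
import Cfsg.Agent.StdL2.SFive.LeafTools
import Cfsg.Agent.StdL2.FTEnd
import Cfsg.Agent.Involutions.NormalFour

/-!
# S1773, `q = 4`, `N(A)/C(A) = S₅`: position of `V ≤ Q` and `S`, common to all leaves

`S` is a Sylow 2-subgroup of `C(t)`, `V ≤ S` the four-group `S ∩ A`, `Q` the `C(t) ∩ N(V)`-invariant
group with `Q⟨t⟩` Sylow in `C(V)`.
-/

set_option autoImplicit false
set_option linter.unusedSectionVars false
set_option linter.style.haveILetI false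

open Subgroup

namespace Cfsg.Agent.StdL2.SFive

open Cfsg.Agent.StdL2.FieldStart

/-- the common position -/
structure Pos {G : Type*} [Group G] (t : G) (V Q S : Subgroup G) : Prop where
  L : Loc t V
  VQ : V ≤ Q
  Q2 : IsPGroup 2 Q
  QV : ∀ q ∈ Q, ∀ v ∈ V, q * v = v * q
  tQ : t ∉ Q
  Syl : IsSyl (centralizer {t}) S
  tS : t ∈ S
  VS : V ≤ S
  SV : ∀ s ∈ S, ∀ v ∈ V, s * v * s⁻¹ ∈ V
  SQ : ∀ s ∈ S, ∀ q ∈ Q, s * q * s⁻¹ ∈ Q
  out : ∃ s ∈ S, ∃ v ∈ V, s * v ≠ v * s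
  tr : ∀ v ∈ V, v ≠ 1 → ∀ w ∈ V, w ≠ 1 → ∃ c, c * t = t * c ∧ c * v * c⁻¹ = w ∧
    ∀ u ∈ V, c * u * c⁻¹ ∈ V
  vcl : ∀ c, c * t = t * c → ∀ v ∈ V, c * v * c⁻¹ ∈ S → c * v * c⁻¹ ∈ V
  cls : ∀ g, (∀ v ∈ V, g * v = v * g) → (g * t * g⁻¹ ∈ Q ∨ t * (g * t * g⁻¹) ∈ Q) →
    ∃ q ∈ Q, g * t * g⁻¹ = q * t * q⁻¹

section Four

variable {G : Type*} [Group G] [Finite G] {V : Subgroup G}

theorem four_elts (V4 : Nat.card V = 4) (vsq : ∀ v ∈ V, v * v = 1) {v0 : G} (hv0 : v0 ∈ V)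
    (h0 : v0 ≠ 1) : ∃ v ∈ V, v ≠ 1 ∧ v ≠ v0 ∧ v * v0 = v0 * v ∧
      ∀ u ∈ V, u = 1 ∨ u = v0 ∨ u = v ∨ u = v * v0 := by
  classical
  obtain ⟨v, hv, hv1, hv2⟩ : ∃ v ∈ V, v ≠ 1 ∧ v ≠ v0 := by
    by_contra hcon
    push Not at hcon
    have hsub : (V : Set G) ⊆ ({1, v0} : Set G) := by
      intro v hv
      by_cases h : v = 1
      · exact Or.inl h
      · exact Or.inr (hcon v hv h)
    have h2 := Set.ncard_le_ncard hsub (Set.toFinite _)
    have h3 : (V : Set G).ncard = Nat.card V := rfl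
    have h4 := Set.ncard_insert_le (1 : G) {v0}
    rw [Set.ncard_singleton] at h4
    omega
  have hinv : ∀ x ∈ V, x⁻¹ = x := fun x hx => inv_of_sq (vsq x hx)
  have hcomm : v * v0 = v0 * v := by
    have h1 := hinv _ (V.mul_mem hv hv0)
    rw [mul_inv_rev, hinv v hv, hinv v0 hv0] at h1
    exact h1.symm
  refine ⟨v, hv, hv1, hv2, hcomm, ?_⟩
  have hsub : ({1, v0, v, v * v0} : Set G) ⊆ (V : Set G) := by
    rintro x (rfl | rfl | rfl | rfl)
    · exact V.one_mem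
    · exact hv0
    · exact hv
    · exact V.mul_mem hv hv0
  have hc : ({1, v0, v, v * v0} : Set G).ncard = 4 := by
    rw [Set.ncard_insert_of_notMem, Set.ncard_insert_of_notMem, Set.ncard_insert_of_notMem,
      Set.ncard_singleton]
    · simp only [Set.mem_singleton_iff]
      intro h
      apply h0
      have : v * 1 = v * v0 := by rw [mul_one]; exact h
      exact (mul_left_cancel this).symm
    · simp only [Set.mem_insert_iff, Set.mem_singleton_iff, not_or]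
      refine ⟨fun h => hv2 h.symm, fun h => hv1 ?_⟩
      have : 1 * v0 = v * v0 := by rw [one_mul]; exact h
      exact (mul_right_cancel this).symm
    · simp only [Set.mem_insert_iff, Set.mem_singleton_iff, not_or]
      refine ⟨fun h => h0 h.symm, fun h => hv1 h.symm, fun h => hv2 ?_⟩
      rw [← hinv v0 hv0]
      exact eq_inv_of_mul_eq_one_left h.symm
  have heq : ({1, v0, v, v * v0} : Set G) = (V : Set G) :=
    Set.eq_of_subset_of_ncard_le hsub (by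
      rw [hc]
      have h3 : (V : Set G).ncard = Nat.card V := rfl
      omega) (Set.toFinite _)
  intro u hu
  have h1 : u ∈ ({1, v0, v, v * v0} : Set G) := by rw [heq]; exact hu
  simpa using h1

end Four

namespace Pos

variable {G : Type*} [Group G] [Finite G] {t : G} {V Q S : Subgroup G}

theorem S2 (H : Pos t V Q S) : IsPGroup 2 S := H.Syl.1

theorem St (H : Pos t V Q S) {s : G} (hs : s ∈ S) : s * t = t * s :=
  mem_centralizer_singleton_iff.1 (H.Syl.2.1 hs)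

theorem tn (H : Pos t V Q S) : ∀ q ∈ Q, t * q * t⁻¹ ∈ Q := H.SQ t H.tS

theorem WS (H : Pos t V Q S) : H.L.W ≤ S := by
  rintro x (h | h)
  · exact H.VS h
  · have h1 := S.mul_mem H.tS (H.VS h)
    rwa [← mul_assoc, H.L.t2, one_mul] at h1

theorem fixQ (H : Pos t V Q S) {q : G} (hq : q ∈ Q) (h : q * t = t * q) : q ∈ V := by
  obtain ⟨k, hk⟩ := H.Q2 ⟨q, hq⟩
  rcases H.L.cen q h (H.QV q hq) ⟨k, by simpa using congrArg Subtype.val hk⟩ with h1 | h1
  · exact h1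
  · exfalso
    apply H.tQ
    have h2 := Q.mul_mem (H.VQ h1) (Q.inv_mem hq)
    rwa [mul_inv_cancel_right] at h2

/-- elements of `S` centralising `V` are in `W` -/
theorem cenS (H : Pos t V Q S) {s : G} (hs : s ∈ S) (h : ∀ v ∈ V, s * v = v * s) : s ∈ H.L.W := by
  obtain ⟨k, hk⟩ := H.S2 ⟨s, hs⟩
  exact H.L.cen s (H.St hs) h ⟨k, by simpa using congrArg Subtype.val hk⟩

theorem exists_v0 (H : Pos t V Q S) : ∃ v0 ∈ V, v0 ≠ 1 ∧ ∀ s ∈ S, s * v0 = v0 * s := by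
  haveI : Fact (Nat.Prime 2) := ⟨Nat.prime_two⟩
  haveI : (V.subgroupOf S).Normal := by
    constructor
    intro n hn g
    rw [mem_subgroupOf] at hn ⊢
    exact H.SV g g.2 n hn
  have hne : V.subgroupOf S ≠ ⊥ := by
    intro h
    have h1 : Nat.card (V.subgroupOf S) = Nat.card V :=
      Nat.card_congr (subgroupOfEquivOfLe H.VS).toEquiv
    rw [h, card_bot, H.L.V4] at h1
    omega
  obtain ⟨z, hz, hzc, hz2⟩ := Involutions.NormalFour.exists_mem_center_of_normal H.S2 _ hne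
  refine ⟨z, mem_subgroupOf.1 hz, ?_, ?_⟩
  · intro h
    have : z = 1 := Subtype.ext h
    rw [this, orderOf_one] at hz2
    omega
  · intro s hs
    have := (mem_center_iff.1 hzc) ⟨s, hs⟩
    exact congrArg Subtype.val this

/-- an element of `S` outside `W` maps `v` to `v v₀`. -/
theorem swap (H : Pos t V Q S) {v0 : G} (hv0 : v0 ∈ V) (h0 : v0 ≠ 1)
    (hc : ∀ s ∈ S, s * v0 = v0 * s) {s : G} (hs : s ∈ S) (hsW : s ∉ H.L.W) {v : G} (hv : v ∈ V)
    (hv1 : v ≠ 1) (hvv0 : v ≠ v0) : s * v * s⁻¹ = v * v0 := by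
  obtain ⟨u, hu, hu1, hu2, hu3, hu4⟩ := four_elts H.L.V4 H.L.vsq hv0 h0
  have hs0 : s * v0 * s⁻¹ = v0 := by rw [hc s hs]; group
  have hne1 : ∀ x, x ≠ 1 → s * x * s⁻¹ ≠ 1 := fun x hx e => hx (by
    have := congrArg (fun z => s⁻¹ * z * s) e
    simpa [mul_assoc] using this)
  have hne0 : ∀ x, x ≠ v0 → s * x * s⁻¹ ≠ v0 := fun x hx e => hx (by
    have h5 : s * x * s⁻¹ = s * v0 * s⁻¹ := by rw [e, hs0]
    have := congrArg (fun z => s⁻¹ * z * s) h5
    simpa [mul_assoc] using this)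
  have key : s * u * s⁻¹ ≠ u := by
    intro e
    apply hsW
    apply H.cenS hs
    have e1 : s * u = u * s := by
      have := congrArg (fun z => z * s) e
      simpa [mul_assoc] using this
    intro w hw
    rcases hu4 w hw with rfl | rfl | rfl | rfl
    · simp
    · exact hc s hs
    · exact e1
    · rw [← mul_assoc, e1, mul_assoc, hc s hs, mul_assoc]
  have hsu : s * u * s⁻¹ = u * v0 := by
    rcases hu4 _ (H.SV s hs u hu) with h | h | h | h
    · exact absurd h (hne1 u hu1)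
    · exact absurd h (hne0 u hu2)
    · exact absurd h key
    · exact h
  rcases hu4 v hv with rfl | rfl | rfl | rfl
  · exact absurd rfl hv1
  · exact absurd rfl hvv0
  · exact hsu
  · have e : s * (u * v0) * s⁻¹ = (s * u * s⁻¹) * (s * v0 * s⁻¹) := by group
    rw [e, hsu, hs0]

/-- two elements of `S` outside `W` differ by an element of `W` -/
theorem mul_mem_W (H : Pos t V Q S) {x y : G} (hx : x ∈ S) (hy : y ∈ S) (hxW : x ∉ H.L.W)
    (hyW : y ∉ H.L.W) : x⁻¹ * y ∈ H.L.W := by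
  obtain ⟨v0, hv0, h0, hc⟩ := H.exists_v0
  refine H.cenS (S.mul_mem (S.inv_mem hx) hy) ?_
  intro v hv
  by_cases hv1 : v = 1
  · rw [hv1]; simp
  by_cases hvv0 : v = v0
  · rw [hvv0]; exact hc _ (S.mul_mem (S.inv_mem hx) hy)
  have h1 := H.swap hv0 h0 hc hx hxW hv hv1 hvv0
  have h2 := H.swap hv0 h0 hc hy hyW hv hv1 hvv0
  have h3 : x⁻¹ * (v * v0) * x = v := by rw [← h1]; group
  calc x⁻¹ * y * v = x⁻¹ * (y * v * y⁻¹) * y := by group
    _ = (x⁻¹ * (v * v0) * x) * (x⁻¹ * y) := by rw [h2]; group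
    _ = v * (x⁻¹ * y) := by rw [h3]

/-- the normaliser of `V` -/
theorem nor (H : Pos t V Q S) {n : G} (hn : ∀ v ∈ V, n * v * n⁻¹ ∈ V) :
    ∃ c, c * t = t * c ∧ (∀ u ∈ V, c * u * c⁻¹ ∈ V) ∧ ∀ v ∈ V, c * v * c⁻¹ = n * v * n⁻¹ := by
  obtain ⟨v0, hv0, h0, hc⟩ := H.exists_v0
  obtain ⟨s, hs, w, hw, hsw⟩ := H.out
  have hsW : s ∉ H.L.W := fun h => hsw (H.L.W_V h hw)
  have hne : n * v0 * n⁻¹ ≠ 1 := fun e => h0 (by
    have := congrArg (fun z => n⁻¹ * z * n) e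
    simpa [mul_assoc] using this)
  obtain ⟨c1, hc1t, hc1, hc1V⟩ := H.tr v0 hv0 h0 _ (hn v0 hv0) hne
  obtain ⟨u, hu, hu1, hu2, hu3, hu4⟩ := four_elts H.L.V4 H.L.vsq hv0 h0
  -- `m = c1⁻¹ n` fixes `v0`
  set m := c1⁻¹ * n with hm
  have hnm : n = c1 * m := by rw [hm]; group
  have hm0 : m * v0 * m⁻¹ = v0 := by
    have : m * v0 * m⁻¹ = c1⁻¹ * (n * v0 * n⁻¹) * c1 := by rw [hm]; group
    rw [this, ← hc1]; group
  have hinv1 : ∀ x ∈ V, c1⁻¹ * x * c1 ∈ V := by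
    have hN : c1 ∈ normalizer (V : Set G) := Fld.conj_mem_norm hc1V
    intro x hx
    have := (mem_normalizer_iff.1 ((normalizer (V : Set G)).inv_mem hN) x).1 hx
    rwa [inv_inv] at this
  have hmV : m * u * m⁻¹ ∈ V := by
    have : m * u * m⁻¹ = c1⁻¹ * (n * u * n⁻¹) * c1 := by rw [hm]; group
    rw [this]; exact hinv1 _ (hn u hu)
  have hred : ∀ k : G, (∀ v ∈ V, k * v * k⁻¹ = m * v * m⁻¹) →
      ∀ v ∈ V, (c1 * k) * v * (c1 * k)⁻¹ = n * v * n⁻¹ := by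
    intro k hk v hv
    have e1 : (c1 * k) * v * (c1 * k)⁻¹ = c1 * (k * v * k⁻¹) * c1⁻¹ := by group
    rw [e1, hk v hv, hnm]; group
  have hext : ∀ k : G, k * v0 * k⁻¹ = v0 → k * u * k⁻¹ = m * u * m⁻¹ →
      ∀ v ∈ V, k * v * k⁻¹ = m * v * m⁻¹ := by
    intro k hk0 hku v hv
    rcases hu4 v hv with rfl | rfl | rfl | rfl
    · simp
    · rw [hk0, hm0]
    · exact hku
    · have e1 : k * (u * v0) * k⁻¹ = (k * u * k⁻¹) * (k * v0 * k⁻¹) := by group
      have e2 : m * (u * v0) * m⁻¹ = (m * u * m⁻¹) * (m * v0 * m⁻¹) := by group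
      rw [e1, e2, hk0, hm0, hku]
  rcases hu4 _ hmV with h | h | h | h
  · exfalso; apply hu1
    have := congrArg (fun z => m⁻¹ * z * m) h
    simpa [mul_assoc] using this
  · exfalso; apply hu2
    have h5 : m * u * m⁻¹ = m * v0 * m⁻¹ := by rw [h, hm0]
    have := congrArg (fun z => m⁻¹ * z * m) h5
    simpa [mul_assoc] using this
  · refine ⟨c1 * 1, by rw [mul_one]; exact hc1t, by rw [mul_one]; exact hc1V,
      hred 1 (hext 1 (by group) ?_)⟩
    rw [h]; group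
  · refine ⟨c1 * s, ?_, ?_, hred s (hext s ?_ ?_)⟩
    · rw [mul_assoc, H.St hs, ← mul_assoc, hc1t, mul_assoc]
    · intro v hv
      have e1 : (c1 * s) * v * (c1 * s)⁻¹ = c1 * (s * v * s⁻¹) * c1⁻¹ := by group
      rw [e1]; exact hc1V _ (H.SV s hs v hv)
    · rw [hc s hs]; group
    · rw [h]; exact H.swap hv0 h0 hc hs hsW hu hu1 hu2

/-- a conjugate of `t` under `N(V)` is a conjugate under `C(V)` -/
theorem conj_of_nor (H : Pos t V Q S) {n : G} (hn : ∀ v ∈ V, n * v * n⁻¹ ∈ V) :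
    ∃ y, (∀ v ∈ V, y * v = v * y) ∧ n * t * n⁻¹ = y * t * y⁻¹ := by
  obtain ⟨c, hct, hcV, hc⟩ := H.nor hn
  -- `n = y c` with `y = n c⁻¹`
  refine ⟨n * c⁻¹, ?_, ?_⟩
  · intro v hv
    have hN : c ∈ normalizer (V : Set G) := Fld.conj_mem_norm hcV
    have h1 : c⁻¹ * v * c ∈ V := by
      have := (mem_normalizer_iff.1 ((normalizer (V : Set G)).inv_mem hN) v).1 hv
      rwa [inv_inv] at this
    have h2 := hc _ h1
    have h3 : c * (c⁻¹ * v * c) * c⁻¹ = v := by group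
    rw [h3] at h2
    calc n * c⁻¹ * v = (n * (c⁻¹ * v * c) * n⁻¹) * (n * c⁻¹) := by group
      _ = v * (n * c⁻¹) := by rw [← h2]
  · have h1 : c⁻¹ * t * c = t := by
      rw [mul_assoc, ← hct]; group
    have e : n * c⁻¹ * t * (n * c⁻¹)⁻¹ = n * (c⁻¹ * t * c) * n⁻¹ := by group
    rw [e, h1]

/-- conjugating a 2-subgroup of the centraliser of a conjugate of `t` into `S`. -/
theorem into_S (H : Pos t V Q S) {g x : G} (hx : g * t * g⁻¹ = x) {F : Subgroup G}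
    (hF : IsPGroup 2 F) (hFx : ∀ f ∈ F, f * x = x * f) :
    ∃ h, h * x * h⁻¹ = t ∧ ∀ f ∈ F, h * f * h⁻¹ ∈ S := by
  have h1 : IsPGroup 2 (F.map (MulAut.conj g⁻¹).toMonoidHom) := hF.map _
  have h2 : F.map (MulAut.conj g⁻¹).toMonoidHom ≤ centralizer {t} := by
    rintro _ ⟨f, hf, rfl⟩
    rw [mem_centralizer_singleton_iff]
    show (MulAut.conj g⁻¹) f * t = t * (MulAut.conj g⁻¹) f
    rw [MulAut.conj_apply]
    have h3 := hFx f hf
    rw [← hx] at h3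
    calc g⁻¹ * f * g⁻¹⁻¹ * t = g⁻¹ * (f * (g * t * g⁻¹)) * g := by group
      _ = g⁻¹ * (g * t * g⁻¹ * f) * g := by rw [h3]
      _ = t * (g⁻¹ * f * g⁻¹⁻¹) := by group
  obtain ⟨c, hc, hcF⟩ := H.Syl.conj h1 h2
  refine ⟨c * g⁻¹, ?_, ?_⟩
  · have e : c * g⁻¹ * x * (c * g⁻¹)⁻¹ = c * t * c⁻¹ := by rw [← hx]; group
    rw [e, mem_centralizer_singleton_iff.1 hc]; group
  · intro f hf
    have := hcF _ ⟨f, hf, rfl⟩
    have e : c * g⁻¹ * f * (c * g⁻¹)⁻¹ = c * ((MulAut.conj g⁻¹).toMonoidHom f) * c⁻¹ := by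
      show _ = c * (MulAut.conj g⁻¹ f) * c⁻¹
      rw [MulAut.conj_apply]; group
    rw [e]; exact this

end Pos

end Cfsg.Agent.StdL2.SFive
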