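import Cfsg.Agent.StdL2.SFive.Pos

/-!
# S1773, `q = 4`: fusion in `W = ⟨t⟩V`
-/

set_option autoImplicit false
set_option linter.unusedSectionVars false
set_option linter.style.haveILetI false

open Subgroup

namespace Cfsg.Agent.StdL2.SFive

open Cfsg.Agent.StdL2.FieldStart

namespace Pos

variable {G : Type*} [Group G] [Finite G] {t : G} {V Q S : Subgroup G}

theorem fld (H : Pos t V Q S) : Fld t V (zpowers t) S where
  t2 := H.L.t2
  t1 := H.L.t1
  tR := mem_zpowers t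
  Rcyc := inferInstance
  RT := by rw [zpowers_le]; exact H.tS
  VT := H.VS
  vsq := H.L.vsq
  rv := by
    intro r hr v hv
    obtain ⟨n, rfl⟩ := mem_zpowers_iff.1 hr
    have : Commute t v := (H.L.vt v hv).symm
    exact this.zpow_left n
  disj := by
    intro x hx hxV
    obtain ⟨n, rfl⟩ := mem_zpowers_iff.1 hx
    rcases Int.even_or_odd' n with ⟨k, rfl | rfl⟩
    · rw [zpow_mul]
      have : t ^ (2 : ℤ) = 1 := by
        rw [show (2 : ℤ) = ((2 : ℕ) : ℤ) from rfl, zpow_natCast, pow_two, H.L.t2]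
      rw [this, one_zpow]
    · exfalso
      apply H.L.tV
      have h2 : t ^ (2 : ℤ) = 1 := by
        rw [show (2 : ℤ) = ((2 : ℕ) : ℤ) from rfl, zpow_natCast, pow_two, H.L.t2]
      have : t ^ (2 * k + 1) = t := by rw [zpow_add, zpow_mul, h2, one_zpow, one_mul, zpow_one]
      rwa [this] at hxV
  T2 := H.S2
  Tt := fun x hx => H.St hx
  Tmax := by
    intro P hP hSP hPt
    exact H.Syl.2.2 P hP hSP (fun x hx => mem_centralizer_singleton_iff.2 (hPt x hx))
  Vn := H.SV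
  cent := by
    intro x hx hxV
    rcases H.cenS hx hxV with h | h
    · exact ⟨1, one_mem _, x, h, by rw [one_mul]⟩
    · exact ⟨t, mem_zpowers t, t * x, h, by rw [← mul_assoc, H.L.t2, one_mul]⟩
  uniq := by
    intro x hx y hy _ _ hxV hyV v hv
    have hxW : x ∉ H.L.W := fun h => by
      obtain ⟨u, hu, hne⟩ := hxV
      exact hne (H.L.W_V h hu)
    have hyW : y ∉ H.L.W := fun h => by
      obtain ⟨u, hu, hne⟩ := hyV
      exact hne (H.L.W_V h hu)
    exact H.L.W_V (H.mul_mem_W hx hy hxW hyW) hv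
  fix := by
    intro x hx hxV _
    have hxW : x ∉ H.L.W := fun h => by
      obtain ⟨u, hu, hne⟩ := hxV
      exact hne (H.L.W_V h hu)
    obtain ⟨v0, hv0, h0, hc⟩ := H.exists_v0
    have h1 : (V ⊓ centralizer {x} : Subgroup G) = zpowers v0 := by
      refine le_antisymm ?_ ?_
      · intro u hu
        obtain ⟨huV, hux⟩ := mem_inf.1 hu
        rw [mem_centralizer_singleton_iff] at hux
        by_cases hu1 : u = 1
        · rw [hu1]; exact one_mem _
        by_cases hu0 : u = v0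
        · rw [hu0]; exact mem_zpowers v0
        have h2 := H.swap hv0 h0 hc hx hxW huV hu1 hu0
        exfalso
        apply h0
        have h3 : x * u * x⁻¹ = u := by rw [← hux]; group
        rw [h3] at h2
        have : u * 1 = u * v0 := by rw [mul_one]; exact h2
        exact (mul_left_cancel this).symm
      · rw [zpowers_le]
        exact mem_inf.2 ⟨hv0, mem_centralizer_singleton_iff.2 (hc x hx).symm⟩
    rw [h1, Nat.card_zpowers, H.L.V4]
    have : orderOf v0 = 2 := orderOf_eq_prime (by rw [pow_two]; exact H.L.vsq v0 hv0) h0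
    rw [this]; norm_num

theorem E_eq (H : Pos t V Q S) : H.fld.E = H.L.W := by
  ext x
  exact Iff.rfl

theorem trF (H : Pos t V Q S) : Fld.Tr H.fld where
  tr := by
    intro v hv hv1 w hw hw1
    obtain ⟨c, h1, h2, h3⟩ := H.tr v hv hv1 w hw hw1
    exact ⟨c, h1, h2, h3⟩
  vn := by
    intro n hn hE v hv
    exact H.vcl n hn v hv (H.WS (hE v (Or.inl hv)))

/-- the data for `class_eq4` -/
theorem move_data (H : Pos t V Q S) : ∃ w ∈ S, ∃ v0 ∈ V, w * v0 ≠ v0 * w ∧
    (w * w) * v0 = v0 * (w * w) := by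
  obtain ⟨s, hs, w, hw, hsw⟩ := H.out
  have hsW : s ∉ H.L.W := fun h => hsw (H.L.W_V h hw)
  refine ⟨s, hs, w, hw, hsw, ?_⟩
  have hW : s⁻¹ ∉ H.L.W := fun h => hsW (by have := H.L.W.inv_mem h; rwa [inv_inv] at this)
  have h1 := H.mul_mem_W (S.inv_mem hs) hs hW hsW
  rw [inv_inv] at h1
  exact H.L.W_V h1 hw

/-- `t` is not fused into `V` by `N(W)` -/
theorem norm_W (H : Pos t V Q S) {n : G} (hn : n ∈ normalizer (H.L.W : Set G)) :
    n * t * n⁻¹ ∉ V := by
  by_cases hmove : ∃ n ∈ normalizer (H.fld.E : Set G), n * t * n⁻¹ ≠ t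
  · obtain ⟨w, hw, v0, hv0, h1, h2⟩ := H.move_data
    exact (Fld.class_eq4 H.trF (by rw [H.L.V4]) hw hv0 h1 h2 hmove).1 n hn
  · push Not at hmove
    rw [hmove n hn]
    exact H.L.tV

/-- `N(W) ≤ N(V)` -/
theorem norm_V (H : Pos t V Q S) {n : G} (hn : n ∈ normalizer (H.L.W : Set G)) {v : G}
    (hv : v ∈ V) : n * v * n⁻¹ ∈ V := by
  by_cases hmove : ∃ n ∈ normalizer (H.fld.E : Set G), n * t * n⁻¹ ≠ t
  · obtain ⟨w, hw, v0, hv0, h1, h2⟩ := H.move_data
    have h3 := (Fld.class_eq4 H.trF (by rw [H.L.V4]) hw hv0 h1 h2 hmove).2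
    have h4 : n * v * n⁻¹ ∈ H.L.W := (mem_normalizer_iff.1 hn v).1 (Or.inl hv)
    rcases h4 with h4 | h4
    · exact h4
    · exfalso
      obtain ⟨m, hm, hmt⟩ := h3 _ h4
      have h5 : n * v * n⁻¹ = m * t * m⁻¹ := by
        rw [hmt, ← mul_assoc, H.L.t2, one_mul]
      have h6 : (n⁻¹ * m) * t * (n⁻¹ * m)⁻¹ = v := by
        have : (n⁻¹ * m) * t * (n⁻¹ * m)⁻¹ = n⁻¹ * (m * t * m⁻¹) * n := by group
        rw [this, ← h5]; group
      exact H.norm_W ((normalizer _).mul_mem ((normalizer _).inv_mem hn) hm) (h6 ▸ hv)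
  · push Not at hmove
    have h1 := hmove n hn
    have h2 : n * t = t * n := by
      have := congrArg (fun z => z * n) h1
      simpa [mul_assoc] using this
    exact H.vcl n h2 v hv (H.WS ((mem_normalizer_iff.1 hn v).1 (Or.inl hv)))

/-- conjugates of `t` under `N(W)` -/
theorem conj_W (H : Pos t V Q S) {n : G} (hn : n ∈ normalizer (H.L.W : Set G)) :
    ∃ q ∈ Q, n * t * n⁻¹ = q * t * q⁻¹ := by
  obtain ⟨y, hy, hyt⟩ := H.conj_of_nor (fun v hv => H.norm_V hn hv)
  have h1 : n * t * n⁻¹ ∈ H.L.W := (mem_normalizer_iff.1 hn t).1 H.L.tW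
  rw [hyt] at h1 ⊢
  exact H.cls y hy (h1.imp (fun h => H.VQ h) (fun h => H.VQ h))

/-- for `Q = V` the group `N(W)` centralises `t` -/
theorem fix_of_eq (H : Pos t V V S) {n : G} (hn : n ∈ normalizer (H.L.W : Set G)) :
    n * t * n⁻¹ = t := by
  obtain ⟨q, hq, h⟩ := H.conj_W hn
  rw [h, H.L.vt q hq]; group

/-- `Q ≠ V`: all elements of `tV` are conjugate to `t` under `C(V)` -/
theorem conj_tV (H : Pos t V Q S) (hne : Q ≠ V) {v : G} (hv : v ∈ V) :
    ∃ y, (∀ u ∈ V, y * u = u * y) ∧ y * t * y⁻¹ = t * v := by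
  by_cases hv1 : v = 1
  · exact ⟨1, fun u _ => by rw [one_mul, mul_one], by rw [hv1]; group⟩
  -- an element of `Q - V` normalising `W`
  set P := dbl t Q H.L.t2 H.tn with hP
  have hP2 : IsPGroup 2 P := isPGroup_dbl _ _ H.Q2
  have hWP : H.L.W ≤ P := by
    rintro x (h | h)
    · exact Or.inl (H.VQ h)
    · exact Or.inr (H.VQ h)
  have hlt : H.L.W < P := by
    refine lt_of_le_of_ne hWP ?_
    intro e
    apply hne
    refine le_antisymm ?_ H.VQ
    intro q hq
    have h1 : q ∈ H.L.W := by rw [e]; exact Or.inl hq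
    rcases h1 with h1 | h1
    · exact h1
    · exfalso
      apply H.tQ
      have h2 := Q.mul_mem (H.VQ h1) (Q.inv_mem hq)
      rwa [mul_inv_cancel_right] at h2
  obtain ⟨n, hn, hnW, hnN⟩ := exists_normalizer_gt hP2 hlt
  -- replace `n` by an element of `Q`
  obtain ⟨q, hq, hqW, hqN⟩ : ∃ q ∈ Q, q ∉ H.L.W ∧ q ∈ normalizer (H.L.W : Set G) := by
    rcases hn with h | h
    · exact ⟨n, h, hnW, hnN⟩
    · have htN : t ∈ normalizer (H.L.W : Set G) := le_normalizer H.L.tW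
      refine ⟨t * n, h, ?_, (normalizer _).mul_mem htN hnN⟩
      intro h1
      apply hnW
      have h2 := H.L.W.mul_mem H.L.tW h1
      rwa [← mul_assoc, H.L.t2, one_mul] at h2
  have hqt : q * t * q⁻¹ ∈ H.L.W := (mem_normalizer_iff.1 hqN t).1 H.L.tW
  -- it is in `tV`
  have h1 : t * (q * t * q⁻¹) ∈ Q := by
    have h2 := Q.mul_mem (H.tn q hq) (Q.inv_mem hq)
    have e : t * q * t⁻¹ * q⁻¹ = t * (q * t * q⁻¹) := by rw [H.L.tinv]; group
    rwa [e] at h2
  have h2 : t * (q * t * q⁻¹) ∈ V := by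
    have h3 : t * (q * t * q⁻¹) ∈ H.L.W := H.L.W.mul_mem H.L.tW hqt
    exact H.fixQ h1 (H.L.W_t h3)
  have h3 : t * (q * t * q⁻¹) ≠ 1 := by
    intro e
    apply hqW
    left
    apply H.fixQ hq
    have h4 : q * t * q⁻¹ = t⁻¹ := eq_inv_of_mul_eq_one_right e
    rw [H.L.tinv] at h4
    have := congrArg (fun z => z * q) h4
    simpa [mul_assoc] using this
  obtain ⟨c, hct, hc, hcV⟩ := H.tr _ h2 h3 v hv hv1
  refine ⟨c * q * c⁻¹, ?_, ?_⟩
  · intro u hu
    have hN : c ∈ normalizer (V : Set G) := Fld.conj_mem_norm hcV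
    have h5 : c⁻¹ * u * c ∈ V := by
      have := (mem_normalizer_iff.1 ((normalizer (V : Set G)).inv_mem hN) u).1 hu
      rwa [inv_inv] at this
    have h6 := H.QV q hq _ h5
    calc c * q * c⁻¹ * u = c * (q * (c⁻¹ * u * c)) * c⁻¹ := by group
      _ = u * (c * q * c⁻¹) := by rw [h6]; group
  · have h7 : c⁻¹ * t * c = t := by rw [mul_assoc, ← hct]; group
    have h8 : c * t * c⁻¹ = t := by rw [hct]; group
    have e1 : c * q * c⁻¹ * t * (c * q * c⁻¹)⁻¹ = c * (q * (c⁻¹ * t * c) * q⁻¹) * c⁻¹ := by group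
    have e2 : c * (t * (q * t * q⁻¹)) * c⁻¹ = (c * t * c⁻¹) * (c * (q * t * q⁻¹) * c⁻¹) := by
      group
    rw [e2, h8] at hc
    rw [e1, h7, ← hc, ← mul_assoc t t, H.L.t2, one_mul]

end Pos

end Cfsg.Agent.StdL2.SFive
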