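import Cfsg.Agent.StdL2.SFive.LeafHigh
import Cfsg.Agent.StdL2.SFive.Four
import Cfsg.Agent.StdL2.SFive.Grow

/-!
# S1773, `q = 4`: the subgroup `U` of order 16 of `Q`
-/

set_option autoImplicit false
set_option linter.unusedSectionVars false
set_option linter.style.haveILetI false

open Subgroup

namespace Cfsg.Agent.StdL2.SFive

open Cfsg.Agent.StdL2.FieldStart

variable {G : Type*} [Group G] [Finite G] {t d : G} {V Q : Subgroup G}

/-- the elements of `Q` central modulo `V` in `P` -/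
def QU (L : Loc t V) (S : Stg t V Q) : Subgroup G where
  carrier := {q | q ∈ Q ∧ ∀ p ∈ S.P L, p * q * p⁻¹ * q⁻¹ ∈ V}
  one_mem' := ⟨Q.one_mem, fun p _ => by
    have : p * 1 * p⁻¹ * (1 : G)⁻¹ = 1 := by group
    rw [this]; exact V.one_mem⟩
  mul_mem' := by
    rintro a b ⟨ha, ha'⟩ ⟨hb, hb'⟩
    refine ⟨Q.mul_mem ha hb, fun p hp => ?_⟩
    have h1 := S.PV L a (S.QP L ha) _ (hb' p hp)
    have e : p * (a * b) * p⁻¹ * (a * b)⁻¹ = (p * a * p⁻¹ * a⁻¹) * (p * b * p⁻¹ * b⁻¹) := by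
      calc p * (a * b) * p⁻¹ * (a * b)⁻¹
          = (p * a * p⁻¹) * (p * b * p⁻¹ * b⁻¹) * a⁻¹ := by group
        _ = (p * a * p⁻¹ * a⁻¹) * (a * (p * b * p⁻¹ * b⁻¹)) * a⁻¹ := by group
        _ = (p * a * p⁻¹ * a⁻¹) * (p * b * p⁻¹ * b⁻¹) := by rw [h1]; group
    rw [e]
    exact V.mul_mem (ha' p hp) (hb' p hp)
  inv_mem' := by
    rintro a ⟨ha, ha'⟩
    refine ⟨Q.inv_mem ha, fun p hp => ?_⟩
    have h1 := S.PV L a (S.QP L ha) _ (ha' p hp)
    have e : p * a⁻¹ * p⁻¹ * a⁻¹⁻¹ = (p * a * p⁻¹ * a⁻¹)⁻¹ := by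
      calc p * a⁻¹ * p⁻¹ * a⁻¹⁻¹ = (p * a * p⁻¹ * a⁻¹ * a)⁻¹ * a := by group
        _ = (a * (p * a * p⁻¹ * a⁻¹))⁻¹ * a := by rw [h1]
        _ = (p * a * p⁻¹ * a⁻¹)⁻¹ := by group
    change p * a⁻¹ * p⁻¹ * a⁻¹⁻¹ ∈ V
    rw [e]
    exact V.inv_mem (ha' p hp)

namespace QU

variable {L : Loc t V} {S : Stg t V Q}

theorem mem {q : G} : q ∈ QU L S ↔ q ∈ Q ∧ ∀ p ∈ S.P L, p * q * p⁻¹ * q⁻¹ ∈ V := Iff.rfl

theorem le : QU L S ≤ Q := fun _ h => h.1

theorem V_le : V ≤ QU L S := by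
  intro v hv
  refine ⟨S.VQ hv, fun p hp => ?_⟩
  have h1 := S.PV L p hp v hv
  rw [h1]
  have : v * p * p⁻¹ * v⁻¹ = 1 := by group
  rw [this]; exact V.one_mem

theorem dmem (D : Tri t V Q d) {q : G} (hq : q ∈ QU L S) : d * q * d⁻¹ ∈ QU L S := by
  refine ⟨D.dQ q hq.1, fun p hp => ?_⟩
  have h1 : d⁻¹ * p * d ∈ S.P L := conj_surj (D.dP L S) p hp
  have h2 := D.dV _ (hq.2 _ h1)
  have e : d * (d⁻¹ * p * d * q * (d⁻¹ * p * d)⁻¹ * q⁻¹) * d⁻¹ =
      p * (d * q * d⁻¹) * p⁻¹ * (d * q * d⁻¹)⁻¹ := by group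
  rwa [e] at h2

/-- `U > V` if `Q > V` -/
theorem exists_gt (L : Loc t V) (S : Stg t V Q) (hne : Q ≠ V) : ∃ q ∈ QU L S, q ∉ V := by
  haveI : Fact (Nat.Prime 2) := ⟨Nat.prime_two⟩
  set P := S.P L with hP
  have hVP : V ≤ P := le_trans S.VQ (S.QP L)
  haveI hN : (V.subgroupOf P).Normal := by
    constructor
    intro n hn g
    rw [mem_subgroupOf] at hn ⊢
    have h1 := S.PV L g g.2 n hn
    have : ((g * n * g⁻¹ : P) : G) = n := by
      change (g : G) * n * (g : G)⁻¹ = n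
      rw [h1, mul_inv_cancel_right]
    rw [this]; exact hn
  haveI hQ : (Q.subgroupOf P).Normal := by
    constructor
    intro n hn g
    rw [mem_subgroupOf] at hn ⊢
    change (g : G) * n * (g : G)⁻¹ ∈ Q
    rcases g.2 with hg | hg
    · exact Q.mul_mem (Q.mul_mem hg hn) (Q.inv_mem hg)
    · have h1 : (g : G) = t * (t * g) := by rw [← mul_assoc, L.t2, one_mul]
      have h2 := S.tn _ (Q.mul_mem (Q.mul_mem hg hn) (Q.inv_mem hg))
      have e : t * (t * (g : G) * n * (t * g)⁻¹) * t⁻¹ = t * (t * g) * n * (t * (t * g))⁻¹ := by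
        group
      rw [e, ← h1] at h2
      exact h2
  have hX : IsPGroup 2 (P ⧸ V.subgroupOf P) := (S.P2 L).to_quotient _
  haveI hM : ((Q.subgroupOf P).map (QuotientGroup.mk' (V.subgroupOf P))).Normal :=
    hQ.map _ (QuotientGroup.mk'_surjective _)
  have hMne : (Q.subgroupOf P).map (QuotientGroup.mk' (V.subgroupOf P)) ≠ ⊥ := by
    intro h
    apply hne
    refine le_antisymm ?_ S.VQ
    intro q hq
    have h1 : QuotientGroup.mk' (V.subgroupOf P) ⟨q, S.QP L hq⟩ ∈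
        (Q.subgroupOf P).map (QuotientGroup.mk' (V.subgroupOf P)) :=
      ⟨⟨q, S.QP L hq⟩, hq, rfl⟩
    rw [h, mem_bot] at h1
    have h2 := (QuotientGroup.eq_one_iff _).1 h1
    exact h2
  obtain ⟨z, ⟨⟨q, hqP⟩, hqQ, rfl⟩, hzc, hz2⟩ :=
    Involutions.NormalFour.exists_mem_center_of_normal hX _ hMne
  have hqQ' : q ∈ Q := hqQ
  refine ⟨q, ⟨hqQ', fun p hp => ?_⟩, ?_⟩
  · have h1 := mem_center_iff.1 hzc (QuotientGroup.mk' (V.subgroupOf P) ⟨p, hp⟩)
    rw [← map_mul, ← map_mul, QuotientGroup.mk'_apply, QuotientGroup.mk'_apply,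
      QuotientGroup.eq] at h1
    have h2 : (p * q)⁻¹ * (q * p) ∈ V := h1
    have h3 := V.inv_mem h2
    have h4 := S.PV L (q * p) ((S.P L).mul_mem (S.QP L hqQ') hp) _ h3
    have e : p * q * p⁻¹ * q⁻¹ = (((p * q)⁻¹ * (q * p))⁻¹) := by
      calc p * q * p⁻¹ * q⁻¹ = (q * p) * ((p * q)⁻¹ * (q * p))⁻¹ * (q * p)⁻¹ := by group
        _ = ((p * q)⁻¹ * (q * p))⁻¹ := by rw [h4]; group
    rw [e]; exact h3
  · intro hqV
    have h1 : QuotientGroup.mk' (V.subgroupOf P) ⟨q, hqP⟩ = 1 :=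
      (QuotientGroup.eq_one_iff _).2 hqV
    rw [h1, orderOf_one] at hz2
    omega

/-- the homomorphism `q ↦ [t, q]` from `U` to `V` -/
def phi (L : Loc t V) (S : Stg t V Q) : QU L S →* V where
  toFun q := ⟨t * q * t⁻¹ * (q : G)⁻¹, q.2.2 t (S.tP L)⟩
  map_one' := Subtype.ext (by
    change t * 1 * t⁻¹ * (1 : G)⁻¹ = 1
    group)
  map_mul' a b := Subtype.ext (by
    change t * ((a : G) * b) * t⁻¹ * ((a : G) * b)⁻¹ =
      (t * a * t⁻¹ * (a : G)⁻¹) * (t * b * t⁻¹ * (b : G)⁻¹)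
    have h1 := S.PV L a (S.QP L a.2.1) _ (b.2.2 t (S.tP L))
    calc t * ((a : G) * b) * t⁻¹ * ((a : G) * b)⁻¹
        = (t * a * t⁻¹) * (t * b * t⁻¹ * (b : G)⁻¹) * (a : G)⁻¹ := by group
      _ = (t * a * t⁻¹ * (a : G)⁻¹) * (a * (t * b * t⁻¹ * (b : G)⁻¹)) * (a : G)⁻¹ := by group
      _ = (t * a * t⁻¹ * (a : G)⁻¹) * (t * b * t⁻¹ * (b : G)⁻¹) := by rw [h1]; group)

theorem phi_apply (q : QU L S) : ((phi L S q : V) : G) = t * q * t⁻¹ * (q : G)⁻¹ := rfl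

theorem phi_eq_one {q : QU L S} : phi L S q = 1 ↔ (q : G) ∈ V := by
  constructor
  · intro h
    have h1 : t * q * t⁻¹ * (q : G)⁻¹ = 1 := congrArg Subtype.val h
    have h2 : t * q * t⁻¹ = q := eq_of_mul_inv_eq_one h1
    have h3 : t * q = q * t := mul_inv_eq_iff_eq_mul.1 h2
    exact S.mem_V L q.2.1 h3.symm
  · intro h
    refine Subtype.ext ?_
    rw [phi_apply, ← L.vt _ h]
    change (q : G) * t * t⁻¹ * (q : G)⁻¹ = 1
    group

theorem phi_eq {q r : QU L S} : phi L S q = phi L S r ↔ (q : G)⁻¹ * r ∈ V := by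
  rw [← inv_mul_eq_one, ← map_inv, ← map_mul, phi_eq_one]
  rfl

/-- squares of elements of `U` are in `V` -/
theorem sq_mem {q : G} (hq : q ∈ QU L S) : q * q ∈ V := by
  have h1 : phi L S (⟨q, hq⟩ * ⟨q, hq⟩) = 1 := by
    rw [map_mul]
    exact Subtype.ext (L.vsq _ (phi L S ⟨q, hq⟩).2)
  exact phi_eq_one.1 h1

theorem phi_d (D : Tri t V Q d) (q : QU L S) :
    ((phi L S ⟨d * q * d⁻¹, dmem D q.2⟩ : V) : G) = d * (phi L S q : V) * d⁻¹ := by
  rw [phi_apply, phi_apply]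
  change t * (d * (q : G) * d⁻¹) * t⁻¹ * (d * (q : G) * d⁻¹)⁻¹ =
    d * (t * q * t⁻¹ * (q : G)⁻¹) * d⁻¹
  have h1 : t * d = d * t := D.dt.symm
  have h2 : d⁻¹ * t⁻¹ = t⁻¹ * d⁻¹ := by
    rw [← mul_inv_rev, ← mul_inv_rev, h1]
  calc t * (d * (q : G) * d⁻¹) * t⁻¹ * (d * (q : G) * d⁻¹)⁻¹
      = (t * d) * q * (d⁻¹ * t⁻¹) * d * (q : G)⁻¹ * d⁻¹ := by group
    _ = (d * t) * q * (t⁻¹ * d⁻¹) * d * (q : G)⁻¹ * d⁻¹ := by rw [h1, h2]
    _ = d * (t * q * t⁻¹ * (q : G)⁻¹) * d⁻¹ := by group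

/-- the third conjugate of `v` under `d` -/
theorem third (L : Loc t V) (D : Tri t V Q d) {v : G} (hv : v ∈ V) (hv1 : v ≠ 1) :
    d * (d * v * d⁻¹) * d⁻¹ = v * (d * v * d⁻¹) := by
  have h1 := D.dV v hv
  have h2 : d * v * d⁻¹ ≠ 1 := fun e => hv1 (by
    have : v = d⁻¹ * (d * v * d⁻¹) * d := by group
    rw [this, e]; group)
  have h3 : v ≠ d * v * d⁻¹ := fun e => hv1 (D.fix v hv e.symm)
  rcases four_cases L.V4 L.vsq hv h1 hv1 h2 h3 (D.dV _ h1) with h | h | h | h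
  · exfalso
    apply h2
    have : d * v * d⁻¹ = d⁻¹ * (d * (d * v * d⁻¹) * d⁻¹) * d := by group
    rw [this, h]; group
  · exfalso
    apply hv1
    apply D.fix v hv
    apply fix_of_pow D.d3 (r := 2) (by norm_num)
    rw [pow_two]
    calc d * d * v * (d * d)⁻¹ = d * (d * v * d⁻¹) * d⁻¹ := by group
      _ = v := h
  · exfalso
    exact h3 (by
      have : v = d⁻¹ * (d * v * d⁻¹) * d := by group
      have h4 : d * v * d⁻¹ = d⁻¹ * (d * (d * v * d⁻¹) * d⁻¹) * d := by group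
      rw [h] at h4
      rw [h4]; group
      )
  · exact h

theorem card (L : Loc t V) (S : Stg t V Q) (D : Tri t V Q d) (hne : Q ≠ V) :
    Nat.card (QU L S) = 16 := by
  obtain ⟨q, hq, hqV⟩ := exists_gt L S hne
  -- the kernel
  have hker : Nat.card (phi L S).ker = 4 := by
    rw [← L.V4]
    refine Nat.card_congr ⟨fun x => ⟨((x : QU L S) : G), phi_eq_one.1 x.2⟩,
      fun v => ⟨⟨v, V_le v.2⟩, phi_eq_one.2 v.2⟩, fun x => rfl, fun v => rfl⟩
  have hrange : (phi L S).range = ⊤ := by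
    rw [eq_top_iff]
    rintro ⟨u, hu⟩ -
    set v := ((phi L S ⟨q, hq⟩ : V) : G) with hv
    have hvV : v ∈ V := (phi L S ⟨q, hq⟩).2
    have hv1 : v ≠ 1 := fun h => hqV (phi_eq_one.1 (Subtype.ext h))
    have hv' := phi_d D ⟨q, hq⟩
    have h2 : d * v * d⁻¹ ≠ 1 := fun e => hv1 (by
      have : v = d⁻¹ * (d * v * d⁻¹) * d := by group
      rw [this, e]; group)
    have h3 : v ≠ d * v * d⁻¹ := fun e => hv1 (D.fix v hvV e.symm)
    rcases four_cases L.V4 L.vsq hvV (D.dV v hvV) hv1 h2 h3 hu with h | h | h | h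
    · exact ⟨1, Subtype.ext (by rw [map_one]; exact h.symm)⟩
    · exact ⟨⟨q, hq⟩, Subtype.ext h.symm⟩
    · exact ⟨⟨d * q * d⁻¹, dmem D hq⟩, Subtype.ext (by rw [hv']; exact h.symm)⟩
    · refine ⟨⟨q, hq⟩ * ⟨d * q * d⁻¹, dmem D hq⟩, Subtype.ext ?_⟩
      rw [map_mul]
      change v * ((phi L S ⟨d * q * d⁻¹, dmem D hq⟩ : V) : G) = u
      rw [hv']
      exact h.symm
  have h1 := (phi L S).ker.card_eq_card_quotient_mul_card_subgroup
  have h2 : Nat.card (QU L S ⧸ (phi L S).ker) = Nat.card (phi L S).range :=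
    Nat.card_congr (QuotientGroup.quotientKerEquivRange (phi L S)).toEquiv
  rw [h2, hker, hrange, Subgroup.card_top, L.V4] at h1
  exact h1

/-- `U` is generated by `V` and two elements -/
theorem gen (D : Tri t V Q d) {q : G} (hq : q ∈ QU L S) (hqV : q ∉ V) {K : Subgroup G}
    (hK : V ≤ K) (hqK : q ∈ K) (hq'K : d * q * d⁻¹ ∈ K) : QU L S ≤ K := by
  intro a ha
  set v := ((phi L S ⟨q, hq⟩ : V) : G) with hv
  have hvV : v ∈ V := (phi L S ⟨q, hq⟩).2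
  have hv1 : v ≠ 1 := fun h => hqV (phi_eq_one.1 (Subtype.ext h))
  have hv' := phi_d D ⟨q, hq⟩
  have h2 : d * v * d⁻¹ ≠ 1 := fun e => hv1 (by
    have : v = d⁻¹ * (d * v * d⁻¹) * d := by group
    rw [this, e]; group)
  have h3 : v ≠ d * v * d⁻¹ := fun e => hv1 (D.fix v hvV e.symm)
  have key : ∀ r : QU L S, (r : G) ∈ K → phi L S r = phi L S ⟨a, ha⟩ → a ∈ K := by
    intro r hr h
    have h4 := phi_eq.1 h
    have h5 : a = (r : G) * ((r : G)⁻¹ * a) := by group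
    rw [h5]
    exact K.mul_mem hr (hK h4)
  rcases four_cases L.V4 L.vsq hvV (D.dV v hvV) hv1 h2 h3 (phi L S ⟨a, ha⟩).2 with h | h | h | h
  · exact hK (phi_eq_one.1 (Subtype.ext h))
  · exact key ⟨q, hq⟩ hqK (Subtype.ext h.symm)
  · exact key ⟨d * q * d⁻¹, dmem D hq⟩ hq'K (Subtype.ext (by rw [hv']; exact h.symm))
  · refine key (⟨q, hq⟩ * ⟨d * q * d⁻¹, dmem D hq⟩) (K.mul_mem hqK hq'K) (Subtype.ext ?_)
    rw [map_mul]
    change v * ((phi L S ⟨d * q * d⁻¹, dmem D hq⟩ : V) : G) = _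
    rw [hv']
    exact h.symm

theorem comm (L : Loc t V) (S : Stg t V Q) (D : Tri t V Q d) (hne : Q ≠ V) :
    ∀ a ∈ QU L S, ∀ b ∈ QU L S, a * b = b * a := by
  obtain ⟨q, hq, hqV⟩ := exists_gt L S hne
  have hVc : ∀ a ∈ QU L S, ∀ v ∈ V, a * v = v * a := fun a ha v hv => S.QV a ha.1 v hv
  set r := d * q * d⁻¹ with hr
  have hrU : r ∈ QU L S := dmem D hq
  -- the commutator of `q` and `r`
  set c := q * r * q⁻¹ * r⁻¹ with hc
  have hcV : c ∈ V := hrU.2 q (S.QP L hq.1)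
  set s := d * r * d⁻¹ with hs
  have hsU : s ∈ QU L S := dmem D hrU
  have hsq : (q * r)⁻¹ * s ∈ V := by
    have h1 : phi L S (⟨q, hq⟩ * ⟨r, hrU⟩) = phi L S ⟨s, hsU⟩ := by
      refine Subtype.ext ?_
      rw [map_mul]
      have h2 := phi_d D ⟨q, hq⟩
      have h3 := phi_d D ⟨r, hrU⟩
      change ((phi L S ⟨q, hq⟩ : V) : G) * ((phi L S ⟨r, hrU⟩ : V) : G) =
        ((phi L S ⟨s, hsU⟩ : V) : G)
      have h4 : ((phi L S ⟨r, hrU⟩ : V) : G) = d * ((phi L S ⟨q, hq⟩ : V) : G) * d⁻¹ := h2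
      have h5 : ((phi L S ⟨s, hsU⟩ : V) : G) = d * ((phi L S ⟨r, hrU⟩ : V) : G) * d⁻¹ := h3
      rw [h5, h4]
      exact (third L D (phi L S ⟨q, hq⟩).2
        (fun h => hqV (phi_eq_one.1 (Subtype.ext h)))).symm
    exact phi_eq.1 h1
  have hdc : d * c * d⁻¹ = c := by
    set v := (q * r)⁻¹ * s with hv
    have hs' : s = q * r * v := by rw [hv]; group
    have h1 : d * c * d⁻¹ = r * s * r⁻¹ * s⁻¹ := by rw [hc, hs, hr]; group
    have h2 : r * v = v * r := hVc r hrU v hsq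
    have h3 : q * v = v * q := hVc q hq v hsq
    have h4 : r * s * r⁻¹ * s⁻¹ = r * q * r⁻¹ * q⁻¹ := by
      rw [hs']
      have h5 : v * r⁻¹ = r⁻¹ * v := by
        calc v * r⁻¹ = r⁻¹ * (r * v) * r⁻¹ := by group
          _ = r⁻¹ * v := by rw [h2]; group
      calc r * (q * r * v) * r⁻¹ * (q * r * v)⁻¹ = r * q * r * (v * r⁻¹) * v⁻¹ * r⁻¹ * q⁻¹ := by group
        _ = r * q * r⁻¹ * q⁻¹ := by rw [h5]; group
    have h5 : r * q * r⁻¹ * q⁻¹ = c⁻¹ := by rw [hc]; group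
    rw [h1, h4, h5, L.vinv hcV]
  have hc1 : c = 1 := D.fix c hcV hdc
  have hqr : q * r = r * q := by
    have h1 : q * r * q⁻¹ = r := eq_of_mul_inv_eq_one hc1
    exact mul_inv_eq_iff_eq_mul.1 h1
  have h1 : QU L S ≤ centralizer ({q} : Set G) := by
    apply gen D hq hqV
    · intro v hv
      exact mem_centralizer_singleton_iff.2 (hVc q hq v hv).symm
    · exact mem_centralizer_singleton_iff.2 rfl
    · exact mem_centralizer_singleton_iff.2 hqr.symm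
  have h2 : QU L S ≤ centralizer ({r} : Set G) := by
    apply gen D hq hqV
    · intro v hv
      exact mem_centralizer_singleton_iff.2 (hVc r hrU v hv).symm
    · exact mem_centralizer_singleton_iff.2 hqr
    · exact mem_centralizer_singleton_iff.2 rfl
  intro a ha b hb
  have h3 : QU L S ≤ centralizer ({a} : Set G) := by
    apply gen D hq hqV
    · intro v hv
      exact mem_centralizer_singleton_iff.2 (hVc a ha v hv).symm
    · exact mem_centralizer_singleton_iff.2 (mem_centralizer_singleton_iff.1 (h1 ha)).symm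
    · exact mem_centralizer_singleton_iff.2 (mem_centralizer_singleton_iff.1 (h2 ha)).symm
  exact (mem_centralizer_singleton_iff.1 (h3 hb)).symm

end QU

/-- **The subgroup `Q₂`**, in the form needed by `Pos.leafHigh`. -/
theorem Pos.exists_Q2 {S : Subgroup G} (H : Pos t V Q S) (St : Stg t V Q) (D : Tri t V Q d)
    (hne : Q ≠ V) : ∃ Q2 : Subgroup G, Q2 ≤ Q ∧ V ≤ Q2 ∧ Nat.card Q2 = 16 ∧
      (∀ a ∈ Q2, ∀ b ∈ Q2, a * b = b * a) ∧ (∀ u ∈ Q2, ∀ p ∈ H.P, u * p * u⁻¹ * p⁻¹ ∈ V) := by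
  refine ⟨QU H.L St, QU.le, QU.V_le, QU.card H.L St D hne, QU.comm H.L St D hne, ?_⟩
  intro u hu p hp
  have h1 := V.inv_mem (hu.2 p hp)
  have e : u * p * u⁻¹ * p⁻¹ = (p * u * p⁻¹ * u⁻¹)⁻¹ := by group
  rw [e]
  exact h1

/-- `m = 2`: `Q` is abelian, squares are in `V`, and either `Q` is elementary or `t` inverts `Q` -/
theorem Pos.two_cases {S : Subgroup G} (H : Pos t V Q S) (St : Stg t V Q) (D : Tri t V Q d)
    (h16 : Nat.card Q = 16) : (∀ a ∈ Q, ∀ b ∈ Q, a * b = b * a) ∧ (∀ q ∈ Q, q * q ∈ V) ∧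
      ((∀ q ∈ Q, q * q = 1) ∨ ∀ q ∈ Q, t * q * t⁻¹ = q⁻¹) := by
  have L := H.L
  have hne : Q ≠ V := by
    intro h
    rw [h, L.V4] at h16
    omega
  have hU : QU L St = Q := by
    apply Subgroup.eq_of_le_of_card_ge QU.le
    rw [QU.card L St D hne, h16]
  have hcomm := QU.comm L St D hne
  have hsq : ∀ q ∈ Q, q * q ∈ V := fun q hq => QU.sq_mem (L := L) (S := St) (by rw [hU]; exact hq)
  rw [hU] at hcomm
  refine ⟨hcomm, hsq, ?_⟩
  by_cases h1 : ∀ q ∈ Q, q * q = 1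
  · exact Or.inl h1
  right
  push Not at h1
  obtain ⟨a, ha, haa⟩ := h1
  -- elements with square 1 are in `V`
  have hmul : ∀ x ∈ Q, ∀ y ∈ Q, (x * y) * (x * y) = (x * x) * (y * y) := by
    intro x hx y hy
    calc (x * y) * (x * y) = x * (y * x) * y := by group
      _ = x * (x * y) * y := by rw [hcomm y hy x hx]
      _ = (x * x) * (y * y) := by group
  have haV : a ∉ V := fun h => haa (L.vsq a h)
  have haU : a ∈ QU L St := by rw [hU]; exact ha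
  set v := a * a with hv
  have hvV : v ∈ V := hsq a ha
  have hdv : (d * a * d⁻¹) * (d * a * d⁻¹) = d * v * d⁻¹ := by rw [hv]; group
  have h2 : d * v * d⁻¹ ≠ 1 := fun e => haa (by
    have : v = d⁻¹ * (d * v * d⁻¹) * d := by group
    rw [this, e]; group)
  have h3 : v ≠ d * v * d⁻¹ := fun e => haa (D.fix v hvV e.symm)
  have haQ := D.dQ a ha
  have hker : ∀ q ∈ Q, q * q = 1 → q ∈ V := by
    intro q hq hqq
    have hqU : q ∈ QU L St := by rw [hU]; exact hq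
    set f := ((QU.phi L St ⟨a, haU⟩ : V) : G) with hf
    have hfV : f ∈ V := (QU.phi L St ⟨a, haU⟩).2
    have hf1 : f ≠ 1 := fun h => haV (QU.phi_eq_one.1 (Subtype.ext h))
    have hf' := QU.phi_d D ⟨a, haU⟩
    have k2 : d * f * d⁻¹ ≠ 1 := fun e => hf1 (by
      have : f = d⁻¹ * (d * f * d⁻¹) * d := by group
      rw [this, e]; group)
    have k3 : f ≠ d * f * d⁻¹ := fun e => hf1 (D.fix f hfV e.symm)
    -- squares depend only on the coset of `V`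
    have hcos : ∀ r : QU L St, QU.phi L St r = QU.phi L St ⟨q, hqU⟩ → (r : G) * r = 1 := by
      intro r hr
      have h4 := QU.phi_eq.1 hr
      have h5 : (r : G) = q * ((r : G)⁻¹ * q)⁻¹ := by group
      have h6 := hmul q hq _ (St.VQ (V.inv_mem h4))
      rw [← h5, hqq, one_mul] at h6
      rw [h6]
      exact L.vsq _ (V.inv_mem h4)
    rcases four_cases L.V4 L.vsq hfV (D.dV f hfV) hf1 k2 k3 (QU.phi L St ⟨q, hqU⟩).2
      with h | h | h | h
    · exact QU.phi_eq_one.1 (Subtype.ext h)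
    · exact absurd (hcos ⟨a, haU⟩ (Subtype.ext h.symm)) haa
    · exfalso
      have := hcos ⟨d * a * d⁻¹, QU.dmem D haU⟩ (Subtype.ext (by rw [hf']; exact h.symm))
      change (d * a * d⁻¹) * (d * a * d⁻¹) = 1 at this
      rw [hdv] at this
      exact h2 this
    · exfalso
      have := hcos (⟨a, haU⟩ * ⟨d * a * d⁻¹, QU.dmem D haU⟩) (by
        refine Subtype.ext ?_
        rw [map_mul]
        change f * ((QU.phi L St ⟨d * a * d⁻¹, QU.dmem D haU⟩ : V) : G) = _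
        rw [hf']
        exact h.symm)
      change (a * (d * a * d⁻¹)) * (a * (d * a * d⁻¹)) = 1 at this
      rw [hmul a ha _ haQ, hdv] at this
      have h6 := eq_inv_of_mul_eq_one_left this
      rw [L.vinv (D.dV v hvV)] at h6
      exact h3 h6
  -- an element `x ∈ S` moving `V`
  obtain ⟨v0, hv0, hv01, hcS⟩ := H.exists_v0
  obtain ⟨x, hxS, hxm⟩ := H.out
  have hx2 : ∃ k, x ^ 2 ^ k = 1 := by
    obtain ⟨k, hk⟩ := H.S2 ⟨x, hxS⟩
    exact ⟨k, by simpa using congrArg Subtype.val hk⟩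
  obtain ⟨v0', hv0', hv01', hxv0', hfix, -⟩ := move4 L.V4 L.vsq hx2 (H.SV x hxS) hxm
  -- preimage of `v0'` under `phi`
  obtain ⟨b, hb⟩ : ∃ b : QU L St, ((QU.phi L St b : V) : G) = v0' := by
    have hker' : Nat.card (QU.phi L St).ker = 4 := by
      rw [← L.V4]
      refine Nat.card_congr ⟨fun x => ⟨((x : QU L St) : G), QU.phi_eq_one.1 x.2⟩,
        fun v => ⟨⟨v, QU.V_le v.2⟩, QU.phi_eq_one.2 v.2⟩, fun x => rfl, fun v => rfl⟩
    have e1 := (QU.phi L St).ker.card_eq_card_quotient_mul_card_subgroup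
    have e2 : Nat.card (QU L St ⧸ (QU.phi L St).ker) = Nat.card (QU.phi L St).range :=
      Nat.card_congr (QuotientGroup.quotientKerEquivRange (QU.phi L St)).toEquiv
    rw [e2, hker', QU.card L St D hne] at e1
    have e3 : (QU.phi L St).range = ⊤ := by
      apply Subgroup.eq_top_of_card_eq
      rw [L.V4]
      omega
    have e4 : (⟨v0', hv0'⟩ : V) ∈ (QU.phi L St).range := by rw [e3]; exact mem_top _
    obtain ⟨b, hb⟩ := e4
    exact ⟨b, by rw [hb]⟩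
  have hbQ : (b : G) ∈ Q := QU.le b.2
  have hbV : (b : G) ∉ V := fun h => hv01' (by
    rw [← hb]
    exact congrArg Subtype.val (QU.phi_eq_one.2 h))
  have hxbU : x * b * x⁻¹ ∈ QU L St := hU.ge (H.SQ x hxS b hbQ)
  have hxt : x * t = t * x := H.St hxS
  have hphix : ((QU.phi L St ⟨x * b * x⁻¹, hxbU⟩ : V) : G) = v0' := by
    rw [QU.phi_apply]
    have h4 : x * v0' * x⁻¹ = v0' := by rw [hxv0', mul_inv_cancel_right]
    rw [← h4, ← hb, QU.phi_apply]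
    change t * (x * (b : G) * x⁻¹) * t⁻¹ * (x * (b : G) * x⁻¹)⁻¹ =
      x * (t * b * t⁻¹ * (b : G)⁻¹) * x⁻¹
    have h5 : x⁻¹ * t⁻¹ = t⁻¹ * x⁻¹ := by rw [← mul_inv_rev, ← mul_inv_rev, hxt]
    calc t * (x * (b : G) * x⁻¹) * t⁻¹ * (x * (b : G) * x⁻¹)⁻¹
        = (t * x) * b * (x⁻¹ * t⁻¹) * x * (b : G)⁻¹ * x⁻¹ := by group
      _ = (x * t) * b * (t⁻¹ * x⁻¹) * x * (b : G)⁻¹ * x⁻¹ := by rw [h5, hxt]
      _ = x * (t * b * t⁻¹ * (b : G)⁻¹) * x⁻¹ := by group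
  have hbb : (b : G) * b = v0' := by
    have h4 : QU.phi L St b = QU.phi L St ⟨x * b * x⁻¹, hxbU⟩ := by
      refine Subtype.ext ?_
      rw [hb, hphix]
    have h5 : (b : G)⁻¹ * (x * b * x⁻¹) ∈ V := QU.phi_eq.1 h4
    have h6 : (x * b * x⁻¹) * (x * b * x⁻¹) = b * b := by
      have h7 : x * b * x⁻¹ = b * ((b : G)⁻¹ * (x * b * x⁻¹)) := by group
      rw [h7, hmul _ hbQ _ (St.VQ h5), L.vsq _ h5, mul_one]
    have h7 : x * (b * b) = (b * b) * x := by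
      apply mul_inv_eq_iff_eq_mul.1
      calc x * ((b : G) * b) * x⁻¹ = (x * b * x⁻¹) * (x * b * x⁻¹) := by group
        _ = b * b := h6
    rcases hfix _ (hsq _ hbQ) h7 with h8 | h8
    · exact absurd (hker _ hbQ h8) hbV
    · exact h8
  -- the two homomorphisms agree
  let δ : Subgroup G :=
    { carrier := {q | q ∈ Q ∧ t * q * t⁻¹ = q⁻¹}
      one_mem' := ⟨Q.one_mem, by group⟩
      mul_mem' := by
        rintro y z ⟨hy, hy'⟩ ⟨hz, hz'⟩
        refine ⟨Q.mul_mem hy hz, ?_⟩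
        have h4 : y⁻¹ * z⁻¹ = z⁻¹ * y⁻¹ := by
          rw [← mul_inv_rev, ← mul_inv_rev, hcomm y hy z hz]
        calc t * (y * z) * t⁻¹ = (t * y * t⁻¹) * (t * z * t⁻¹) := by group
          _ = z⁻¹ * y⁻¹ := by rw [hy', hz', h4]
          _ = (y * z)⁻¹ := by group
      inv_mem' := by
        rintro y ⟨hy, hy'⟩
        refine ⟨Q.inv_mem hy, ?_⟩
        calc t * y⁻¹ * t⁻¹ = (t * y * t⁻¹)⁻¹ := by group
          _ = y⁻¹⁻¹ := by rw [hy'] }
  have hbδ : ∀ c : G, c ∈ Q → t * c * t⁻¹ * c⁻¹ = c * c → c ∈ δ := by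
    intro c hc h4
    refine ⟨hc, ?_⟩
    have h5 : (c * c) * (c * c) = 1 := L.vsq _ (hsq c hc)
    have h6 : t * c * t⁻¹ = (c * c) * c := by rw [← h4]; group
    rw [h6]
    apply eq_inv_of_mul_eq_one_left
    rw [← h5]; group
  have hb1 : (b : G) ∈ δ := by
    apply hbδ _ hbQ
    rw [hbb, ← hb]; rfl
  have hb2 : d * b * d⁻¹ ∈ δ := by
    apply hbδ _ (D.dQ _ hbQ)
    have h4 := QU.phi_d D b
    rw [QU.phi_apply] at h4
    change t * (d * b * d⁻¹) * t⁻¹ * (d * b * d⁻¹)⁻¹ = _ at h4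
    rw [h4, hb, ← hbb]; group
  have hVδ : V ≤ δ := by
    intro u hu
    refine ⟨St.VQ hu, ?_⟩
    rw [← L.vt u hu, mul_inv_cancel_right, L.vinv hu]
  have hall : QU L St ≤ δ := QU.gen D b.2 hbV hVδ hb1 hb2
  intro q hq
  exact (hall (by rw [hU]; exact hq)).2

end Cfsg.Agent.StdL2.SFive
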