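import Cfsg.Agent.StdL2.SFive.Pos
import Cfsg.Agent.StdL2.SFive.GrowC
import Cfsg.Agent.StdL2.Setup
import Cfsg.Agent.StdL2.Assemble

/-!
# S1773, `q = 4`, `N(A)/C(A) = S₅`: the data after Case A, and the output of the dispatcher
-/

set_option autoImplicit false
set_option linter.unusedSectionVars false
set_option linter.style.haveILetI false

open Subgroup

namespace Cfsg.Agent.StdL2.SFive

open Cfsg.Agent.StdL2.FieldStart Cfsg.Agent.StdL2.Setup Cfsg.Agent.StdL2.Assemble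

/-- the local data after Case A: `S0` is a Sylow 2-subgroup of `C(t)`, `V = S0 ∩ A` a four-group, Sylow in `A`. -/
structure SF {G : Type*} [Group G] (A : Subgroup G) (t : G) (V S0 : Subgroup G) : Prop where
  loc : Loc t V
  thr : Thr t V
  Syl : IsSyl (centralizer {t}) S0
  VS : V ≤ S0
  SV : ∀ s ∈ S0, ∀ v ∈ V, s * v * s⁻¹ ∈ V
  out : ∃ s ∈ S0, ∃ v ∈ V, s * v ≠ v * s
  An : ∀ c, c * t = t * c → ∀ a ∈ A, c * a * c⁻¹ ∈ A
  AV : IsSyl A V
  hZ : ∃ g : G, g * t * g⁻¹ ≠ t ∧ (g * t * g⁻¹) * t = t * (g * t * g⁻¹)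

/-- the output of the dispatcher -/
def Five.Out {G : Type*} [Group G] (L : Subgroup G) (t : G) : Prop :=
  (Lie2 ↥L ∧ t ∉ L) ∨ Cfsg.Spor.IsoM12 ↥L ∨ (PRankLE 2 2 ↥L ∧ t ∉ L)

end Cfsg.Agent.StdL2.SFive
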