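import Cfsg.Agent.StdL2.SFive.Tools

/-!
# S1773, `q = 4`: the local data `Loc`, the stages `Stg`
-/

set_option autoImplicit false
set_option linter.unusedSectionVars false
set_option linter.style.haveILetI false

open Subgroup

namespace Cfsg.Agent.StdL2.SFive

open Cfsg.Agent.StdL2.FieldStart

variable {G : Type*} [Group G] [Finite G]

/-- `V` a four-group commuting with the involution `t`; all 2-elements of `C(t) ∩ C(V)` are in `⟨t⟩V`. -/
structure Loc (t : G) (V : Subgroup G) : Prop where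
  t2 : t * t = 1
  tV : t ∉ V
  V4 : Nat.card V = 4
  vsq : ∀ v ∈ V, v * v = 1
  vt : ∀ v ∈ V, v * t = t * v
  cen : ∀ y, y * t = t * y → (∀ v ∈ V, y * v = v * y) → (∃ k, y ^ 2 ^ k = 1) → y ∈ V ∨ t * y ∈ V

/-- a stage: 2-subgroup `Q` of `C(V)` containing `V`, normalised by `t`, not containing `t`, and such that
`C(t) ∩ N(V) ∩ N(Q)` induces everything that `C(t) ∩ N(V)` induces on `V`. -/
structure Stg (t : G) (V Q : Subgroup G) : Prop where
  VQ : V ≤ Q
  Q2 : IsPGroup 2 Q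
  QV : ∀ q ∈ Q, ∀ v ∈ V, q * v = v * q
  tQ : t ∉ Q
  tn : ∀ q ∈ Q, t * q * t⁻¹ ∈ Q
  cov : ∀ n, n * t = t * n → (∀ v ∈ V, n * v * n⁻¹ ∈ V) →
    ∃ m, m * t = t * m ∧ (∀ v ∈ V, m * v * m⁻¹ = n * v * n⁻¹) ∧ ∀ q ∈ Q, m * q * m⁻¹ ∈ Q

theorem inv_of_sq {t : G} (h : t * t = 1) : t⁻¹ = t := inv_eq_of_mul_eq_one_left h

/-- `Q ∪ tQ` -/
def dbl (t : G) (Q : Subgroup G) (t2 : t * t = 1) (tn : ∀ q ∈ Q, t * q * t⁻¹ ∈ Q) : Subgroup G where
  carrier := {x | x ∈ Q ∨ t * x ∈ Q}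
  one_mem' := Or.inl Q.one_mem
  mul_mem' := by
    rintro a b (ha | ha) (hb | hb)
    · exact Or.inl (Q.mul_mem ha hb)
    · right
      have h1 := Q.mul_mem (tn a ha) hb
      have e : t * a * t⁻¹ * (t * b) = t * (a * b) := by group
      rwa [e] at h1
    · right
      have h1 := Q.mul_mem ha hb
      rwa [mul_assoc] at h1
    · left
      have h1 := Q.mul_mem (tn _ ha) hb
      have e : t * (t * a) * t⁻¹ * (t * b) = (t * t) * a * b := by group
      rwa [e, t2, one_mul] at h1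
  inv_mem' := by
    rintro a (ha | ha)
    · exact Or.inl (Q.inv_mem ha)
    · right
      have h1 := tn _ (Q.inv_mem ha)
      have e : t * (t * a)⁻¹ * t⁻¹ = t * a⁻¹ * (t * t)⁻¹ := by group
      rwa [e, t2, inv_one, mul_one] at h1

theorem mem_dbl {t : G} {Q : Subgroup G} {t2 : t * t = 1} {tn : ∀ q ∈ Q, t * q * t⁻¹ ∈ Q} {x : G} :
    x ∈ dbl t Q t2 tn ↔ x ∈ Q ∨ t * x ∈ Q := Iff.rfl

theorem le_dbl {t : G} {Q : Subgroup G} (t2 : t * t = 1) (tn : ∀ q ∈ Q, t * q * t⁻¹ ∈ Q) :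
    Q ≤ dbl t Q t2 tn := fun _ h => Or.inl h

theorem self_mem_dbl {t : G} {Q : Subgroup G} (t2 : t * t = 1) (tn : ∀ q ∈ Q, t * q * t⁻¹ ∈ Q) :
    t ∈ dbl t Q t2 tn := Or.inr (by rw [t2]; exact Q.one_mem)

theorem card_dbl {t : G} {Q : Subgroup G} (t2 : t * t = 1) (tn : ∀ q ∈ Q, t * q * t⁻¹ ∈ Q)
    (tQ : t ∉ Q) : Nat.card (dbl t Q t2 tn) = 2 * Nat.card Q := by
  classical
  have e : dbl t Q t2 tn ≃ Bool × Q :=
    { toFun := fun x => if h : (x : G) ∈ Q then (true, ⟨x, h⟩) else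
        (false, ⟨t * x, (mem_dbl.1 x.2).resolve_left h⟩)
      invFun := fun y => if y.1 then ⟨(y.2 : G), Or.inl y.2.2⟩ else
        ⟨t * (y.2 : G), Or.inr (by rw [← mul_assoc, t2, one_mul]; exact y.2.2)⟩
      left_inv := by
        intro x
        by_cases h : (x : G) ∈ Q
        · simp [h]
        · simp only [h, dif_neg, not_false_eq_true]
          refine Subtype.ext ?_
          change t * (t * (x : G)) = x
          rw [← mul_assoc, t2, one_mul]
      right_inv := by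
        rintro ⟨b, y⟩
        cases b
        · have h : ¬ t * (y : G) ∈ Q := fun h => tQ (by
            have := Q.mul_mem h (Q.inv_mem y.2)
            rwa [mul_inv_cancel_right] at this)
          simp only [Bool.false_eq_true, if_false]
          rw [dif_neg h]
          refine Prod.ext rfl (Subtype.ext ?_)
          change t * (t * (y : G)) = y
          rw [← mul_assoc, t2, one_mul]
        · simp }
  rw [Nat.card_congr e, Nat.card_prod, Nat.card_eq_fintype_card (α := Bool), Fintype.card_bool]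

theorem isPGroup_dbl {t : G} {Q : Subgroup G} (t2 : t * t = 1) (tn : ∀ q ∈ Q, t * q * t⁻¹ ∈ Q)
    (hQ : IsPGroup 2 Q) : IsPGroup 2 (dbl t Q t2 tn) := by
  haveI : Fact (Nat.Prime 2) := ⟨Nat.prime_two⟩
  by_cases tQ : t ∈ Q
  · have : dbl t Q t2 tn = Q := by
      refine le_antisymm ?_ (le_dbl t2 tn)
      rintro x (h | h)
      · exact h
      · have h1 := Q.mul_mem (Q.inv_mem tQ) h
        rwa [inv_mul_cancel_left] at h1
    rw [this]
    exact hQ
  · obtain ⟨n, hn⟩ := IsPGroup.iff_card.1 hQ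
    exact IsPGroup.of_card (n := n + 1) (by rw [card_dbl t2 tn tQ, hn, pow_succ]; ring)

namespace Loc

variable {t : G} {V Q : Subgroup G}

theorem vn (L : Loc t V) : ∀ v ∈ V, t * v * t⁻¹ ∈ V := by
  intro v hv
  rw [← L.vt v hv, mul_inv_cancel_right]
  exact hv

theorem vinv (L : Loc t V) {v : G} (hv : v ∈ V) : v⁻¹ = v := inv_of_sq (L.vsq v hv)

theorem tinv (L : Loc t V) : t⁻¹ = t := inv_of_sq L.t2

theorem t1 (L : Loc t V) : t ≠ 1 := fun h => L.tV (h ▸ V.one_mem)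

theorem vcomm (L : Loc t V) {v w : G} (hv : v ∈ V) (hw : w ∈ V) : v * w = w * v := by
  have h := L.vsq _ (V.mul_mem hv hw)
  have h1 := inv_eq_of_mul_eq_one_left h
  rw [mul_inv_rev, L.vinv hv, L.vinv hw] at h1
  exact h1.symm

/-- `W = ⟨t⟩V` -/
def W (L : Loc t V) : Subgroup G := dbl t V L.t2 L.vn

theorem mem_W (L : Loc t V) {x : G} : x ∈ L.W ↔ x ∈ V ∨ t * x ∈ V := Iff.rfl

theorem card_W (L : Loc t V) : Nat.card L.W = 8 := by
  rw [W, card_dbl L.t2 L.vn L.tV, L.V4]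

theorem VW (L : Loc t V) : V ≤ L.W := fun _ h => Or.inl h

theorem tW (L : Loc t V) : t ∈ L.W := self_mem_dbl L.t2 L.vn

theorem W_t (L : Loc t V) {x : G} (hx : x ∈ L.W) : x * t = t * x := by
  rcases hx with h | h
  · exact L.vt x h
  · have h1 := L.vt _ h
    have e : t * (t * x) = x := by rw [← mul_assoc, L.t2, one_mul]
    rw [e, mul_assoc] at h1
    -- h1 : t * (x * t) = x
    have h2 : t * (t * (x * t)) = t * x := by rw [h1]
    rwa [← mul_assoc, L.t2, one_mul] at h2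

theorem W_V (L : Loc t V) {x v : G} (hx : x ∈ L.W) (hv : v ∈ V) : x * v = v * x := by
  rcases hx with h | h
  · exact L.vcomm h hv
  · have h1 := L.vcomm h hv
    have h2 := L.vt v hv
    have h3 : t * (x * v) = t * (v * x) := by
      rw [← mul_assoc, h1, ← mul_assoc, h2, mul_assoc]
    exact mul_left_cancel h3

theorem Wsq (L : Loc t V) {x : G} (hx : x ∈ L.W) : x * x = 1 := by
  rcases hx with h | h
  · exact L.vsq x h
  · have h1 := L.vsq _ h
    have h2 := L.W_t (x := x) (Or.inr h)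
    calc x * x = (t * t) * (x * x) := by rw [L.t2, one_mul]
      _ = t * (t * x) * x := by group
      _ = t * (x * t) * x := by rw [h2]
      _ = t * x * (t * x) := by group
      _ = 1 := h1

/-- all 2-subgroups of `C(t) ∩ C(V)` are contained in `W` -/
theorem le_W (L : Loc t V) {P : Subgroup G} (hP : IsPGroup 2 P) (h1 : ∀ x ∈ P, x * t = t * x)
    (h2 : ∀ x ∈ P, ∀ v ∈ V, x * v = v * x) : P ≤ L.W := by
  intro x hx
  obtain ⟨k, hk⟩ := hP ⟨x, hx⟩
  exact L.cen x (h1 x hx) (h2 x hx) ⟨k, by simpa using congrArg Subtype.val hk⟩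

/-- centralizers of conjugates of `t` under `C(V)` -/
theorem card_cen_le (L : Loc t V) {P : Subgroup G} (hP : IsPGroup 2 P)
    (h2 : ∀ x ∈ P, ∀ v ∈ V, x * v = v * x) {x y : G} (hy : ∀ v ∈ V, y * v = v * y)
    (hx : y * t * y⁻¹ = x) (hc : ∀ z ∈ P, z * x = x * z) : Nat.card P ≤ 8 := by
  have hsub : P.map (MulAut.conj y⁻¹).toMonoidHom ≤ L.W := by
    refine L.le_W (hP.map _) ?_ ?_
    · rintro _ ⟨z, hz, rfl⟩
      have h3 := hc z hz
      rw [← hx] at h3
      change y⁻¹ * z * y⁻¹⁻¹ * t = t * (y⁻¹ * z * y⁻¹⁻¹)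
      calc y⁻¹ * z * y⁻¹⁻¹ * t = y⁻¹ * (z * (y * t * y⁻¹)) * y := by group
        _ = y⁻¹ * ((y * t * y⁻¹) * z) * y := by rw [h3]
        _ = t * (y⁻¹ * z * y⁻¹⁻¹) := by group
    · rintro _ ⟨z, hz, rfl⟩ v hv
      have h3 := h2 z hz v hv
      have h4 := hy v hv
      have h5 : y⁻¹ * v = v * y⁻¹ := by
        calc y⁻¹ * v = y⁻¹ * (v * y) * y⁻¹ := by group
          _ = y⁻¹ * (y * v) * y⁻¹ := by rw [h4]
          _ = v * y⁻¹ := by group
      change y⁻¹ * z * y⁻¹⁻¹ * v = v * (y⁻¹ * z * y⁻¹⁻¹)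
      rw [inv_inv]
      calc y⁻¹ * z * y * v = y⁻¹ * z * (y * v) := by group
        _ = y⁻¹ * (z * v) * y := by rw [h4]; group
        _ = (y⁻¹ * v) * z * y := by rw [h3]; group
        _ = v * (y⁻¹ * z * y) := by rw [h5]; group
  have h3 := Nat.card_le_card_of_injective _ (Subgroup.inclusion_injective hsub)
  rw [L.card_W, card_map_of_injective (MulAut.conj y⁻¹).injective] at h3
  exact h3

end Loc

namespace Stg

variable {t : G} {V Q : Subgroup G}

/-- `P = Q ∪ tQ` -/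
def P (L : Loc t V) (S : Stg t V Q) : Subgroup G := dbl t Q L.t2 S.tn

theorem mem_P (L : Loc t V) (S : Stg t V Q) {x : G} : x ∈ S.P L ↔ x ∈ Q ∨ t * x ∈ Q := Iff.rfl

theorem QP (L : Loc t V) (S : Stg t V Q) : Q ≤ S.P L := fun _ h => Or.inl h

theorem tP (L : Loc t V) (S : Stg t V Q) : t ∈ S.P L := self_mem_dbl L.t2 S.tn

theorem card_P (L : Loc t V) (S : Stg t V Q) : Nat.card (S.P L) = 2 * Nat.card Q :=
  card_dbl L.t2 S.tn S.tQ

theorem P2 (L : Loc t V) (S : Stg t V Q) : IsPGroup 2 (S.P L) := isPGroup_dbl L.t2 S.tn S.Q2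

theorem tmul_mem (L : Loc t V) {x : G} (h : t * x ∈ Q) : x = t * (t * x) := by
  rw [← mul_assoc, L.t2, one_mul]

theorem PV (L : Loc t V) (S : Stg t V Q) : ∀ x ∈ S.P L, ∀ v ∈ V, x * v = v * x := by
  rintro x (h | h) v hv
  · exact S.QV x h v hv
  · have h1 := S.QV _ h v hv
    have h2 := L.vt v hv
    have h3 : t * (x * v) = t * (v * x) := by
      rw [← mul_assoc, h1, ← mul_assoc, h2, mul_assoc]
    exact mul_left_cancel h3

theorem WP (L : Loc t V) (S : Stg t V Q) : L.W ≤ S.P L := by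
  rintro x (h | h)
  · exact Or.inl (S.VQ h)
  · exact Or.inr (S.VQ h)

/-- elements of `Q` commuting with `t` are in `V` -/
theorem mem_V (L : Loc t V) (S : Stg t V Q) {q : G} (hq : q ∈ Q) (h : q * t = t * q) : q ∈ V := by
  obtain ⟨k, hk⟩ := S.Q2 ⟨q, hq⟩
  rcases L.cen q h (S.QV q hq) ⟨k, by simpa using congrArg Subtype.val hk⟩ with h1 | h1
  · exact h1
  · exfalso
    apply S.tQ
    have h2 := Q.mul_mem (S.VQ h1) (Q.inv_mem hq)
    rwa [mul_inv_cancel_right] at h2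

theorem mem_W (L : Loc t V) (S : Stg t V Q) {q : G} (hq : q ∈ S.P L) (h : q * t = t * q) :
    q ∈ L.W := by
  obtain ⟨k, hk⟩ := S.P2 L ⟨q, hq⟩
  exact L.cen q h (S.PV L q hq) ⟨k, by simpa using congrArg Subtype.val hk⟩

theorem P_inf (L : Loc t V) (S : Stg t V Q) :
    (S.P L ⊓ centralizer {t} : Subgroup G) = L.W := by
  refine le_antisymm ?_ (le_inf (S.WP L) ?_)
  · intro x hx
    exact S.mem_W L (mem_inf.1 hx).1 (mem_centralizer_singleton_iff.1 (mem_inf.1 hx).2)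
  · intro x hx
    exact mem_centralizer_singleton_iff.2 (L.W_t hx)

/-- the size of the `P`-class of `t` -/
theorem card_cls (L : Loc t V) (S : Stg t V Q) : (cls (S.P L) t).ncard * 4 = Nat.card Q := by
  have h1 := ncard_cls (S.P L) t
  rw [S.P_inf L, L.card_W, S.card_P L] at h1
  omega

/-- normal form of a product with an element of `tQ` -/
theorem cls_sub (L : Loc t V) (S : Stg t V Q) {x : G} (hx : x ∈ cls (S.P L) t) : t * x ∈ Q := by
  obtain ⟨k, hk, rfl⟩ := hx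
  rcases hk with hk | hk
  · have h1 := Q.mul_mem (S.tn k hk) (Q.inv_mem hk)
    have e : t * k * t⁻¹ * k⁻¹ = t * (k * t * k⁻¹) := by rw [L.tinv]; group
    rwa [e] at h1
  · -- k = t * (t * k)
    have h1 := Q.mul_mem hk (S.tn _ (Q.inv_mem hk))
    have e : t * k * (t * (t * k)⁻¹ * t⁻¹) = t * k * (t * k⁻¹ * (t * t)⁻¹) := by group
    have e2 : t * k * (t * k⁻¹ * (1 : G)⁻¹) = t * (k * t * k⁻¹) := by group
    rw [e, L.t2, e2] at h1
    exact h1

end Stg

end Cfsg.Agent.StdL2.SFive
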