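import Mathlib
import Cfsg.Agent.StdL2.FieldStart
import Cfsg.Agent.Lib.ThompsonPQ

/-!
# S1773, `q = 4`, `N(A)/C(A) = S₅`: counting tools
-/

set_option autoImplicit false
set_option linter.unusedSectionVars false
set_option linter.style.haveILetI false

open Subgroup

namespace Cfsg.Agent.StdL2.SFive

open Cfsg.Agent.StdL2.FieldStart

variable {G : Type*} [Group G] [Finite G]

/-- the set of `K`-conjugates of `t` -/
def cls (K : Subgroup G) (t : G) : Set G := {x | ∃ k ∈ K, k * t * k⁻¹ = x}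

theorem mem_cls_self (K : Subgroup G) (t : G) : t ∈ cls K t := ⟨1, K.one_mem, by group⟩

theorem cls_conj {K : Subgroup G} {t x k : G} (hx : x ∈ cls K t) (hk : k ∈ K) :
    k * x * k⁻¹ ∈ cls K t := by
  obtain ⟨m, hm, rfl⟩ := hx
  exact ⟨k * m, K.mul_mem hk hm, by group⟩

theorem cls_mono {K L : Subgroup G} (h : K ≤ L) (t : G) : cls K t ⊆ cls L t :=
  fun _ ⟨k, hk, e⟩ => ⟨k, h hk, e⟩

theorem cls_eq {K : Subgroup G} {t x : G} (hx : x ∈ cls K t) : cls K x = cls K t := by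
  obtain ⟨m, hm, rfl⟩ := hx
  ext y
  constructor
  · rintro ⟨k, hk, rfl⟩
    exact ⟨k * m, K.mul_mem hk hm, by group⟩
  · rintro ⟨k, hk, rfl⟩
    exact ⟨k * m⁻¹, K.mul_mem hk (K.inv_mem hm), by group⟩

theorem ncard_cls (K : Subgroup G) (t : G) :
    (cls K t).ncard * Nat.card (K ⊓ centralizer {t} : Subgroup G) = Nat.card K := by
  classical
  let f : K → cls K t := fun k => ⟨(k : G) * t * (k : G)⁻¹, k, k.2, rfl⟩
  have hf : ∀ x : cls K t, Nat.card {k : K // f k = x} =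
      Nat.card (K ⊓ centralizer {t} : Subgroup G) := by
    rintro ⟨x, m, hm, rfl⟩
    refine Nat.card_congr ⟨fun k => ⟨m⁻¹ * (k : K), ?_⟩, fun c => ⟨⟨m * c, ?_⟩, ?_⟩, ?_, ?_⟩
    · refine mem_inf.2 ⟨K.mul_mem (K.inv_mem hm) k.1.2, mem_centralizer_singleton_iff.2 ?_⟩
      have h1 : (k : K) * t * ((k : K) : G)⁻¹ = m * t * m⁻¹ := congrArg Subtype.val k.2
      calc m⁻¹ * ((k : K) : G) * t = m⁻¹ * (((k : K) : G) * t * ((k : K) : G)⁻¹) * (k : K) := by
            group
        _ = m⁻¹ * (m * t * m⁻¹) * (k : K) := by rw [h1]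
        _ = t * (m⁻¹ * (k : K)) := by group
    · exact K.mul_mem hm (mem_inf.1 c.2).1
    · refine Subtype.ext ?_
      have h1 := mem_centralizer_singleton_iff.1 (mem_inf.1 c.2).2
      change m * (c : G) * t * (m * (c : G))⁻¹ = m * t * m⁻¹
      calc m * (c : G) * t * (m * (c : G))⁻¹ = m * ((c : G) * t) * (c : G)⁻¹ * m⁻¹ := by group
        _ = m * (t * (c : G)) * (c : G)⁻¹ * m⁻¹ := by rw [h1]
        _ = m * t * m⁻¹ := by group
    · intro k
      refine Subtype.ext (Subtype.ext ?_)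
      simp
    · intro c
      refine Subtype.ext ?_
      simp
  have h1 : Nat.card K = Nat.card (Σ x : cls K t, {k : K // f k = x}) :=
    Nat.card_congr (Equiv.sigmaFiberEquiv f).symm
  haveI : Fintype (cls K t) := Fintype.ofFinite _
  rw [h1, Nat.card_sigma, Finset.sum_congr rfl (fun x _ => hf x), Finset.sum_const,
    Finset.card_univ, ← Nat.card_eq_fintype_card, ← Nat.card_coe_set_eq, smul_eq_mul]

/-- a `p`-element acting by conjugation on a set -/
theorem ncard_modEq {p : ℕ} [Fact p.Prime] {d : G} (hd : ∃ k, d ^ p ^ k = 1) {Λ : Set G}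
    (hΛ : ∀ x ∈ Λ, d * x * d⁻¹ ∈ Λ) :
    Λ.ncard ≡ {x | x ∈ Λ ∧ d * x * d⁻¹ = x}.ncard [MOD p] := by
  classical
  obtain ⟨k, hk⟩ := hd
  haveI : Fintype Λ := Fintype.ofFinite _
  let f : Function.End Λ := fun x => ⟨d * x * d⁻¹, hΛ x x.2⟩
  have hf : ∀ n : ℕ, ∀ x : Λ, (((f ^ n : Function.End Λ) x : Λ) : G) = d ^ n * x * (d ^ n)⁻¹ := by
    intro n
    induction n with
    | zero => intro x; simp [Function.End.one_def]
    | succ n ih =>
      intro x
      rw [pow_succ']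
      change d * (((f ^ n : Function.End Λ) x : Λ) : G) * d⁻¹ = _
      rw [ih, pow_succ']
      group
  have hf1 : f ^ p ^ k = 1 := by
    funext x
    refine Subtype.ext ?_
    rw [hf, hk]
    change 1 * (x : G) * 1⁻¹ = x
    simp
  have h1 := Equiv.Perm.card_fixedPoints_modEq hf1
  rw [← Nat.card_eq_fintype_card, ← Nat.card_eq_fintype_card, Nat.card_coe_set_eq] at h1
  refine h1.trans ?_
  have h2 : Nat.card (Function.fixedPoints f) = {x | x ∈ Λ ∧ d * x * d⁻¹ = x}.ncard := by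
    rw [← Nat.card_coe_set_eq]
    refine Nat.card_congr ⟨fun x => ⟨((x : Λ) : G), (x : Λ).2, congrArg Subtype.val x.2⟩,
      fun x => ⟨⟨(x : G), x.2.1⟩, Subtype.ext x.2.2⟩, fun x => rfl, fun x => rfl⟩
  rw [h2]

/-- `IsSyl` means: 2-subgroup of odd index -/
theorem IsSyl.odd {K T : Subgroup G} (h : IsSyl K T) : ¬ 2 ∣ T.relIndex K := by
  haveI : Fact (Nat.Prime 2) := ⟨Nat.prime_two⟩
  let T' : Sylow 2 K :=
    { toSubgroup := T.comap K.subtype
      isPGroup' := h.1.comap_subtype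
      is_maximal' := by
        intro Q hQ hTQ
        refine le_antisymm ?_ hTQ
        intro q hq
        have h1 : T ≤ Q.map K.subtype := by
          intro x hx
          exact ⟨⟨x, h.2.1 hx⟩, hTQ hx, rfl⟩
        exact h.2.2 (Q.map K.subtype) (hQ.map K.subtype) h1 (map_subtype_le _) ⟨q, hq, rfl⟩ }
  exact T'.not_dvd_index

theorem isSyl_of_odd {K T : Subgroup G} (hT : IsPGroup 2 T) (hTK : T ≤ K)
    (h : ¬ 2 ∣ T.relIndex K) : IsSyl K T := by
  haveI : Fact (Nat.Prime 2) := ⟨Nat.prime_two⟩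
  refine ⟨hT, hTK, fun P hP hTP hPK => ?_⟩
  rw [← relIndex_eq_one]
  by_contra hne
  obtain ⟨n, hn⟩ := IsPGroup.iff_card.1 hP
  have h1 : T.relIndex P ∣ Nat.card P := (T.subgroupOf P).index_dvd_card
  rw [hn] at h1
  obtain ⟨m, -, hm⟩ := (Nat.dvd_prime_pow Nat.prime_two).1 h1
  have hm0 : m ≠ 0 := fun h0 => hne (by rw [hm, h0, pow_zero])
  have h2 : 2 ∣ T.relIndex P := by rw [hm]; exact dvd_pow_self 2 hm0
  have h3 := relIndex_mul_relIndex T P K hTP hPK
  exact h (h3 ▸ Dvd.dvd.mul_right h2 _)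

/-- parity: number of conjugates of an involution inside a Sylow 2-subgroup -/
theorem parity {K T : Subgroup G} (hT : IsSyl K T) {t : G} (htK : t ∈ K) (ht : t * t = 1) :
    ∃ m, Odd m ∧ {x | x ∈ cls K t ∧ x ∈ T}.ncard * Nat.card (K ⊓ centralizer {t} : Subgroup G) =
      m * Nat.card T := by
  classical
  haveI : Fact (Nat.Prime 2) := ⟨Nat.prime_two⟩
  -- the set of `k ∈ K` with `k⁻¹ t k ∈ T`
  let F : Set K := {k | (k : G)⁻¹ * t * k ∈ T}
  set T' := T.subgroupOf K with hT'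
  haveI : Fintype (K ⧸ T') := Fintype.ofFinite _
  let f : Function.End (K ⧸ T') := fun x => (⟨t, htK⟩ : K) • x
  have hf : f ^ 2 ^ 1 = 1 := by
    funext x
    change (⟨t, htK⟩ : K) • (⟨t, htK⟩ : K) • x = x
    rw [smul_smul]
    have : (⟨t, htK⟩ : K) * ⟨t, htK⟩ = 1 := Subtype.ext ht
    rw [this, one_smul]
  have h1 := Equiv.Perm.card_fixedPoints_modEq hf
  rw [← Nat.card_eq_fintype_card, ← Nat.card_eq_fintype_card] at h1
  have hodd : Odd (Nat.card (K ⧸ T')) := by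
    rw [← Nat.not_even_iff_odd, even_iff_two_dvd]
    exact IsSyl.odd hT
  have hm : Odd (Nat.card (Function.fixedPoints f)) := by
    rw [Nat.odd_iff] at hodd ⊢
    have := h1
    unfold Nat.ModEq at this
    omega
  refine ⟨Nat.card (Function.fixedPoints f), hm, ?_⟩
  have hfix : ∀ k : K, ((k : K ⧸ T') ∈ Function.fixedPoints f) ↔ k ∈ F := by
    intro k
    change ((⟨t, htK⟩ : K) • (k : K ⧸ T') = (k : K ⧸ T')) ↔ _
    rw [MulAction.Quotient.smul_coe, QuotientGroup.eq, ← inv_mem_iff, hT', mem_subgroupOf]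
    change ((((⟨t, htK⟩ : K) • k)⁻¹ * k)⁻¹ : K).1 ∈ T ↔ (k : G)⁻¹ * t * k ∈ T
    have : ((((⟨t, htK⟩ : K) • k)⁻¹ * k)⁻¹ : K).1 = (k : G)⁻¹ * t * k := by
      rw [smul_eq_mul]
      push_cast
      group
    rw [this]
  have hF1 : Nat.card F = Nat.card (Function.fixedPoints f) * Nat.card T := by
    have e1 : Nat.card T = Nat.card T' := (Nat.card_congr (subgroupOfEquivOfLe hT.2.1).toEquiv).symm
    rw [e1, ← Nat.card_prod]
    let g : K ⧸ T' → K := Quotient.out
    have hg : ∀ x, ((g x : K) : K ⧸ T') = x := fun x => Quotient.out_eq x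
    refine Nat.card_congr ⟨fun k => (⟨((k : K) : K ⧸ T'), (hfix k).2 k.2⟩,
        ⟨(g ((k : K) : K ⧸ T'))⁻¹ * k, QuotientGroup.eq.1 (hg _)⟩),
      fun x => ⟨g x.1 * x.2, ?_⟩, ?_, ?_⟩
    · rw [← hfix]
      have h2 : ((g (x.1 : K ⧸ T') * (x.2 : K) : K) : K ⧸ T') = (x.1 : K ⧸ T') := by
        rw [QuotientGroup.mk_mul_of_mem _ x.2.2]
        exact hg _
      rw [h2]
      exact x.1.2
    · intro k
      refine Subtype.ext ?_
      simp
    · rintro ⟨⟨x, hx⟩, y⟩
      have h2 : ((g x * (y : K) : K) : K ⧸ T') = x := by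
        rw [QuotientGroup.mk_mul_of_mem _ y.2]
        exact hg _
      refine Prod.ext (Subtype.ext h2) (Subtype.ext ?_)
      change (g ((g x * (y : K) : K) : K ⧸ T'))⁻¹ * (g x * (y : K)) = y
      rw [h2]
      group
  have hF2 : Nat.card F = {x | x ∈ cls K t ∧ x ∈ T}.ncard *
      Nat.card (K ⊓ centralizer {t} : Subgroup G) := by
    let h : F → {x | x ∈ cls K t ∧ x ∈ T} := fun k =>
      ⟨((k : K) : G)⁻¹ * t * (k : K), ⟨((k : K) : G)⁻¹, K.inv_mem (k : K).2, by group⟩, k.2⟩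
    have hh : ∀ x : {x | x ∈ cls K t ∧ x ∈ T}, Nat.card {k : F // h k = x} =
        Nat.card (K ⊓ centralizer {t} : Subgroup G) := by
      rintro ⟨x, ⟨m, hm, hmx⟩, hxT⟩
      have hmx' : m * t * m⁻¹ = x := hmx
      refine Nat.card_congr ⟨fun k => ⟨((k : F) : K) * m, ?_⟩,
        fun c => ⟨⟨⟨c * m⁻¹, ?_⟩, ?_⟩, ?_⟩, ?_, ?_⟩
      · refine mem_inf.2 ⟨K.mul_mem ((k : F) : K).2 hm, mem_centralizer_singleton_iff.2 ?_⟩
        have h1 : (((k : F) : K) : G)⁻¹ * t * ((k : F) : K) = x := congrArg Subtype.val k.2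
        have h3 : m * t * m⁻¹ = (((k : F) : K) : G)⁻¹ * t * ((k : F) : K) := hmx'.trans h1.symm
        calc (((k : F) : K) : G) * m * t = ((k : F) : K) * (m * t * m⁻¹) * m := by group
          _ = ((k : F) : K) * ((((k : F) : K) : G)⁻¹ * t * ((k : F) : K)) * m :=
            congrArg (fun z => (((k : F) : K) : G) * z * m) h3
          _ = t * ((((k : F) : K) : G) * m) := by group
      · exact K.mul_mem (mem_inf.1 c.2).1 (K.inv_mem hm)
      · have h1 := mem_centralizer_singleton_iff.1 (mem_inf.1 c.2).2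
        change ((c : G) * m⁻¹)⁻¹ * t * ((c : G) * m⁻¹) ∈ T
        have : ((c : G) * m⁻¹)⁻¹ * t * ((c : G) * m⁻¹) = x := by
          rw [← hmx']
          calc ((c : G) * m⁻¹)⁻¹ * t * ((c : G) * m⁻¹) = m * (c : G)⁻¹ * (t * c) * m⁻¹ := by group
            _ = m * (c : G)⁻¹ * (c * t) * m⁻¹ := by rw [h1]
            _ = m * t * m⁻¹ := by group
        rw [this]
        exact hxT
      · have h1 := mem_centralizer_singleton_iff.1 (mem_inf.1 c.2).2
        refine Subtype.ext ?_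
        change ((c : G) * m⁻¹)⁻¹ * t * ((c : G) * m⁻¹) = x
        rw [← hmx']
        calc ((c : G) * m⁻¹)⁻¹ * t * ((c : G) * m⁻¹) = m * (c : G)⁻¹ * (t * c) * m⁻¹ := by group
          _ = m * (c : G)⁻¹ * (c * t) * m⁻¹ := by rw [h1]
          _ = m * t * m⁻¹ := by group
      · intro k
        refine Subtype.ext (Subtype.ext (Subtype.ext ?_))
        simp
      · intro c
        refine Subtype.ext ?_
        simp
    have h1 : Nat.card F = Nat.card (Σ x : {x | x ∈ cls K t ∧ x ∈ T}, {k : F // h k = x}) :=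
      Nat.card_congr (Equiv.sigmaFiberEquiv h).symm
    haveI : Fintype {x | x ∈ cls K t ∧ x ∈ T} := Fintype.ofFinite _
    rw [h1, Nat.card_sigma, Finset.sum_congr rfl (fun x _ => hh x), Finset.sum_const,
      Finset.card_univ, ← Nat.card_eq_fintype_card, ← Nat.card_coe_set_eq, smul_eq_mul]
  rw [← hF2, hF1]

end Cfsg.Agent.StdL2.SFive
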